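import Mathlib
import Cfsg.Agent.S3331
import Cfsg.Agent.Lib.Fus.PSLTwo
import Cfsg.Agent.Lib.Grp.Frattini

/-!
An involution whose centralizer has a self-centralizing element of order three modulo it, inverted
by an involution with a four group as centralizer there: every other involution of the centralizer
is conjugate to that involution or to its product with the central one.
-/

set_option autoImplicit false
set_option linter.style.haveILetI false
set_option linter.unusedSectionVars false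

namespace Cfsg.Agent.Recog.SymNine

open Subgroup

universe u

theorem three_invol_conj : ∀ a b : Equiv.Perm (Fin 3), a * a = 1 → a ≠ 1 → b * b = 1 → b ≠ 1 →
    ∃ g, g * a * g⁻¹ = b := by decide +kernel

theorem five_invol_conj : ∀ a : alternatingGroup (Fin 5), a * a = 1 → a ≠ 1 →
    ∃ g, (g * a * g⁻¹ : alternatingGroup (Fin 5)) =
      ⟨Equiv.swap 0 1 * Equiv.swap 2 3, by rw [Equiv.Perm.mem_alternatingGroup]; decide +kernel⟩ := by decide +kernel

/-- A group of order three with its normalizing involution whose centralizer has order at most four. -/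
structure BarHyp {Y : Type u} [Group Y] (τ ε : Y) : Prop where
  τ_sq : τ * τ = 1
  τ_ne : τ ≠ 1
  ε_cube : ε * ε * ε = 1
  ε_ne : ε ≠ 1
  inv : τ * ε * τ = ε * ε
  cent_ε : ∀ g : Y, g * ε = ε * g → g ∈ zpowers ε
  four : ∃ g₀ : Y, ∀ y : Y, y * τ = τ * y → y = 1 ∨ y = τ ∨ y = g₀ ∨ y = g₀ * τ

/-- The shape of a non-trivial four group normalized by the configuration. -/
structure FourShape {Y : Type u} [Group Y] (τ ε i : Y) : Prop where
  ne : i ≠ 1
  ne_τ : i ≠ τ
  sq : i * i = 1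
  fix : τ * i * τ = i
  move : τ * (ε * i * ε⁻¹) * τ = ε * (ε * i * ε⁻¹) * ε⁻¹
  prod : ε * i * ε⁻¹ * (ε * (ε * i * ε⁻¹) * ε⁻¹) = i

namespace BarHyp

variable {Y : Type u} [Group Y] [Finite Y] {τ ε : Y}

theorem ε_inv (h : BarHyp τ ε) : ε⁻¹ = ε * ε :=
  inv_eq_of_mul_eq_one_right (by rw [← mul_assoc, h.ε_cube])

theorem τ_ε (h : BarHyp τ ε) : τ * ε = ε⁻¹ * τ := by
  rw [h.ε_inv, ← h.inv, mul_assoc (τ * ε) τ τ, h.τ_sq, mul_one]

theorem τ_εinv (h : BarHyp τ ε) : τ * ε⁻¹ = ε * τ := by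
  have h1 : ε * τ * ε = τ := by rw [mul_assoc, h.τ_ε, ← mul_assoc, mul_inv_cancel, one_mul]
  calc τ * ε⁻¹ = ε * τ * ε * ε⁻¹ := by rw [h1]
    _ = ε * τ := by group

/-- A nilpotent normal subgroup avoiding the involution and the centralizer of the three-element. -/
theorem kernel_shape (h : BarHyp τ ε) {K : Subgroup Y} [K.Normal] [Group.IsNilpotent K]
    (hτ : τ ∉ K) (hε : ∀ x ∈ K, x * ε = ε * x → x = 1) :
    K = ⊥ ∨ ∃ i ∈ K, FourShape τ ε i ∧
      ∀ x ∈ K, x = 1 ∨ x = i ∨ x = ε * i * ε⁻¹ ∨ x = ε * (ε * i * ε⁻¹) * ε⁻¹ := by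
  by_cases hK : K = ⊥
  · exact Or.inl hK
  right
  haveI : Nontrivial K := (Subgroup.nontrivial_iff_ne_bot K).2 hK
  have hconj : ∀ g : Y, ∀ x ∈ K, g * x * g⁻¹ ∈ K := fun g x hx =>
    Subgroup.Normal.conj_mem inferInstance x hx g
  have hτi : τ⁻¹ = τ := inv_eq_of_mul_eq_one_right h.τ_sq
  have hτK : ∀ {x}, x ∈ K → τ * x * τ ∈ K := fun {x} hx => by
    have := hconj τ x hx; rwa [hτi] at this
  have huniq : ∀ a ∈ K, ∀ b ∈ K, τ * a * τ = a → τ * b * τ = b → a ≠ 1 → b ≠ 1 → a = b := by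
    obtain ⟨g₀, hg₀⟩ := h.four
    intro a ha b hb hat hbt ha1 hb1
    have hc : ∀ y : Y, τ * y * τ = y → y * τ = τ * y := fun y hy => by
      calc y * τ = τ * y * τ * τ := by rw [hy]
        _ = τ * y := by rw [mul_assoc (τ * y), h.τ_sq, mul_one]
    rcases hg₀ a (hc a hat) with e | e | e | e
    · exact absurd e ha1
    · exact absurd (e ▸ ha) hτ
    all_goals
      rcases hg₀ b (hc b hbt) with e' | e' | e' | e'
      · exact absurd e' hb1
      · exact absurd (e' ▸ hb) hτ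
    · rw [e, e']
    · refine absurd ?_ hτ
      have := mul_mem (inv_mem ha) hb
      rwa [e, e', inv_mul_cancel_left] at this
    · refine absurd ?_ hτ
      have := mul_mem (inv_mem hb) ha
      rwa [e, e', inv_mul_cancel_left] at this
    · rw [e, e']
  -- the centre
  set Z := (center K).map K.subtype with hZdef
  have hZK : Z ≤ K := map_subtype_le _
  have hZc : ∀ z ∈ Z, ∀ x ∈ K, z * x = x * z := by
    rintro _ ⟨z, hz, rfl⟩ x hx
    exact (congrArg Subtype.val (mem_center_iff.1 hz ⟨x, hx⟩)).symm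
  have hZn : ∀ g : Y, ∀ z ∈ Z, g * z * g⁻¹ ∈ Z := fun g z hz => by
    refine ⟨⟨g * z * g⁻¹, hconj g z (hZK hz)⟩, mem_center_iff.2 fun x => Subtype.ext ?_, rfl⟩
    show (x : Y) * (g * z * g⁻¹) = g * z * g⁻¹ * x
    calc (x : Y) * (g * z * g⁻¹) = g * (g⁻¹ * x * g * z) * g⁻¹ := by group
      _ = g * (z * (g⁻¹ * x * g)) * g⁻¹ := by
        rw [hZc z hz (g⁻¹ * x * g) (by simpa using hconj g⁻¹ x x.2)]
      _ = _ := by group
  have hZτ : ∀ {z}, z ∈ Z → τ * z * τ ∈ Z := fun {z} hz => by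
    have := hZn τ z hz; rwa [hτi] at this
  -- elements of the centre fixed by the involution after adding their image
  have hsum : ∀ z ∈ Z, τ * (z * (τ * z * τ)) * τ = z * (τ * z * τ) := fun z hz => by
    calc τ * (z * (τ * z * τ)) * τ = τ * z * τ * z * (τ * τ) := by group
      _ = z * (τ * z * τ) := by rw [h.τ_sq, mul_one, hZc z hz _ (hτK (hZK hz))]
  have hker : ∀ z ∈ Z, z * (τ * z * τ) = 1 →
      ε⁻¹ * z * ε * (τ * (ε⁻¹ * z * ε) * τ) = 1 → z = 1 := fun z hz e1 e2 => by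
    refine hε z (hZK hz) ?_
    have h1 : τ * z * τ = z⁻¹ := eq_inv_of_mul_eq_one_right e1
    have h2 : τ * (ε⁻¹ * z * ε) * τ = ε⁻¹ * z⁻¹ * ε := by
      rw [eq_inv_of_mul_eq_one_right e2]; group
    have h3 : τ * (ε⁻¹ * z * ε) * τ = ε * (τ * z * τ) * ε⁻¹ := by
      have he := h.τ_εinv
      calc τ * (ε⁻¹ * z * ε) * τ = τ * ε⁻¹ * z * (τ * (τ * ε * τ)) := by
            rw [show τ * (τ * ε * τ) = τ * τ * ε * τ by group, h.τ_sq]; group
        _ = ε * τ * z * (τ * (ε * ε)) := by rw [he, h.inv]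
        _ = _ := by rw [← h.ε_inv]; group
    rw [h1] at h3
    rw [h2] at h3
    have h4 : ε * z * ε⁻¹ = ε⁻¹ * z * ε := by
      have := congrArg (·⁻¹) h3
      simpa [mul_assoc] using this.symm
    have h5 : ε⁻¹ * z * ε = z := by
      calc ε⁻¹ * z * ε = ε * ε * z * (ε * ε)⁻¹ := by rw [← h.ε_inv, inv_inv]
        _ = ε * (ε * z * ε⁻¹) * ε⁻¹ := by group
        _ = ε * (ε⁻¹ * z * ε) * ε⁻¹ := by rw [h4]
        _ = z := by group
    calc z * ε = ε * (ε⁻¹ * z * ε) := by group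
      _ = ε * z := by rw [h5]
  -- the fixed element
  obtain ⟨i, hiZ, hi1, hit⟩ : ∃ i ∈ Z, i ≠ 1 ∧ τ * i * τ = i := by
    obtain ⟨z, hz, hz1⟩ : ∃ z ∈ Z, z ≠ 1 := by
      have hne := Grp.inf_center_ne_bot (⊤ : Subgroup K) top_ne_bot
      rw [top_inf_eq] at hne
      obtain ⟨⟨z, hzc⟩, hz⟩ := (Subgroup.ne_bot_iff_exists_ne_one).1 hne
      exact ⟨z, ⟨z, hzc, rfl⟩, fun e => hz (Subtype.ext (Subtype.ext e))⟩
    by_cases e1 : z * (τ * z * τ) = 1
    · refine ⟨_, mul_mem ?_ (hZτ ?_), fun e2 => hz1 (hker z hz e1 e2), hsum _ ?_⟩ <;>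
        simpa using hZn ε⁻¹ z hz
    · exact ⟨_, mul_mem hz (hZτ hz), e1, hsum _ hz⟩
  have hfix : ∀ {a}, a ∈ K → τ * a * τ = a → a = 1 ∨ a = i := fun {a} ha hat =>
    (eq_or_ne a 1).imp id fun ha1 => huniq a ha i (hZK hiZ) hat hit ha1 hi1
  have hii : i * i = 1 := by
    rcases hfix (mul_mem (hZK hiZ) (hZK hiZ)) (by
      calc τ * (i * i) * τ = τ * i * τ * (τ * i * τ) := by
            rw [show τ * i * τ * (τ * i * τ) = τ * i * (τ * τ) * i * τ by group, h.τ_sq]; group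
        _ = _ := by rw [hit]) with e | e
    · exact e
    · exact absurd (mul_eq_left.1 e) hi1
  obtain ⟨j, hj⟩ : ∃ j, j = ε * i * ε⁻¹ := ⟨_, rfl⟩
  obtain ⟨k, hk⟩ : ∃ k, k = ε * j * ε⁻¹ := ⟨_, rfl⟩
  have hjZ : j ∈ Z := hj ▸ hZn ε i hiZ
  have hkZ : k ∈ Z := hk ▸ hZn ε j hjZ
  have hj' : ε⁻¹ * j * ε = i := by rw [hj]; group
  have hk' : ε⁻¹ * i * ε = k := by
    rw [hk, hj, show ε * (ε * i * ε⁻¹) * ε⁻¹ = ε * ε * i * (ε * ε)⁻¹ by group, ← h.ε_inv, inv_inv]
  have hjt : τ * j * τ = k := by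
    rw [← hk', hj, show τ * (ε * i * ε⁻¹) * τ = τ * ε * i * (τ * ε)⁻¹ * (τ * τ) by group, h.τ_ε,
      h.τ_sq, show ε⁻¹ * τ * i * (ε⁻¹ * τ)⁻¹ * 1 = ε⁻¹ * (τ * i * τ⁻¹) * ε by group, hτi, hit]
  have hkt : τ * k * τ = j := by
    rw [← hjt, show τ * (τ * j * τ) * τ = τ * τ * j * (τ * τ) by group, h.τ_sq, one_mul, mul_one]
  have hjj : j * j = 1 := by
    rw [hj, show ε * i * ε⁻¹ * (ε * i * ε⁻¹) = ε * (i * i) * ε⁻¹ by group, hii]; group
  have hkk : k * k = 1 := by
    rw [hk, show ε * j * ε⁻¹ * (ε * j * ε⁻¹) = ε * (j * j) * ε⁻¹ by group, hjj]; group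
  have hki : ε * k * ε⁻¹ = i := by rw [← hk']; group
  have hjk : j * k = i := by
    refine (hfix (mul_mem (hZK hjZ) (hZK hkZ)) ?_).resolve_left fun e => ?_
    · calc τ * (j * k) * τ = τ * j * τ * (τ * k * τ) := by
            rw [show τ * j * τ * (τ * k * τ) = τ * j * (τ * τ) * k * τ by group, h.τ_sq]; group
        _ = j * k := by rw [hjt, hkt, hZc j hjZ k (hZK hkZ)]
    · have h1 : k = j := by rw [← mul_eq_one_iff_inv_eq.1 e, inv_eq_of_mul_eq_one_right hjj]
      have hj1 : j = 1 := hε j (hZK hjZ) (mul_inv_eq_iff_eq_mul.1 (hk.symm.trans h1)).symm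
      exact hi1 (by rw [← hj', hj1]; group)
  have hki' : k * i = j := by rw [← hjk, hZc j hjZ k (hZK hkZ), ← mul_assoc, hkk, one_mul]
  have hij : i * j = k := by rw [← hjk, hZc j hjZ k (hZK hkZ), mul_assoc, hjj, mul_one]
  -- the centre has four elements
  have hZfour : ∀ z ∈ Z, z = 1 ∨ z = i ∨ z = j ∨ z = k := by
    have hone : ∀ z ∈ Z, z * (τ * z * τ) = 1 → z = 1 ∨ z = i := fun z hz e1 => by
      have hw : ε⁻¹ * z * ε ∈ Z := by simpa using hZn ε⁻¹ z hz
      rcases hfix (hZK (mul_mem hw (hZτ hw))) (hsum _ hw) with e2 | e2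
      · exact Or.inl (hker z hz e1 e2)
      · right
        have e3 : z * i = 1 := by
          refine hker _ (mul_mem hz hiZ) ?_ ?_
          · rw [show τ * (z * i) * τ = τ * z * (τ * τ) * i * τ by rw [h.τ_sq]; group,
              show τ * z * (τ * τ) * i * τ = τ * z * τ * (τ * i * τ) by group, hit,
              show z * i * (τ * z * τ * i) = z * (i * (τ * z * τ)) * i by group,
              hZc i hiZ _ (hτK (hZK hz)), show z * (τ * z * τ * i) * i = z * (τ * z * τ) * (i * i) by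
                group, e1, hii, mul_one]
          · rw [show ε⁻¹ * (z * i) * ε = ε⁻¹ * z * ε * (ε⁻¹ * i * ε) by group, hk',
              show τ * (ε⁻¹ * z * ε * k) * τ = τ * (ε⁻¹ * z * ε) * (τ * τ) * k * τ by
                rw [h.τ_sq]; group,
              show τ * (ε⁻¹ * z * ε) * (τ * τ) * k * τ = τ * (ε⁻¹ * z * ε) * τ * (τ * k * τ) by group,
              hkt, show ε⁻¹ * z * ε * k * (τ * (ε⁻¹ * z * ε) * τ * j) =
                ε⁻¹ * z * ε * (k * (τ * (ε⁻¹ * z * ε) * τ)) * j by group,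
              hZc k hkZ _ (hτK (hZK hw)), show ε⁻¹ * z * ε * (τ * (ε⁻¹ * z * ε) * τ * k) * j =
                ε⁻¹ * z * ε * (τ * (ε⁻¹ * z * ε) * τ) * (k * j) by group, e2,
              ← hZc j hjZ k (hZK hkZ), hjk, hii]
        rw [mul_eq_one_iff_eq_inv.1 e3, inv_eq_of_mul_eq_one_right hii]
    intro z hz
    rcases hfix (hZK (mul_mem hz (hZτ hz))) (hsum z hz) with e1 | e1
    · rcases hone z hz e1 with e | e
      exacts [Or.inl e, Or.inr (Or.inl e)]
    · have h1 : z * j * (τ * (z * j) * τ) = 1 := by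
        rw [show τ * (z * j) * τ = τ * z * (τ * τ) * j * τ by rw [h.τ_sq]; group,
          show τ * z * (τ * τ) * j * τ = τ * z * τ * (τ * j * τ) by group, hjt,
          show z * j * (τ * z * τ * k) = z * (j * (τ * z * τ)) * k by group,
          hZc j hjZ _ (hτK (hZK hz)), show z * (τ * z * τ * j) * k = z * (τ * z * τ) * (j * k) by
            group, e1, hjk, hii]
      rcases hone _ (mul_mem hz hjZ) h1 with e | e
      · exact Or.inr (Or.inr (Or.inl (by
          rw [mul_eq_one_iff_eq_inv.1 e, inv_eq_of_mul_eq_one_right hjj])))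
      · exact Or.inr (Or.inr (Or.inr (by rw [← hij, ← e, mul_assoc, hjj, mul_one])))
  -- the centre is everything
  have hstep : ∀ x ∈ K, (∀ y ∈ K, x⁻¹ * y⁻¹ * x * y ∈ Z) → x ∈ Z := by
    have hP : ∀ a ∈ K, a⁻¹ * (τ * a * τ) ∈ Z → a ∈ Z := fun a ha hz => by
      have hinv : τ * (a⁻¹ * (τ * a * τ)) * τ = (a⁻¹ * (τ * a * τ))⁻¹ := by
        rw [show τ * (a⁻¹ * (τ * a * τ)) * τ = τ * a⁻¹ * τ * a * (τ * τ) by group, h.τ_sq,
          mul_inv_rev, mul_inv_rev, mul_inv_rev, hτi, inv_inv]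
        group
      rcases hZfour _ hz with e | e | e | e
      · rcases hfix ha (inv_mul_eq_one.1 e).symm with e' | e' <;> rw [e']
        exacts [one_mem _, hiZ]
      · have h1 : τ * (a * j) * τ = a * j := by
          rw [show τ * (a * j) * τ = τ * a * (τ * τ) * j * τ by rw [h.τ_sq]; group,
            show τ * a * (τ * τ) * j * τ = τ * a * τ * (τ * j * τ) by group, hjt,
            inv_mul_eq_iff_eq_mul.1 e, mul_assoc]
          rw [hZc i hiZ k (hZK hkZ), hki']
        rcases hfix (mul_mem ha (hZK hjZ)) h1 with e' | e'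
        · rw [mul_eq_one_iff_eq_inv.1 e']; exact inv_mem hjZ
        · rw [eq_mul_inv_of_mul_eq e']; exact mul_mem hiZ (inv_mem hjZ)
      · exfalso
        rw [e, hjt, inv_eq_of_mul_eq_one_right hjj] at hinv
        refine hi1 ?_
        rw [← hjk, hinv, hjj]
      · exfalso
        rw [e, hkt, inv_eq_of_mul_eq_one_right hkk] at hinv
        refine hi1 ?_
        rw [← hjk, hinv, hkk]
    intro x hx hxW
    have hA : ∀ y ∈ K, (∀ y' ∈ K, y⁻¹ * y'⁻¹ * y * y' ∈ Z) → y * (τ * y * τ) ∈ Z := fun y hy hyW => by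
      refine hP _ (mul_mem hy (hτK hy)) ?_
      have h1 := inv_mem (hyW (τ * y * τ) (hτK hy))
      rw [show (y * (τ * y * τ))⁻¹ * (τ * (y * (τ * y * τ)) * τ) =
        (τ * y * τ)⁻¹ * y⁻¹ * (τ * y * τ * y * (τ * τ)) by group, h.τ_sq, mul_one]
      rwa [show (y⁻¹ * (τ * y * τ)⁻¹ * y * (τ * y * τ))⁻¹ =
        (τ * y * τ)⁻¹ * y⁻¹ * (τ * y * τ * y) by group] at h1
    obtain ⟨z₁, hz₁, e1⟩ : ∃ z₁ ∈ Z, τ * x * τ = x⁻¹ * z₁ :=
      ⟨x * (τ * x * τ), hA x hx hxW, by group⟩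
    have hw : ε⁻¹ * x * ε ∈ K := by simpa using hconj ε⁻¹ x hx
    have hwW : ∀ y' ∈ K, (ε⁻¹ * x * ε)⁻¹ * y'⁻¹ * (ε⁻¹ * x * ε) * y' ∈ Z := fun y' hy' => by
      have := hZn ε⁻¹ _ (hxW (ε * y' * ε⁻¹) (hconj ε y' hy'))
      refine (congrArg (· ∈ Z) ?_).mp this
      group
    obtain ⟨z₂, hz₂, e2⟩ : ∃ z₂ ∈ Z, τ * (ε⁻¹ * x * ε) * τ = ε⁻¹ * x⁻¹ * ε * z₂ :=
      ⟨ε⁻¹ * x * ε * (τ * (ε⁻¹ * x * ε) * τ), hA _ hw hwW, by group⟩
    -- the three-element fixes the coset
    have hc : x⁻¹ * (ε * x * ε⁻¹) ∈ Z := by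
      have he := h.τ_εinv
      have h3 : τ * (ε⁻¹ * x * ε) * τ = ε * (τ * x * τ) * ε⁻¹ := by
        rw [show τ * (ε⁻¹ * x * ε) * τ = τ * ε⁻¹ * x * (τ⁻¹ * ε⁻¹)⁻¹ by group, hτi, he,
          mul_inv_rev, hτi]
        group
      rw [e2, e1] at h3
      have h4 : ε⁻¹ * x⁻¹ * ε * z₂ * (ε * z₁ * ε⁻¹)⁻¹ = ε * x⁻¹ * ε⁻¹ := by rw [h3]; group
      have hz : z₂ * (ε * z₁ * ε⁻¹)⁻¹ ∈ Z := mul_mem hz₂ (inv_mem (hZn ε _ hz₁))
      have h5 := hZn ε _ hz
      have h6 : ε * ε * x * (ε * ε)⁻¹ = x * (ε * (z₂ * (ε * z₁ * ε⁻¹)⁻¹) * ε⁻¹)⁻¹ := by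
        have := congrArg (fun y => (ε * y * ε⁻¹)⁻¹) h4
        calc ε * ε * x * (ε * ε)⁻¹ = (ε * (ε * x⁻¹ * ε⁻¹) * ε⁻¹)⁻¹ := by
              simp only [mul_inv_rev, inv_inv, mul_assoc]
          _ = (ε * (z₂ * (ε * z₁ * ε⁻¹)⁻¹) * ε⁻¹)⁻¹ * x := by rw [← this]; group
          _ = _ := hZc _ (inv_mem h5) x hx
      rw [← h.ε_inv, inv_inv] at h6
      have h7 : x⁻¹ * (ε⁻¹ * x * ε) ∈ Z := by
        rw [h6, inv_mul_cancel_left]; exact inv_mem h5
      have h8 := hZn ε _ (inv_mem h7)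
      rw [show ε * (x⁻¹ * (ε⁻¹ * x * ε))⁻¹ * ε⁻¹ = x⁻¹ * (ε * x * ε⁻¹) by group] at h8
      exact h8
    obtain ⟨z, hz, hzz⟩ : ∃ z ∈ Z, z * (ε * z * ε⁻¹) = x⁻¹ * (ε * x * ε⁻¹) ∧ z * z = 1 := by
      rcases hZfour _ hc with e | e | e | e <;> rw [e]
      · exact ⟨1, one_mem _, by group, one_mul 1⟩
      · exact ⟨j, hjZ, by rw [← hk, hjk], hjj⟩
      · exact ⟨k, hkZ, by rw [hki, hki'], hkk⟩
      · exact ⟨i, hiZ, by rw [← hj, hij], hii⟩
    have hzi : z⁻¹ = z := inv_eq_of_mul_eq_one_right hzz.2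
    have hy : ε * (x * z) * ε⁻¹ = x * z := by
      calc ε * (x * z) * ε⁻¹ = x * (x⁻¹ * (ε * x * ε⁻¹)) * (ε * z * ε⁻¹) := by group
        _ = x * (z * (ε * z * ε⁻¹)) * (ε * z * ε⁻¹) := by rw [hzz.1]
        _ = x * z * (ε * (z * z) * ε⁻¹) := by group
        _ = x * z := by rw [hzz.2]; group
    have h1 := hε (x * z) (mul_mem hx (hZK hz)) (mul_inv_eq_iff_eq_mul.1 hy).symm
    rw [mul_eq_one_iff_eq_inv.1 h1]
    exact inv_mem hz
  have hall : ∀ x ∈ K, x ∈ Z := by
    by_contra hcon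
    push Not at hcon
    obtain ⟨x, hx, hxZ⟩ := hcon
    haveI : Nontrivial (K ⧸ center K) := ⟨⟨QuotientGroup.mk ⟨x, hx⟩, 1, fun e =>
      hxZ ⟨⟨x, hx⟩, (QuotientGroup.eq_one_iff _).1 e, rfl⟩⟩⟩
    have hne := Grp.inf_center_ne_bot (⊤ : Subgroup (K ⧸ center K)) top_ne_bot
    rw [top_inf_eq] at hne
    obtain ⟨⟨q, hq⟩, hq1⟩ := (Subgroup.ne_bot_iff_exists_ne_one).1 hne
    obtain ⟨w, rfl⟩ := QuotientGroup.mk_surjective q
    have hwZ : (w : Y) ∈ Z := by
      refine hstep w w.2 fun y hy => ?_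
      have h1 := mem_center_iff.1 hq (QuotientGroup.mk ⟨y, hy⟩)
      refine ⟨w⁻¹ * ⟨y, hy⟩⁻¹ * w * ⟨y, hy⟩, ?_, rfl⟩
      refine (QuotientGroup.eq_one_iff _).1 ?_
      rw [QuotientGroup.mk_mul, QuotientGroup.mk_mul, QuotientGroup.mk_mul, QuotientGroup.mk_inv,
        QuotientGroup.mk_inv, mul_assoc _ (QuotientGroup.mk w) _, ← h1]
      group
    obtain ⟨w', hw', hww⟩ := hwZ
    obtain rfl : w' = w := Subtype.ext hww
    exact hq1 (Subtype.ext ((QuotientGroup.eq_one_iff _).2 hw'))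
  refine ⟨i, hZK hiZ, ⟨hi1, fun e => hτ (e ▸ hZK hiZ), hii, hit, by rw [← hj, ← hk, hjt],
    by rw [← hj, ← hk, hjk]⟩, fun x hx => ?_⟩
  rw [← hj, ← hk]
  exact hZfour x (hall x hx)

/-- Every involution is fused to the distinguished one or lies in a four group of the kernel. -/
theorem fused (h : BarHyp τ ε) {ω : Y} (hω : ω * ω = 1) (hω1 : ω ≠ 1) :
    (∃ g, g * ω * g⁻¹ = τ) ∨ ∃ i, FourShape τ ε i ∧
      (ω = i ∨ ω = ε * i * ε⁻¹ ∨ ω = ε * (ε * i * ε⁻¹) * ε⁻¹) := by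
  classical
  haveI : Fact (Nat.Prime 2) := ⟨Nat.prime_two⟩
  haveI : Fact (Nat.Prime 3) := ⟨Nat.prime_three⟩
  have hoε : orderOf ε = 3 := orderOf_eq_prime (by rw [pow_three', h.ε_cube]) h.ε_ne
  have hτout : ∀ (K : Subgroup Y) [K.Normal], ε ∉ K → τ ∉ K := fun K _ hε hτ => by
    refine hε ((QuotientGroup.eq_one_iff _).1 ?_)
    have h1 := congrArg (QuotientGroup.mk' K) h.inv
    rw [map_mul, map_mul, show QuotientGroup.mk' K τ = 1 from (QuotientGroup.eq_one_iff _).2 hτ,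
      one_mul, mul_one, map_mul] at h1
    exact left_eq_mul.1 h1
  have hfree : ∀ (K : Subgroup Y) [K.Normal], ε ∉ K → ∀ x ∈ K, x * ε = ε * x → x = 1 := by
    intro K _ hεK x hx hc
    obtain ⟨n, rfl⟩ := h.cent_ε x hc
    by_contra hne
    refine hεK ?_
    have hle : zpowers ε ⊓ K = zpowers ε := by
      refine Subgroup.eq_of_le_of_card_ge inf_le_left ?_
      have hd : Nat.card (zpowers ε ⊓ K : Subgroup Y) ∣ 3 := by
        rw [← hoε, ← Nat.card_zpowers ε]; exact Subgroup.card_dvd_of_le inf_le_left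
      rcases (Nat.dvd_prime Nat.prime_three).1 hd with e | e
      · exact absurd (mem_bot.1 (eq_bot_of_card_eq _ e ▸ ⟨⟨n, rfl⟩, hx⟩)) hne
      · rw [e, Nat.card_zpowers, hoε]
    exact (hle.ge (mem_zpowers ε)).2
  obtain ⟨N, hN, hnil, hN3, hq⟩ | ⟨M, hM, -, hM2, ⟨φ⟩⟩ | ⟨⟨φ⟩⟩ := S3331.result (zpowers ε)
    (by rw [Nat.card_zpowers, hoε]) (le_antisymm
      (fun g hg => h.cent_ε g (mem_centralizer_iff.1 hg ε (mem_zpowers ε)).symm)
      fun g hg => mem_centralizer_iff.2 fun y hy => by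
        obtain ⟨a, rfl⟩ := hy; obtain ⟨b, rfl⟩ := hg
        exact (Commute.zpow_zpow_self ε a b).eq)
  · haveI := hN
    haveI := hnil
    have hεN : ε ∉ N := fun he => by
      have h1 : 3 ∣ Nat.card N := hoε ▸ Subgroup.orderOf_dvd_natCard N he
      rw [Nat.coprime_comm, Nat.Prime.coprime_iff_not_dvd Nat.prime_three] at hN3
      exact hN3 h1
    have hτN := hτout N hεN
    have hτbar : QuotientGroup.mk' N τ ≠ 1 := fun e => hτN ((QuotientGroup.eq_one_iff _).1 e)
    have hτbar2 : QuotientGroup.mk' N τ * QuotientGroup.mk' N τ = 1 := by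
      rw [← map_mul, h.τ_sq, map_one]
    rcases hq with hq | ⟨⟨φ⟩⟩
    · exfalso
      have h1 : orderOf (QuotientGroup.mk' N τ) ∣ 3 := hq ▸ orderOf_dvd_natCard _
      rw [orderOf_eq_prime (p := 2) (by rw [pow_two]; exact hτbar2) hτbar] at h1
      norm_num at h1
    have hin : ∀ x ∈ N, x * x = 1 → x ≠ 1 → ∃ i, FourShape τ ε i ∧
        (x = i ∨ x = ε * i * ε⁻¹ ∨ x = ε * (ε * i * ε⁻¹) * ε⁻¹) := fun x hx _ hx1 => by
      rcases h.kernel_shape hτN (hfree N hεN) with e | ⟨i, -, hi, hall⟩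
      · exact absurd (mem_bot.1 (e ▸ hx)) hx1
      · exact ⟨i, hi, (hall x hx).resolve_left hx1⟩
    by_cases hωN : ω ∈ N
    · exact Or.inr (hin ω hωN hω hω1)
    left
    obtain ⟨g', hg'⟩ := three_invol_conj (φ (QuotientGroup.mk' N ω)) (φ (QuotientGroup.mk' N τ))
      (by rw [← map_mul, ← map_mul, hω, map_one, map_one])
      (fun e => hωN ((QuotientGroup.eq_one_iff _).1 ((map_eq_one_iff φ φ.injective).1 e)))
      (by rw [← map_mul, hτbar2, map_one]) (fun e => hτbar ((map_eq_one_iff φ φ.injective).1 e))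
    obtain ⟨g, rfl⟩ := φ.surjective g'
    obtain ⟨g, rfl⟩ := QuotientGroup.mk'_surjective N g
    rw [← map_inv, ← map_mul, ← map_mul, φ.injective.eq_iff, ← map_inv, ← map_mul, ← map_mul] at hg'
    have hτi : τ⁻¹ = τ := inv_eq_of_mul_eq_one_right h.τ_sq
    have hq : g * ω * g⁻¹ * τ ∈ N := by
      refine (QuotientGroup.eq_one_iff _).1 ?_
      show QuotientGroup.mk' N _ = 1
      rw [map_mul _ (g * ω * g⁻¹), hg', hτbar2]
    set q := g * ω * g⁻¹ * τ with hqdef
    have hω' : q * τ = g * ω * g⁻¹ := by rw [hqdef, mul_assoc, h.τ_sq, mul_one]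
    have hqinv : τ * q * τ = q⁻¹ := by
      rw [eq_inv_iff_mul_eq_one]
      calc τ * q * τ * q = τ * (q * τ * (q * τ)) * τ⁻¹ := by group
        _ = τ * (g * (ω * ω) * g⁻¹) * τ⁻¹ := by rw [hω']; group
        _ = 1 := by rw [hω]; group
    rcases h.kernel_shape hτN (hfree N hεN) with e | ⟨i, -, hi, hall⟩
    · rw [e, mem_bot] at hq
      exact ⟨g, by rw [← hω', hq, one_mul]⟩
    have hjj : ε * i * ε⁻¹ * (ε * i * ε⁻¹) = 1 := by
      rw [show ε * i * ε⁻¹ * (ε * i * ε⁻¹) = ε * (i * i) * ε⁻¹ by group, hi.sq]; group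
    have hjne : ε * (ε * i * ε⁻¹) * ε⁻¹ ≠ ε * i * ε⁻¹ := fun e => hi.ne (by
      rw [← hi.prod, e, hjj])
    rcases hall q hq with e | e | e | e
    · exact ⟨g, by rw [← hω', e, one_mul]⟩
    · refine ⟨ε * i * ε⁻¹ * g, ?_⟩
      calc ε * i * ε⁻¹ * g * ω * (ε * i * ε⁻¹ * g)⁻¹
          = ε * i * ε⁻¹ * (q * τ) * (ε * i * ε⁻¹)⁻¹ := by rw [hω']; group
        _ = ε * i * ε⁻¹ * (i * τ) * (ε * i * ε⁻¹) := by
          rw [e, inv_eq_of_mul_eq_one_right hjj]
        _ = ε * i * ε⁻¹ * i * (τ * (ε * i * ε⁻¹) * τ) * τ⁻¹ := by group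
        _ = ε * i * ε⁻¹ * i * (ε * (ε * i * ε⁻¹) * ε⁻¹) * τ := by rw [hi.move, hτi]
        _ = τ := ?_
      generalize hjd : ε * i * ε⁻¹ = j at hi hjj hjne ⊢
      generalize hkd : ε * j * ε⁻¹ = k at hi hjj hjne ⊢
      have hp : j * k = i := by rw [← hjd, ← hkd, ← hjd]; exact hi.prod
      rw [← hp, show j * (j * k) * k = j * j * (k * k) by group, hjj,
        show k * k = ε * (j * j) * ε⁻¹ by rw [← hkd]; group, hjj]
      group
    · exfalso
      rw [e, hi.move, inv_eq_of_mul_eq_one_right hjj] at hqinv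
      exact hjne hqinv
    · exfalso
      refine hjne ?_
      have h2 := congrArg (fun y => τ * y * τ) hi.move
      rw [show τ * (τ * (ε * i * ε⁻¹) * τ) * τ = τ * τ * (ε * i * ε⁻¹) * (τ * τ) by group, h.τ_sq,
        one_mul, mul_one] at h2
      rw [e, ← h2, show (ε * (ε * i * ε⁻¹) * ε⁻¹)⁻¹ = ε * (ε * i * ε⁻¹)⁻¹ * ε⁻¹ by
        simp only [mul_inv_rev, inv_inv, mul_assoc],
        inv_eq_of_mul_eq_one_right hjj] at hqinv
      exact hqinv.symm
  · haveI := hM
    have hεM : ε ∉ M := fun he => h.ε_ne (by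
      have h1 := h.ε_cube
      rwa [← pow_two, hM2 ε he, one_mul] at h1)
    have hτM := hτout M hεM
    have hMp : IsPGroup 2 M := fun x => ⟨1, Subtype.ext (by simpa using hM2 x x.2)⟩
    haveI : Group.IsNilpotent M := hMp.isNilpotent
    have hbot : M = ⊥ := by
      refine (h.kernel_shape hτM (hfree M hεM)).resolve_right ?_
      rintro ⟨i, hiM, hi, hall⟩
      have hcard : Nat.card M ≤ 4 := by
        rw [show (4 : ℕ) = Nat.card (Fin 4) by simp]
        refine Nat.card_le_card_of_surjective (fun n : Fin 4 =>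
          (![1, ⟨i, hiM⟩, ⟨_, Subgroup.Normal.conj_mem inferInstance i hiM ε⟩,
            ⟨_, Subgroup.Normal.conj_mem inferInstance _
              (Subgroup.Normal.conj_mem inferInstance i hiM ε) ε⟩] : Fin 4 → M) n) ?_
        rintro ⟨x, hx⟩
        rcases hall x hx with e | e | e | e
        exacts [⟨0, Subtype.ext e.symm⟩, ⟨1, Subtype.ext e.symm⟩, ⟨2, Subtype.ext e.symm⟩,
          ⟨3, Subtype.ext e.symm⟩]
      have hcomm : ∀ a b : M, a * b = b * a := fun a b => by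
        have hs : ∀ c : M, c⁻¹ = c := fun c => inv_eq_of_mul_eq_one_right
          (Subtype.ext (by simpa [pow_two] using hM2 c c.2))
        calc a * b = (a * b)⁻¹ := (hs _).symm
          _ = b * a := by rw [mul_inv_rev, hs, hs]
      let ψ : Y →* Equiv.Perm M := (MulAut.toPerm M).comp MulAut.conjNormal
      have hψ : M ≤ ψ.ker := fun m hm => Equiv.ext fun x => Subtype.ext (by
        show m * (x : Y) * m⁻¹ = x
        rw [show m * (x : Y) = x * m from congrArg Subtype.val (hcomm ⟨m, hm⟩ x),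
          mul_inv_cancel_right])
      let f : alternatingGroup (Fin 5) →* Equiv.Perm M :=
        (QuotientGroup.lift M ψ hψ).comp φ.symm.toMonoidHom
      rcases (MonoidHom.normal_ker f).eq_bot_or_eq_top with e | e
      · have h1 := Nat.card_le_card_of_injective f ((MonoidHom.ker_eq_bot_iff f).1 e)
        rw [show Nat.card (alternatingGroup (Fin 5)) = 60 by
          rw [Nat.card_eq_fintype_card]; decide +kernel, Nat.card_perm] at h1
        have h2 : (Nat.card M).factorial ≤ 24 := Nat.factorial_le hcard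
        omega
      · have h1 : f (φ (QuotientGroup.mk ε)) = 1 := by
          rw [← MonoidHom.mem_ker, e]; exact mem_top _
        have h2 : ψ ε = 1 := by simpa [f] using h1
        have h3 : ε * i * ε⁻¹ = i := congrArg Subtype.val (Equiv.congr_fun h2 ⟨i, hiM⟩)
        exact hi.ne (by rw [← hi.prod, h3, h3, hi.sq])
    left
    have hne : ∀ {x : Y}, x ≠ 1 → φ (QuotientGroup.mk' M x) ≠ 1 := fun {x} hx e => hx (by
      have := (QuotientGroup.eq_one_iff _).1 ((map_eq_one_iff φ φ.injective).1 e)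
      rwa [hbot, mem_bot] at this)
    have hsq : ∀ {x : Y}, x * x = 1 → φ (QuotientGroup.mk' M x) * φ (QuotientGroup.mk' M x) = 1 :=
      fun {x} hx => by rw [← map_mul, ← map_mul, hx, map_one, map_one]
    obtain ⟨a, ha⟩ := five_invol_conj _ (hsq hω) (hne hω1)
    obtain ⟨b, hb⟩ := five_invol_conj _ (hsq h.τ_sq) (hne h.τ_ne)
    obtain ⟨g, hg⟩ := φ.surjective (b⁻¹ * a)
    obtain ⟨g, rfl⟩ := QuotientGroup.mk'_surjective M g
    refine ⟨g, ?_⟩
    have h1 : g * ω * g⁻¹ * τ⁻¹ ∈ M := by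
      refine (QuotientGroup.eq_one_iff _).1 (φ.injective ?_)
      show φ (QuotientGroup.mk' M _) = φ 1
      simp only [map_mul, map_inv, map_one]
      rw [hg, show φ (QuotientGroup.mk' M τ) = b⁻¹ * (a * φ (QuotientGroup.mk' M ω) * a⁻¹) * b by
        rw [ha, ← hb]; group]
      group
    rw [hbot, mem_bot, mul_inv_eq_one] at h1
    exact h1
  · left
    haveI : Fact (Nat.Prime 7) := ⟨by norm_num⟩
    have ho : ∀ {x : Y}, x * x = 1 → x ≠ 1 → orderOf (φ x) = 2 := fun {x} hx hx1 => by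
      rw [MulEquiv.orderOf_eq]; exact orderOf_eq_prime (by rw [pow_two, hx]) hx1
    obtain ⟨c, hc⟩ := isConj_iff.1 (Fus.PSLTwo.involutions_conj (F := ZMod 7) (by rw [ZMod.card])
      (ho hω hω1) (ho h.τ_sq h.τ_ne))
    obtain ⟨g, rfl⟩ := φ.surjective c
    exact ⟨g, φ.injective (by rw [map_mul, map_mul, map_inv]; exact hc)⟩

end BarHyp

/-- The configuration: `u` central, `t` an involution with centralizer of order four, `e` of order
three inverted by `t` and self-centralizing modulo `u`. -/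
structure UHyp {X : Type u} [Group X] (u t e : X) : Prop where
  u_central : ∀ g : X, g * u = u * g
  u_sq : u * u = 1
  u_ne : u ≠ 1
  t_sq : t * t = 1
  t_ne : t ≠ 1
  t_ne_u : t ≠ u
  cent_t : ∀ g : X, g * t = t * g → g = 1 ∨ g = u ∨ g = t ∨ g = t * u
  e_cube : e * e * e = 1
  e_ne : e ≠ 1
  inv : t * e * t = e * e
  cent_e : ∀ g : X, g * e = e * g → ∃ i : ℕ, g = e ^ i ∨ g = e ^ i * u

namespace UHyp

variable {X : Type u} [Group X] [Finite X] {u t e : X}

/-- The line of the central involution. -/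
theorem normal_u (h : UHyp u t e) : (zpowers u).Normal :=
  ⟨fun z hz g => by
    obtain ⟨n, rfl⟩ := hz
    rw [((show Commute g u from h.u_central g).zpow_right n).eq, mul_inv_cancel_right]
    exact ⟨n, rfl⟩⟩

theorem mem_u (h : UHyp u t e) {z : X} (hz : z ∈ zpowers u) : z = 1 ∨ z = u := by
  obtain ⟨n, rfl⟩ := hz
  rcases Int.even_or_odd n with ⟨m, hm⟩ | ⟨m, hm⟩
  · left
    show u ^ n = 1
    rw [hm, ← two_mul, zpow_mul, zpow_two, h.u_sq, one_zpow]
  · right
    show u ^ n = u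
    rw [hm, zpow_add, zpow_mul, zpow_two, h.u_sq, one_zpow, one_mul, zpow_one]

/-- Every involution other than the central one is fused to the involution or its product with it. -/
theorem classify (h : UHyp u t e) {w : X} (hw : w * w = 1) (hw1 : w ≠ 1) (hwu : w ≠ u) :
    ∃ g, g * w * g⁻¹ = t ∨ g * w * g⁻¹ = t * u := by
  classical
  haveI := h.normal_u
  set π := QuotientGroup.mk' (zpowers u) with hπ
  have hpu : π u = 1 := (QuotientGroup.eq_one_iff _).2 (mem_zpowers u)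
  have hker : ∀ {g g' : X}, π g = π g' → g' = g ∨ g' = g * u := by
    intro g g' hgg
    rcases h.mem_u (QuotientGroup.eq.1 hgg) with e1 | e1
    · exact Or.inl (inv_mul_eq_one.1 e1).symm
    · exact Or.inr (inv_mul_eq_iff_eq_mul.1 e1)
  have hsurj := QuotientGroup.mk'_surjective (zpowers u)
  have h1 : ∀ {g : X}, π g = 1 → g = 1 ∨ g = u := fun {g} hg =>
    h.mem_u ((QuotientGroup.eq_one_iff _).1 hg)
  have hcu := h.u_central
  have hti : t⁻¹ = t := inv_eq_of_mul_eq_one_right h.t_sq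
  have hu3 : u * u * u = u := by rw [h.u_sq, one_mul]
  have hbar : BarHyp (π t) (π e) := by
    refine ⟨by rw [← map_mul, h.t_sq, map_one], fun e1 => ?_, by
      rw [← map_mul, ← map_mul, h.e_cube, map_one], fun e1 => ?_, by
      rw [← map_mul, ← map_mul, h.inv, map_mul], fun y hy => ?_, ?_⟩
    · exact (h1 e1).elim h.t_ne h.t_ne_u
    · rcases h1 e1 with e2 | e2
      · exact h.e_ne e2
      · have h3 := h.e_cube
        rw [e2, hu3] at h3
        exact h.u_ne h3
    · obtain ⟨g, rfl⟩ := hsurj y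
      rw [← map_mul, ← map_mul] at hy
      have hge : g * e = e * g := by
        rcases hker hy with e2 | e2
        · exact e2.symm
        · exfalso
          have h4 : g⁻¹ * e * g = e * u := by
            rw [mul_assoc g⁻¹, e2]; group
          have h5 : (e * u) * (e * u) * (e * u) = 1 := by
            rw [← h4, show g⁻¹ * e * g * (g⁻¹ * e * g) * (g⁻¹ * e * g) = g⁻¹ * (e * e * e) * g by
              group, h.e_cube]
            group
          have hc : Commute e u := hcu e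
          rw [← pow_three', hc.mul_pow, pow_three', h.e_cube, one_mul, pow_three', hu3] at h5
          exact h.u_ne h5
      obtain ⟨n, hn | hn⟩ := h.cent_e g hge
      · exact ⟨n, show π e ^ (n : ℤ) = π g by rw [zpow_natCast, hn, map_pow]⟩
      · exact ⟨n, show π e ^ (n : ℤ) = π g by rw [zpow_natCast, hn, map_mul, hpu, mul_one, map_pow]⟩
    · have hcase : ∀ g : X, π g * π t = π t * π g → g * t * g⁻¹ = t ∨ g * t * g⁻¹ = t * u :=
        fun g hg => hker (by rw [map_mul, map_mul, map_inv, hg, mul_inv_cancel_right])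
      have hin : ∀ g : X, g * t * g⁻¹ = t → π g = 1 ∨ π g = π t := fun g hg => by
        rcases h.cent_t g (mul_inv_eq_iff_eq_mul.1 hg) with e1 | e1 | e1 | e1 <;> rw [e1]
        exacts [Or.inl (map_one π), Or.inl hpu, Or.inr rfl, Or.inr (by rw [map_mul, hpu, mul_one])]
      by_cases hex : ∃ g₀ : X, g₀ * t * g₀⁻¹ = t * u
      · obtain ⟨g₀, hg₀⟩ := hex
        refine ⟨π g₀, fun y hy => ?_⟩
        obtain ⟨g, rfl⟩ := hsurj y
        rcases hcase g hy with e1 | e1
        · rcases hin g e1 with e2 | e2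
          exacts [Or.inl e2, Or.inr (Or.inl e2)]
        · have e3 : (g₀⁻¹ * g) * t * (g₀⁻¹ * g)⁻¹ = t := by
            calc g₀⁻¹ * g * t * (g₀⁻¹ * g)⁻¹ = g₀⁻¹ * (g * t * g⁻¹) * g₀ := by group
              _ = _ := by rw [e1, ← hg₀]; group
          rcases hin _ e3 with e2 | e2 <;> rw [map_mul, map_inv, inv_mul_eq_iff_eq_mul] at e2
          · exact Or.inr (Or.inr (Or.inl (by rw [e2, mul_one])))
          · exact Or.inr (Or.inr (Or.inr e2))
      · refine ⟨1, fun y hy => ?_⟩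
        obtain ⟨g, rfl⟩ := hsurj y
        rcases hcase g hy with e1 | e1
        · rcases hin g e1 with e2 | e2
          exacts [Or.inl e2, Or.inr (Or.inl e2)]
        · exact absurd ⟨g, e1⟩ hex
  have hw2 : π w * π w = 1 := by rw [← map_mul, hw, map_one]
  have hwne : π w ≠ 1 := fun e1 => (h1 e1).elim hw1 hwu
  rcases hbar.fused hw2 hwne with ⟨y, hy⟩ | ⟨ib, hi, hcase⟩
  · obtain ⟨g, rfl⟩ := hsurj y
    rw [← map_inv, ← map_mul, ← map_mul] at hy
    exact ⟨g, hker hy.symm⟩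
  · exfalso
    obtain ⟨i, rfl⟩ := hsurj ib
    have hfixV : ∀ {g : X}, t * g * t = g → π g ≠ π i := fun {g} hg e1 => by
      have hgt : g * t = t * g := by
        calc g * t = t * g * t * t := by rw [hg]
          _ = t * g := by rw [mul_assoc (t * g), h.t_sq, mul_one]
      rcases h.cent_t g hgt with e2 | e2 | e2 | e2 <;> rw [e2] at e1
      · exact hi.ne (by rw [← e1, map_one])
      · exact hi.ne (by rw [← e1, hpu])
      · exact hi.ne_τ e1.symm
      · exact hi.ne_τ (by rw [← e1, map_mul, hpu, mul_one])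
    have hit : t * i * t = i * u := by
      refine (hker (show π i = π (t * i * t) by rw [map_mul, map_mul, hi.fix])).resolve_left ?_
      exact fun e1 => hfixV e1 rfl
    have hii : i * i = u := by
      refine (h1 (show π (i * i) = 1 by rw [map_mul, hi.sq])).resolve_left fun e1 => ?_
      obtain ⟨j, hj⟩ : ∃ j, j = e * i * e⁻¹ := ⟨_, rfl⟩
      obtain ⟨k, hk⟩ : ∃ k, k = e * j * e⁻¹ := ⟨_, rfl⟩
      have hj2 : j * j = 1 := by
        rw [hj, show e * i * e⁻¹ * (e * i * e⁻¹) = e * (i * i) * e⁻¹ by group, e1]; group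
      have hk2 : k * k = 1 := by
        rw [hk, show e * j * e⁻¹ * (e * j * e⁻¹) = e * (j * j) * e⁻¹ by group, hj2]; group
      have hπjk : π (j * k) = π i := by
        rw [hk, hj]; simp only [map_mul, map_inv]; exact hi.prod
      have hjk2 : j * k * (j * k) = 1 := by
        rcases hker hπjk.symm with e2 | e2 <;> rw [e2]
        · exact e1
        · rw [show i * u * (i * u) = i * (u * i) * u by group, ← hcu i, ← mul_assoc, e1, one_mul,
            h.u_sq]
      have hjk : j * k = k * j := by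
        calc j * k = (j * k)⁻¹ := (inv_eq_of_mul_eq_one_right hjk2).symm
          _ = _ := by
            rw [mul_inv_rev, inv_eq_of_mul_eq_one_right hj2, inv_eq_of_mul_eq_one_right hk2]
      have hte : t * e = e⁻¹ * t := by
        rw [show e⁻¹ = e * e from inv_eq_of_mul_eq_one_right (by rw [← mul_assoc, h.e_cube]),
          ← h.inv, mul_assoc (t * e) t t, h.t_sq, mul_one]
      have hkk' : e⁻¹ * i * e = k := by
        rw [hk, hj, show e * (e * i * e⁻¹) * e⁻¹ = e * e * i * (e * e)⁻¹ by group,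
          show e * e = e⁻¹ from (inv_eq_of_mul_eq_one_right (by rw [← mul_assoc, h.e_cube])).symm,
          inv_inv]
      have hjt : t * j * t = k * u := by
        rw [hj, show t * (e * i * e⁻¹) * t = t * e * i * (t⁻¹ * e)⁻¹ by group, hti, hte,
          show e⁻¹ * t * i * (e⁻¹ * t)⁻¹ = e⁻¹ * (t * i * t⁻¹) * e by group, hti, hit,
          show e⁻¹ * (i * u) * e = e⁻¹ * i * (u * e) by group, ← hcu e, ← mul_assoc, hkk']
      have hkt : t * k * t = j * u := by
        have h2 : k = t * j * t * u := by rw [hjt, mul_assoc, h.u_sq, mul_one]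
        calc t * k * t = t * t * j * (t * u) * t := by rw [h2]; group
          _ = t * t * j * (u * t) * t := by rw [hcu t]
          _ = j * u := by
            rw [h.t_sq, one_mul, mul_assoc j, mul_assoc u, h.t_sq, mul_one]
      refine hfixV ?_ hπjk
      calc t * (j * k) * t = t * j * (t * t) * k * t := by rw [h.t_sq]; group
        _ = t * j * t * (t * k * t) := by group
        _ = k * (u * j) * u := by rw [hjt, hkt]; group
        _ = k * j * (u * u) := by rw [← hcu j]; group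
        _ = j * k := by rw [h.u_sq, mul_one, hjk]
    have hbad : ∀ g : X, π (g * i * g⁻¹) = π w → False := fun g hg => by
      have h2 : g * i * g⁻¹ * (g * i * g⁻¹) = u := by
        rw [show g * i * g⁻¹ * (g * i * g⁻¹) = g * (i * i) * g⁻¹ by group, hii, hcu g,
          mul_inv_cancel_right]
      rcases hker hg with e1 | e1
      · rw [e1, h2] at hw; exact h.u_ne hw
      · rw [e1, show g * i * g⁻¹ * u * (g * i * g⁻¹ * u) = g * i * g⁻¹ * (u * (g * i * g⁻¹)) * u by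
          group, ← hcu, ← mul_assoc, h2, h.u_sq, one_mul] at hw
        exact h.u_ne hw
    rcases hcase with e1 | e1 | e1
    · exact hbad 1 (by rw [e1, one_mul, inv_one, mul_one])
    · exact hbad e (by rw [e1]; simp only [map_mul, map_inv]; rfl)
    · refine hbad (e * e) ?_
      rw [e1]; simp only [map_mul, map_inv, mul_inv_rev, mul_assoc]; rfl

end UHyp

end Cfsg.Agent.Recog.SymNine
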