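import Cfsg.Agent.Lib.Recog.SymNine.Two
import Cfsg.Agent.Lib.Recog.SymNine.Isolated
import Cfsg.Agent.Lib.Invol.ZStar

/-!
The case in which the orbit of the central element is the pair with its inverse: the product of the
transposition and minus one is an isolated involution.
-/

set_option autoImplicit false
set_option linter.style.haveILetI false
set_option linter.unusedSectionVars false
set_option maxRecDepth 100000
set_option synthInstance.maxSize 4096

namespace Cfsg.Agent.Recog.SymNine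

open Cfsg Subgroup

universe u

theorem pair_facts :
    toV (2, 2, 2) = -one3 ∧ pc 3 = tr ∧ (fixT (((2, 2, 2), 3) : T3 × Fin 6)).length = 3 ∧
      yW ≠ one3 ∧ yW ≠ -one3 ∧ -yW ≠ one3 ∧ -yW ≠ -one3 ∧ yW ≠ 0 ∧ pm tr yW = -yW ∧
      mon (-one3) tr one3 ≠ one3 ∧ mon (-one3) tr (-one3) ≠ -one3 ∧
      one3 + (-pm tr (Pi.single 1 1) - Pi.single 1 1) = Pi.single 0 1 ∧
      -pm tr one3 - one3 = one3 := by
  decide +kernel

theorem pair_ne : ({one3, -one3} : Finset V3) ≠ cubeL.toFinset ∧ ∀ b : V3, -b = b → b = 0 := by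
  decide +kernel

theorem pair_comm : (∀ a : V3, -pm tr (pm cyc (-pm tr (pm cyc⁻¹ a))) = pm cyc a) ∧
    ∀ a : V3, mon (-one3) tr a = -pm tr a := by
  decide +kernel

theorem pair_stab : ∀ σ : S3, ∀ e ∈ ({one3, -one3} : Finset V3), mon e σ yW = yW →
    (e = one3 ∧ σ = 1) ∨ (e = -one3 ∧ σ = tr) := by
  decide +kernel

theorem perm_tr_cent : ∀ σ : S3, σ * tr = tr * σ → σ = 1 ∨ σ = tr := by decide +kernel

theorem even_perms : ∀ σ : S3, Equiv.Perm.sign σ = 1 → σ = 1 ∨ σ = cyc ∨ σ = cyc * cyc := by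
  decide +kernel

theorem unit_perms : ∀ i : Fin 3, ∃ σ : S3, pm σ (Pi.single 0 1) = Pi.single i 1 := by
  decide +kernel

namespace Data

variable {G : Type u} [Group G] [Finite G] {D : Data G}

theorem normal_of_pair (hm : D.Monomial) (h : D.orbit = {one3, -one3}) : D.J.Normal := by
  classical
  haveI : Fact (Nat.Prime 2) := ⟨Nat.prime_two⟩
  haveI : Fact (Nat.Prime 3) := ⟨Nat.prime_three⟩
  obtain ⟨hcode, hpc, hlen, hy1, hy2, hy3, hy4, hy0, hytr, hne1, hne2, hsingle, hxx⟩ :=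
    pair_facts
  have hTI := TI_of_not_full hm (h ▸ pair_ne.1)
  have hmemo : ∀ {e : V3}, e ∈ D.orbit ↔ e = one3 ∨ e = -one3 := fun {e} => by
    rw [h, Finset.mem_insert, Finset.mem_singleton]
  have hneg : -one3 ∈ D.orbit := hmemo.2 (Or.inr rfl)
  obtain ⟨S, ℓ, hSN, -, htS, hl, hsurj, huniq, -⟩ := exists_two hm
  have hSact : ∀ g ∈ S, ∃ e, (e = one3 ∨ e = -one3) ∧ ∃ σ, (σ = 1 ∨ σ = tr) ∧
      ∀ a, D.act g a = mon e σ a := fun g hg => by
    obtain ⟨e, he, σ, hσ, rfl⟩ := hsurj g hg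
    exact ⟨e, hmemo.1 he, σ, hσ, (hl e he σ hσ).2⟩
  have hScomm : ∀ g ∈ S, ∀ g' ∈ S, g * g' = g' * g := fun g hg g' hg' => by
    refine huniq _ (mul_mem hg hg') _ (mul_mem hg' hg) fun a => ?_
    obtain ⟨e, he, σ, hσ, hga⟩ := hSact g hg
    obtain ⟨e', he', σ', hσ', hga'⟩ := hSact g' hg'
    rw [D.act_mul (hSN hg) (hSN hg'), D.act_mul (hSN hg') (hSN hg), hga', hga, hga, hga', mon_comp,
      mon_comp]
    rcases he with rfl | rfl <;> rcases he' with rfl | rfl <;> rcases hσ with rfl | rfl <;>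
      rcases hσ' with rfl | rfl <;>
      simp [show ∀ σ : S3, pm σ (-one3) = -one3 from fun _ => rfl, pm_one3, mul_comm]
  have htact : ∀ a, D.act D.tt a = mon one3 tr a := fun a => by rw [tt, D.act_el, mon_one3]
  obtain ⟨hzS, hzact⟩ := hl _ hneg 1 (Or.inl rfl)
  set z := ℓ (-one3) 1
  have hzneg : ∀ a, D.act z a = -a := fun a => by
    rw [hzact]; funext i; simp [mon, one3]
  set u := D.tt * z with hu
  have huS : u ∈ S := mul_mem htS hzS
  have huact : ∀ a, D.act u a = mon (-one3) tr a := fun a => by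
    rw [hu, D.act_mul D.refl_tt.mem (hSN hzS), hzact, htact, mon_comp, mul_one,
      show pm tr (-one3) = -one3 from rfl]
    congr 1
  have hsq : ∀ g ∈ S, (∀ a, D.act g (D.act g a) = a) → g * g = 1 := fun g hg hga =>
    huniq _ (mul_mem hg hg) _ (one_mem _) fun a => by
      rw [D.act_mul (hSN hg) (hSN hg), hga, D.act_one]
  have hz2 : z * z = 1 := hsq z hzS fun a => by rw [hzneg, hzneg, neg_neg]
  have hu2 : u * u = 1 := by
    rw [hu, show D.tt * z * (D.tt * z) = D.tt * (z * D.tt) * z by group, hScomm z hzS _ htS,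
      show D.tt * (D.tt * z) * z = D.tt * D.tt * (z * z) by group, D.refl_tt.sq, hz2, one_mul]
  have huN : u ∈ D.N := hSN huS
  have hut : u * D.tt = D.tt * u := hScomm _ huS _ htS
  have htu : D.tt * u = z := by rw [hu, ← mul_assoc, D.refl_tt.sq, one_mul]
  -- the line of the involution
  have hucode : ∀ t : T3, D.act u (toV t) = toV (am ((2, 2, 2), 3) t) := fun t => by
    rw [huact, ← mon_code, hcode, hpc]
  have h3 : Nat.card (D.fixJ u) = 3 := by rw [card_fix_code huN hucode, hlen]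
  have hyo : ¬ D.Orb yW := fun ho => by
    rcases D.orb_iff.1 ho with e | e <;> rcases hmemo.1 e with e' | e'
    exacts [hy1 e', hy2 e', hy3 e', hy4 e']
  have hyu : D.v yW ∈ D.fixJ u := (D.v_mem_fixJ huN).2 (by
    rw [huact]
    show (fun i => (-one3 : V3) i * pm tr yW i) = yW
    rw [hytr]; funext i; simp [one3])
  have hline : ∀ y ∈ D.fixJ u, y ∈ zpowers (D.v yW) := fun y hy => by
    rw [Subgroup.eq_of_le_of_card_ge (zpowers_le.2 hyu)
      (by rw [h3, Nat.card_zpowers, D.orderOf_v hy0])]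
    exact hy
  have hnt : ∀ g, g * D.tt * g⁻¹ ≠ u := fun g => D.refl_tt.not_conj hy0 hyo (hTI _ hy0) hyu h3
  have hnz : ∀ g, g * z * g⁻¹ ≠ u := fun g e => by
    obtain ⟨c, hcP, hcJ, hcz⟩ := exists_cyc hm (hSN hzS) hz2 hzneg
    have hc3 : c * c * c = 1 := by
      obtain ⟨a, σ, hσ, he⟩ := hcP
      have h1 : c * c * c ∈ D.J := by
        rw [← he, D.el_mul', D.el_mul', three_facts.1 σ hσ, D.el_one']
        exact D.v_mem _
      obtain ⟨b, hb⟩ := D.mem_J.1 h1
      have hbz : Commute (D.v b) z := hb ▸ ((hcz.mul_left hcz).mul_left hcz)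
      have h2 : -b = b := by
        rw [← hzneg b]
        exact D.act_eq (by rw [← hbz.eq, mul_inv_cancel_right])
      rw [← hb, pair_ne.2 b h2, D.v_zero]
    have hco : orderOf (g * c * g⁻¹) = 3 := by
      rw [show g * c * g⁻¹ = MulAut.conj g c from rfl, MulEquiv.orderOf_eq]
      exact orderOf_eq_prime (by rw [pow_three', hc3]) fun e1 => hcJ (e1 ▸ one_mem _)
    have hcu : g * c * g⁻¹ ∈ centralizer ({u} : Set G) := by
      rw [mem_centralizer_singleton_iff, ← e]
      calc g * c * g⁻¹ * (g * z * g⁻¹) = g * (c * z) * g⁻¹ := by group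
        _ = _ := by rw [hcz.eq]; group
    obtain ⟨g', d, hd, hdf⟩ := conj_into_line hy0 hyo (hTI _ hy0) hyu h3 hcu hco
    have ho := D.outside_orb hcP hcJ (g := g' * g) (b := d) (by rw [← hd]; group)
    have h1 := (D.v_mem_fixJ huN).1 hdf
    rw [huact] at h1
    rcases D.orb_iff.1 ho with e1 | e1 <;> rcases hmemo.1 e1 with e2 | e2
    · exact hne1 (e2 ▸ h1)
    · exact hne2 (e2 ▸ h1)
    · exact hne2 (neg_eq_iff_eq_neg.1 e2 ▸ h1)
    · exact hne1 (by rwa [neg_inj.1 e2] at h1)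
  -- the centralizer of the two involutions
  obtain ⟨κ, hκ, -, hκsurj⟩ := hm.exists_complement (hSN hzS) hz2 hzneg
  have hcentt : ∀ g, Commute g D.tt → Commute g u → g ∈ S := fun g hgt hgu => by
    have hgN : g ∈ D.N := cent_tt_le hm hTI (mem_centralizer_singleton_iff.2 hgt.eq)
    have hgz : Commute g z := htu ▸ hgt.mul_right hgu
    obtain ⟨e, he, σ, rfl⟩ := hκsurj g hgN hgz
    have hσ : σ * tr = tr * σ := by
      refine (mon_inj (cubeL_mul (hm.orbit_cube he) (cubeL_pm one3_cube.1 σ))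
        (e' := one3 * pm tr e) (σ := σ * tr) (σ' := tr * σ) fun a => ?_).2
      rw [← mon_comp, ← mon_comp, ← (hκ e he σ).2.2, ← htact, ← htact, ← (hκ e he σ).2.2,
        ← D.act_mul hgN D.refl_tt.mem, ← D.act_mul D.refl_tt.mem hgN, hgt.eq]
    obtain ⟨hsS, hsact⟩ := hl e he σ (perm_tr_cent σ hσ)
    obtain ⟨e', he', σ', hs⟩ := hκsurj _ (hSN hsS) (hScomm _ hsS _ hzS)
    obtain ⟨h1, h2⟩ := mon_inj (hm.orbit_cube he') (e := e') (σ := σ') (e' := e) (σ' := σ)
      fun a => by rw [← (hκ e' he' σ').2.2, ← hs, hsact]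
    rw [← h1, ← h2, ← hs]; exact hsS
  have hcente : ∀ g, Commute g (D.v yW) → Commute g u →
      g ∈ zpowers (D.v yW) ∨ g * u ∈ zpowers (D.v yW) := fun g hge hgu => by
    have hgN : g ∈ D.N := hTI _ hy0 (mem_centralizer_singleton_iff.2 hge.eq)
    obtain ⟨e, -, σ, hga⟩ := hm g hgN
    have h1 := (hga yW).symm.trans (D.act_eq (by rw [hge.eq, mul_inv_cancel_right]))
    rcases pair_stab σ e (h ▸ hm.sign_mem hgN hga) h1 with ⟨rfl, rfl⟩ | ⟨rfl, rfl⟩
    · exact Or.inl (hline g ⟨(D.act_J_iff hgN).2 fun a => by rw [hga, mon_one3, pm_one],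
        mem_centralizer_singleton_iff.2 hgu.eq⟩)
    · refine Or.inr (hline _ ⟨(D.act_J_iff (mul_mem hgN huN)).2 fun a => ?_,
        mem_centralizer_singleton_iff.2 (hgu.mul_left (Commute.refl u)).eq⟩)
      rw [D.act_mul hgN huN, hga, ← huact, ← D.act_mul huN huN, hu2, D.act_one]
  -- the configuration
  have hyinv : D.tt * D.v yW * D.tt = D.v yW * D.v yW := by
    have h1 := D.act_spec D.refl_tt.mem yW
    rw [inv_eq_of_mul_eq_one_right D.refl_tt.sq, htact, mon_one3, hytr] at h1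
    rw [h1, D.v_neg]
    exact inv_eq_of_mul_eq_one_right (by rw [← mul_assoc, D.cube])
  have htne : D.tt ≠ u := fun e => hnt 1 (by rw [← e]; group)
  have hune : u ≠ 1 := fun e => by
    have h1 := huact one3
    rw [e, D.act_one] at h1
    exact hne1 h1.symm
  let X := centralizer ({u} : Set G)
  let uX : X := ⟨u, mem_centralizer_singleton_iff.2 rfl⟩
  let tX : X := ⟨D.tt, mem_centralizer_singleton_iff.2 hut.symm⟩
  let eX : X := ⟨D.v yW, hyu.2⟩
  have hX : UHyp uX tX eX := {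
    u_central := fun g => Subtype.ext (mem_centralizer_singleton_iff.1 g.2)
    u_sq := Subtype.ext hu2
    u_ne := fun e => hune (congrArg Subtype.val e)
    t_sq := Subtype.ext D.refl_tt.sq
    t_ne := fun e => D.tt_ne (congrArg Subtype.val e)
    t_ne_u := fun e => htne (congrArg Subtype.val e)
    cent_t := fun g hg => by
      obtain ⟨e, he, σ, hσ, hge⟩ := hsurj g (hcentt g (congrArg Subtype.val hg)
        (mem_centralizer_singleton_iff.1 g.2))
      have key : ∀ s ∈ S, (∀ a, D.act s a = mon e σ a) → (g : G) = s := fun s hs hsa => by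
        rw [hge]; exact huniq _ (hl e he σ hσ).1 _ hs fun a => by rw [(hl e he σ hσ).2, hsa]
      rcases hmemo.1 he with rfl | rfl <;> rcases hσ with rfl | rfl
      · exact Or.inl (Subtype.ext (key 1 (one_mem _) fun a => by rw [D.act_one, mon_one3, pm_one]))
      · exact Or.inr (Or.inr (Or.inl (Subtype.ext (key _ htS htact))))
      · exact Or.inr (Or.inr (Or.inr (Subtype.ext ((key _ hzS hzact).trans htu.symm))))
      · exact Or.inr (Or.inl (Subtype.ext (key _ huS huact)))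
    e_cube := Subtype.ext (D.cube yW)
    e_ne := fun e => hy0 (D.v_inj ((congrArg Subtype.val e).trans D.v_zero.symm))
    inv := Subtype.ext hyinv
    cent_e := fun g hg => by
      rcases hcente g (congrArg Subtype.val hg) (mem_centralizer_singleton_iff.1 g.2) with h1 | h1 <;>
        rw [← mem_powers_iff_mem_zpowers] at h1 <;> obtain ⟨i, hi⟩ := h1
      · exact ⟨i, Or.inl (Subtype.ext (by simpa [eX] using hi.symm))⟩
      · refine ⟨i, Or.inr (Subtype.ext ?_)⟩
        show (g : G) = ((eX ^ i : X) : G) * u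
        rw [SubmonoidClass.coe_pow, show D.v yW ^ i = (g : G) * u from hi, mul_assoc, hu2, mul_one] }
  have hiso : IsIsolatedInvolution u := by
    refine ⟨orderOf_eq_prime (by rw [pow_two, hu2]) hune, fun g hc => ?_⟩
    by_contra hw
    have hwX : g * u * g⁻¹ ∈ X := mem_centralizer_singleton_iff.2 hc.eq.symm
    obtain ⟨k, hk⟩ := hX.classify (w := ⟨g * u * g⁻¹, hwX⟩) (Subtype.ext (by
        show g * u * g⁻¹ * (g * u * g⁻¹) = 1
        rw [show g * u * g⁻¹ * (g * u * g⁻¹) = g * (u * u) * g⁻¹ by group, hu2]; group))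
      (fun e => hune (conj_eq_one_iff.1 (congrArg Subtype.val e)))
      (fun e => hw (congrArg Subtype.val e))
    rcases hk with hk | hk
    · have h1 : (k : G) * (g * u * g⁻¹) * (k : G)⁻¹ = D.tt := congrArg Subtype.val hk
      exact hnt ((k : G) * g)⁻¹ (by rw [← h1]; group)
    · have h1 : (k : G) * (g * u * g⁻¹) * (k : G)⁻¹ = z := (congrArg Subtype.val hk).trans htu
      exact hnz ((k : G) * g)⁻¹ (by rw [← h1]; group)
  obtain ⟨O, hOn, hodd, hO⟩ := ZStar.exists_odd_normal hiso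
  haveI := hOn
  have hOa : ∀ a : V3, D.v (-pm tr a - a) ∈ O := fun a => by
    have h1 := hO (D.v a)
    rw [D.act_spec huN, huact] at h1
    rw [sub_eq_add_neg, D.v_add, D.v_neg a]
    convert h1 using 3
    funext i; simp [mon, one3, pm]
  have hx : D.v one3 ∈ O := by have := hOa one3; rwa [hxx] at this
  have h0 : D.v (Pi.single 0 1) ∈ O := by
    rw [← hsingle, D.v_add]
    exact mul_mem hx (hOa _)
  have hJ : D.J ≤ O := fun y hy => by
    obtain ⟨a, rfl⟩ := D.mem_J.1 hy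
    have hi : ∀ i : Fin 3, D.v (Pi.single i 1) ∈ O := fun i => by
      obtain ⟨σ, hσ⟩ := unit_perms i
      rw [← hσ, ← D.el_conj_v 0]
      exact hOn.conj_mem _ h0 _
    have hs : ∀ (c : ZMod 3) (b : V3), D.v b ∈ O → D.v (c • b) ∈ O := fun c b hb => by
      rcases smul_cases c b with e | e | e <;> rw [e]
      exacts [D.v_zero ▸ one_mem _, hb, D.v_neg b ▸ inv_mem hb]
    rw [← decomp3 a, D.v_add, D.v_add]
    exact mul_mem (mul_mem (hs _ _ (hi 0)) (hs _ _ (hi 1))) (hs _ _ (hi 2))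
  have hcyc : D.el 0 cyc ∈ O := by
    have hw := hO (D.el 0 cyc)
    have hwN : u * D.el 0 cyc * u⁻¹ * (D.el 0 cyc)⁻¹ ∈ D.N :=
      mul_mem (mul_mem (mul_mem huN (D.el_mem_N _ _)) (inv_mem huN)) (inv_mem (D.el_mem_N _ _))
    have hj : (u * D.el 0 cyc * u⁻¹ * (D.el 0 cyc)⁻¹)⁻¹ * D.el 0 cyc ∈ D.J := by
      refine hm.inv_mul_mem_J hwN (D.el_mem_N _ _) fun a => ?_
      rw [show u * D.el 0 cyc * u⁻¹ * (D.el 0 cyc)⁻¹ = u * (D.el 0 cyc * (u * (D.el 0 cyc)⁻¹)) by
          rw [inv_eq_of_mul_eq_one_right hu2]; group,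
        D.act_mul huN (mul_mem (D.el_mem_N _ _) (mul_mem huN (inv_mem (D.el_mem_N _ _)))),
        D.act_mul (D.el_mem_N _ _) (mul_mem huN (inv_mem (D.el_mem_N _ _))),
        D.act_mul huN (inv_mem (D.el_mem_N _ _)), D.el_inv, D.act_el, D.act_el, huact, huact,
        pair_comm.2, pair_comm.2, D.act_el, pair_comm.1]
    rw [show D.el 0 cyc = (u * D.el 0 cyc * u⁻¹ * (D.el 0 cyc)⁻¹) *
      ((u * D.el 0 cyc * u⁻¹ * (D.el 0 cyc)⁻¹)⁻¹ * D.el 0 cyc) by group]
    exact mul_mem hw (hJ hj)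
  have hP : D.P ≤ O := fun y hy => by
    obtain ⟨a, σ, hσ, rfl⟩ := hy
    rw [el, ← el_zero_v]
    refine mul_mem (hJ (D.v_mem a)) ?_
    rcases even_perms σ hσ with rfl | rfl | rfl
    · rw [D.el_zero']; exact one_mem _
    · exact hcyc
    · rw [el_zero_v, map_mul, ← el_zero_v]; exact mul_mem hcyc hcyc
  refine D.normal_of_meet hP (meet_le_P hP fun g hg hd => ?_)
  exact Nat.not_even_iff_odd.2 hodd (even_iff_two_dvd.2
    (hd.trans (Subgroup.orderOf_dvd_natCard _ hg.1)))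

end Data

end Cfsg.Agent.Recog.SymNine
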