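import Mathlib
import Cfsg.Agent.Lib.Fus.SymPath

/-!
The symmetric group of degree six: normalising the images of the monomial generators, and small
centralizers.
-/

set_option autoImplicit false
set_option linter.style.haveILetI false
set_option maxRecDepth 100000

namespace Cfsg.Agent.Recog.SymNine

open Equiv

/-- The symmetric group of degree six. -/
abbrev S6 := Perm (Fin 6)

/-- The cycle on the first block. -/
def pA : S6 := swap 0 1 * swap 1 2
/-- The cycle on the second block. -/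
def pB : S6 := swap 3 4 * swap 4 5
/-- The inversion of the first block. -/
def pF : S6 := swap 1 2
/-- The inversion of the second block. -/
def pG : S6 := swap 4 5
/-- The exchange of the blocks. -/
def pT : S6 := swap 0 3 * swap 1 4 * swap 2 5
/-- The transposition across the blocks. -/
def pR : S6 := swap 0 3

/-- Five triple transpositions satisfying the relations of the adjacent ones. -/
def omegaSeq : ℕ → S6
  | 0 => swap 0 1 * swap 2 3 * swap 4 5
  | 1 => swap 0 2 * swap 1 4 * swap 3 5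
  | 2 => swap 0 1 * swap 2 5 * swap 3 4
  | 3 => swap 0 2 * swap 1 3 * swap 4 5
  | _ => swap 0 1 * swap 2 4 * swap 3 5

theorem omega_rels : (∀ i : Fin 5, omegaSeq i * omegaSeq i = 1) ∧
    (∀ i j : Fin 5, (i : ℕ) + 2 ≤ j → omegaSeq i * omegaSeq j = omegaSeq j * omegaSeq i) ∧
    (∀ i : Fin 4, omegaSeq i * omegaSeq ((i : ℕ) + 1) * omegaSeq i =
      omegaSeq ((i : ℕ) + 1) * omegaSeq i * omegaSeq ((i : ℕ) + 1)) := by decide +kernel

theorem omega_path : Fus.SymPath.Path 5 omegaSeq where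
  sq i hi := omega_rels.1 ⟨i, hi⟩
  comm i j hij hj := omega_rels.2.1 ⟨i, by omega⟩ ⟨j, hj⟩ hij
  braid i hi := omega_rels.2.2 ⟨i, by omega⟩

theorem six_vals : Fus.SymPath.adj 5 0 * Fus.SymPath.adj 5 1 = pA ∧
    (omegaSeq 0 * omegaSeq 1) * (omegaSeq 0 * omegaSeq 1) * (omegaSeq 0 * omegaSeq 1) = 1 ∧
    omegaSeq 0 * omegaSeq 1 ≠ 1 ∧ (omegaSeq 0 * omegaSeq 1).support.card = 6 ∧
    pA * pA * pA = 1 ∧ pA ≠ 1 ∧ pA.support.card = 3 ∧
    (pA * pB) * (pA * pB) * (pA * pB) = 1 ∧ pA * pB ≠ 1 ∧ (pA * pB).support.card = 6 := by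
  decide +kernel

theorem six_cent : ∀ b : S6, b * b * b = 1 → b * pA = pA * b →
    b = 1 ∨ b = pA ∨ b = pA⁻¹ ∨ b = pB ∨ b = pB⁻¹ ∨
      b = pA * pB ∨ b = pA * pB⁻¹ ∨ b = pA⁻¹ * pB ∨ b = pA⁻¹ * pB⁻¹ := by decide +kernel

theorem six_inverters : ∀ p : S6, p * p = 1 → p * pA * p = pA⁻¹ →
    (p * pB = pB * p → p = pF ∨ p = pA * pF * pA⁻¹ ∨ p = pA⁻¹ * pF * pA) ∧
      p * (pA * pB) ≠ pA * pB * p ∧ p * (pA * pB⁻¹) ≠ pA * pB⁻¹ * p ∧
      p * (pA⁻¹ * pB) ≠ pA⁻¹ * pB * p ∧ p * (pA⁻¹ * pB⁻¹) ≠ pA⁻¹ * pB⁻¹ * p := by decide +kernel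

theorem six_swappers : ∀ τ : S6, τ * τ = 1 → τ * pA * τ = pB →
    τ = pT ∨ τ = pB * pT * pB⁻¹ ∨ τ = pB⁻¹ * pT * pB := by decide +kernel

theorem six_conj : pG * pA * pG⁻¹ = pA ∧ pG * pB * pG⁻¹ = pB⁻¹ ∧ pG * pB⁻¹ * pG⁻¹ = pB ∧
    pA * pB = pB * pA ∧ pB * pF = pF * pB := by decide +kernel

/-- The centralizer of the three transpositions. -/
theorem six_three : ∀ x : S6, x * pF = pF * x → x * pG = pG * x → x * pR = pR * x →
    x = 1 ∨ x = pF ∨ x = pG ∨ x = pR ∨ x = pF * pG ∨ x = pF * pR ∨ x = pG * pR ∨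
      x = pF * pG * pR := by decide +kernel

theorem six_double : ∀ x : S6, x * x * x = 1 → x * (pF * pG) = pF * pG * x → x = 1 := by
  decide +kernel

theorem six_fix : ∀ x : S6, x * x = 1 → x ≠ 1 → x * pF = pF * x → x * pG = pG * x → x * pT = pT * x →
    x * (pA * pF * pA⁻¹) * (x * (pA * pF * pA⁻¹)) * (x * (pA * pF * pA⁻¹)) = 1 → x = pR := by
  decide +kernel

theorem six_fix_rel : pR * pR = 1 ∧ pR ≠ 1 ∧ pR * pF = pF * pR ∧ pR * pG = pG * pR ∧ pR * pT = pT * pR ∧
    pR * (pA * pF * pA⁻¹) * (pR * (pA * pF * pA⁻¹)) * (pR * (pA * pF * pA⁻¹)) = 1 ∧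
    pT * pF * pT = pG := by decide +kernel

theorem six_adj : swap (0 : Fin 6) 1 = pA⁻¹ * pF * pA ∧ swap (1 : Fin 6) 2 = pF ∧
    swap (2 : Fin 6) 3 = pA⁻¹ * pR * pA ∧ swap (3 : Fin 6) 4 = pB⁻¹ * pG * pB ∧
    swap (4 : Fin 6) 5 = pG := by decide +kernel

theorem six_closure : Subgroup.closure ({pA, pB, pF, pG, pR} : Set S6) = ⊤ := by
  rw [eq_top_iff]
  intro x _
  set C := Subgroup.closure ({pA, pB, pF, pG, pR} : Set S6)
  have hA : pA ∈ C := Subgroup.subset_closure (by simp)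
  have hB : pB ∈ C := Subgroup.subset_closure (by simp)
  have hF : pF ∈ C := Subgroup.subset_closure (by simp)
  have hG : pG ∈ C := Subgroup.subset_closure (by simp)
  have hR : pR ∈ C := Subgroup.subset_closure (by simp)
  have h : Submonoid.closure (Set.range fun i : Fin 5 => swap i.castSucc i.succ) ≤ C.toSubmonoid := by
    refine Submonoid.closure_le.2 ?_
    rintro _ ⟨i, rfl⟩
    obtain ⟨h0, h1, h2, h3, h4⟩ := six_adj
    fin_cases i
    · exact (show swap (0 : Fin 6) 1 ∈ C from h0 ▸ mul_mem (mul_mem (inv_mem hA) hF) hA)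
    · exact (show swap (1 : Fin 6) 2 ∈ C from h1 ▸ hF)
    · exact (show swap (2 : Fin 6) 3 ∈ C from h2 ▸ mul_mem (mul_mem (inv_mem hA) hR) hA)
    · exact (show swap (3 : Fin 6) 4 ∈ C from h3 ▸ mul_mem (mul_mem (inv_mem hB) hG) hB)
    · exact (show swap (4 : Fin 6) 5 ∈ C from h4 ▸ hG)
  rw [Perm.mclosure_swap_castSucc_succ] at h
  exact h (Submonoid.mem_top x)

/-- A homomorphism to a group of exponent three is trivial. -/
theorem six_hom_trivial {A : Type*} [CommGroup A] (hA : ∀ a : A, a ^ 3 = 1) (ν : S6 →* A) (x : S6) :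
    ν x = 1 := by
  induction x using Perm.swap_induction_on with
  | one => exact map_one ν
  | swap_mul f a b _ ih =>
    have h2 : ν (swap a b) ^ 2 = 1 := by rw [← map_pow, pow_two, swap_mul_self, map_one]
    have h1 : ν (swap a b) = 1 := by
      simpa using pow_gcd_eq_one.mpr ⟨h2, hA (ν (swap a b))⟩
    rw [map_mul, h1, one_mul, ih]

/-- Elements of order three are conjugate when their supports have the same size. -/
theorem six_three_conj {a b : S6} (ha : a * a * a = 1) (ha1 : a ≠ 1) (hb : b * b * b = 1) (hb1 : b ≠ 1)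
    (h : a.support.card = b.support.card) : IsConj a b := by
  haveI : Fact (Nat.Prime 3) := ⟨Nat.prime_three⟩
  have key : ∀ c : S6, c * c * c = 1 → c ≠ 1 →
      c.cycleType = Multiset.replicate (c.support.card / 3) 3 := fun c hc hc1 => by
    have ho : orderOf c = 3 := orderOf_eq_prime (by rw [pow_three', hc]) hc1
    obtain ⟨n, hn⟩ := Perm.cycleType_prime_order (σ := c) (by rw [ho]; exact Nat.prime_three)
    rw [ho] at hn
    have hsum := Perm.sum_cycleType c
    rw [hn, Multiset.sum_replicate, smul_eq_mul] at hsum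
    rw [hn, ← hsum, Nat.mul_div_cancel _ (by norm_num : 0 < 3)]
  exact Perm.isConj_iff_cycleType_eq.2 (by rw [key a ha ha1, key b hb hb1, h])

theorem six_alt_cent : ∀ x : S6, x * pA = pA * x → x * pB = pB * x →
    x * (swap 1 2 * swap 2 3) = swap 1 2 * swap 2 3 * x → x = 1 := by decide +kernel

/-- An endomorphism sending the cycle on one block to a fixed-point-free one. -/
theorem exists_outer : ∃ ω : S6 →* S6, Function.Injective ω ∧ (ω pA).support.card = 6 ∧
    ω pA * ω pA * ω pA = 1 ∧ ω pA ≠ 1 := by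
  obtain ⟨f, -, hf⟩ := Fus.SymPath.exists_hom omega_path
  obtain ⟨hadj, h3, h1, hs, -⟩ := six_vals
  have hA : f pA = omegaSeq 0 * omegaSeq 1 := by
    rw [← hadj, map_mul, hf 0 (by norm_num), hf 1 (by norm_num)]
  refine ⟨f, ?_, hA ▸ hs, hA ▸ h3, hA ▸ h1⟩
  haveI : IsSimpleGroup (alternatingGroup (Fin 6)) := alternatingGroup.isSimpleGroup (by simp)
  rcases IsSimpleGroup.eq_bot_or_eq_top_of_normal (f.ker.subgroupOf (alternatingGroup (Fin 6))) inferInstance with e | e
  · rw [← MonoidHom.ker_eq_bot_iff, Subgroup.eq_bot_iff_forall]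
    intro x hx
    have hc : ∀ a ∈ alternatingGroup (Fin 6), x * a = a * x := fun a ha => by
      have h2 : x * a * x⁻¹ * a⁻¹ ∈ f.ker ⊓ alternatingGroup (Fin 6) :=
        Subgroup.mem_inf.2 ⟨MonoidHom.mem_ker.2 (by
          simp [MonoidHom.mem_ker.1 hx]),
        mul_mem (Subgroup.Normal.conj_mem inferInstance a ha x) (inv_mem ha)⟩
      have h3 : (⟨_, h2.2⟩ : alternatingGroup (Fin 6)) ∈ f.ker.subgroupOf (alternatingGroup (Fin 6)) := h2.1
      rw [e, Subgroup.mem_bot, Subtype.ext_iff] at h3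
      exact mul_inv_eq_iff_eq_mul.1 (mul_inv_eq_one.1 h3)
    exact six_alt_cent x (hc pA (Perm.mem_alternatingGroup.2 (by decide +kernel)))
      (hc pB (Perm.mem_alternatingGroup.2 (by decide +kernel)))
      (hc (swap 1 2 * swap 2 3) (Perm.mem_alternatingGroup.2 (by decide +kernel)))
  · have h2 : (⟨pA, Perm.mem_alternatingGroup.2 (by decide +kernel)⟩ : alternatingGroup (Fin 6)) ∈
        f.ker.subgroupOf (alternatingGroup (Fin 6)) := e ▸ Subgroup.mem_top _
    exact absurd (MonoidHom.mem_ker.1 h2) (hA ▸ h1)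

/-- The images of the monomial generators are those of an automorphism. -/
theorem exists_normalise {a b p τ : S6} (ha : a * a * a = 1) (ha1 : a ≠ 1) (hb : b * b * b = 1)
    (hb1 : b ≠ 1) (hab : b * a = a * b) (hba : b ≠ a) (hba' : b ≠ a⁻¹) (hp : p * p = 1)
    (hpa : p * a * p = a⁻¹) (hpb : p * b = b * p) (hτ : τ * τ = 1) (hτa : τ * a * τ = b) :
    ∃ φ : S6 →* S6, Function.Bijective φ ∧ φ pA = a ∧ φ pB = b ∧ φ pF = p ∧ φ pT = τ := by
  obtain ⟨ω, hω, hωs, hω3, hω1⟩ := exists_outer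
  obtain ⟨-, -, -, -, hA3, hA1, hAs, -⟩ := six_vals
  -- the class of the first element
  obtain ⟨ψ, hψ, hψa⟩ : ∃ ψ : S6 →* S6, Function.Injective ψ ∧ ψ pA = a := by
    haveI : Fact (Nat.Prime 3) := ⟨Nat.prime_three⟩
    have hs : a.support.card = 3 ∨ a.support.card = 6 := by
      obtain ⟨n, hn⟩ := Perm.cycleType_prime_order (σ := a)
        (by rw [orderOf_eq_prime (p := 3) (by rw [pow_three', ha]) ha1]; exact Nat.prime_three)
      have hsum := Perm.sum_cycleType a
      rw [hn, Multiset.sum_replicate, smul_eq_mul, orderOf_eq_prime (p := 3) (by rw [pow_three', ha]) ha1]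
        at hsum
      have hle : a.support.card ≤ 6 := (Finset.card_le_univ _).trans (le_of_eq (by simp))
      omega
    rcases hs with hs | hs
    · obtain ⟨g, hg⟩ := isConj_iff.1 (six_three_conj hA3 hA1 ha ha1 (hAs.trans hs.symm))
      exact ⟨(MulAut.conj g).toMonoidHom, (MulAut.conj g).injective, hg⟩
    · obtain ⟨g, hg⟩ := isConj_iff.1 (six_three_conj hω3 hω1 ha ha1 (hωs.trans hs.symm))
      exact ⟨(MulAut.conj g).toMonoidHom.comp ω, (MulAut.conj g).injective.comp hω, hg⟩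
  have hψs : Function.Surjective ψ := Finite.injective_iff_surjective.1 hψ
  obtain ⟨b', rfl⟩ := hψs b
  obtain ⟨p', rfl⟩ := hψs p
  obtain ⟨τ', rfl⟩ := hψs τ
  subst hψa
  have hP : p' * p' = 1 := hψ (by rw [map_mul, hp, map_one])
  have hPA : p' * pA * p' = pA⁻¹ := hψ (by rw [map_mul, map_mul, hpa, map_inv])
  have hPB : p' * b' = b' * p' := hψ (by rw [map_mul, map_mul, hpb])
  have hT : τ' * τ' = 1 := hψ (by rw [map_mul, hτ, map_one])
  have hTA : τ' * pA * τ' = b' := hψ (by rw [map_mul, map_mul, hτa])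
  obtain ⟨hi, n1, n2, n3, n4⟩ := six_inverters p' hP hPA
  obtain ⟨c1, c2, c3, hAB, hBF⟩ := six_conj
  -- the second element
  obtain ⟨g, hgA, hgB⟩ : ∃ g : S6, g * pA * g⁻¹ = pA ∧ g * pB * g⁻¹ = b' := by
    rcases six_cent b' (hψ (by rw [map_mul, map_mul, hb, map_one])) (hψ (by rw [map_mul, map_mul, hab]))
      with rfl | rfl | rfl | rfl | rfl | rfl | rfl | rfl | rfl
    · exact absurd (map_one ψ) hb1
    · exact absurd rfl hba
    · exact absurd (map_inv ψ pA) hba'
    · exact ⟨1, by group, by group⟩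
    · exact ⟨pG, c1, c2⟩
    all_goals exfalso
    exacts [n1 hPB, n2 hPB, n3 hPB, n4 hPB]
  set χ := (MulAut.conj g).toMonoidHom with hχ
  have hχi : Function.Injective χ := (MulAut.conj g).injective
  have hχA : χ pA = pA := hgA
  have hχB : χ pB = b' := hgB
  obtain ⟨p'', rfl⟩ := (MulAut.conj g).surjective p'
  obtain ⟨τ'', rfl⟩ := (MulAut.conj g).surjective τ'
  have hQ : p'' * p'' = 1 := hχi (by rw [map_mul, map_one]; exact hP)
  have hQA : p'' * pA * p'' = pA⁻¹ := hχi (by rw [map_mul, map_mul, map_inv, hχA]; exact hPA)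
  have hQB : p'' * pB = pB * p'' := hχi (by rw [map_mul, map_mul, hχB]; exact hPB)
  have hU : τ'' * τ'' = 1 := hχi (by rw [map_mul, map_one]; exact hT)
  have hUA : τ'' * pA * τ'' = pB := hχi (by rw [map_mul, map_mul, hχA, hχB]; exact hTA)
  -- the inversion
  obtain ⟨h, hhA, hhB, hhp⟩ : ∃ h : S6, h * pA * h⁻¹ = pA ∧ h * pB * h⁻¹ = pB ∧ h * pF * h⁻¹ = p'' := by
    rcases (six_inverters p'' hQ hQA).1 hQB with e | e | e
    · exact ⟨1, by group, by group, by rw [e]; group⟩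
    · exact ⟨pA, by group, by rw [hAB]; group, e.symm⟩
    · refine ⟨pA⁻¹, by group, ?_, by rw [e, inv_inv]⟩
      rw [inv_inv, mul_assoc, ← hAB, inv_mul_cancel_left]
  obtain ⟨τ₃, rfl⟩ := (MulAut.conj h).surjective τ''
  have hV : τ₃ * τ₃ = 1 := (MulAut.conj h).injective (by rw [map_mul, map_one]; exact hU)
  have hVA : τ₃ * pA * τ₃ = pB := (MulAut.conj h).injective (by
    rw [map_mul, map_mul, show MulAut.conj h pA = pA from hhA, show MulAut.conj h pB = pB from hhB]
    exact hUA)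
  -- the exchange
  obtain ⟨k, hkA, hkB, hkF, hkT⟩ : ∃ k : S6, k * pA * k⁻¹ = pA ∧ k * pB * k⁻¹ = pB ∧ k * pF * k⁻¹ = pF ∧
      k * pT * k⁻¹ = τ₃ := by
    rcases six_swappers τ₃ hV hVA with e | e | e
    · exact ⟨1, by group, by group, by group, by rw [e]; group⟩
    · exact ⟨pB, by rw [← hAB]; group, by group, by rw [hBF]; group, e.symm⟩
    · refine ⟨pB⁻¹, ?_, by group, ?_, by rw [e, inv_inv]⟩
      · rw [inv_inv, mul_assoc, hAB, inv_mul_cancel_left]
      · rw [inv_inv, mul_assoc, ← hBF, inv_mul_cancel_left]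
  refine ⟨((ψ.comp χ).comp (MulAut.conj h).toMonoidHom).comp (MulAut.conj k).toMonoidHom,
    ⟨((hψ.comp hχi).comp (MulAut.conj h).injective).comp (MulAut.conj k).injective,
      Finite.injective_iff_surjective.1
        (((hψ.comp hχi).comp (MulAut.conj h).injective).comp (MulAut.conj k).injective)⟩, ?_, ?_, ?_, ?_⟩
  · show ψ (χ (h * (k * pA * k⁻¹) * h⁻¹)) = _
    rw [hkA, hhA, hχA]
  · show ψ (χ (h * (k * pB * k⁻¹) * h⁻¹)) = _
    rw [hkB, hhB, hχB]
  · show ψ (χ (h * (k * pF * k⁻¹) * h⁻¹)) = _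
    rw [hkF, hhp]; rfl
  · show ψ (χ (h * (k * pT * k⁻¹) * h⁻¹)) = _
    rw [hkT]; rfl

end Cfsg.Agent.Recog.SymNine
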