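import Cfsg.Agent.Lib.Recog.SymNine.CaseFullTI
import Cfsg.Agent.Lib.Recog.SymNine.CasePair
import Cfsg.Agent.Lib.Recog.SymNine.SixPerm

/-!
The full case with a centralizer of a core element outside the normalizer: the centralizer of the
cycle on the first block is three times a symmetric group of degree six, coordinatised.
-/

set_option autoImplicit false
set_option linter.style.haveILetI false
set_option linter.unusedSectionVars false
set_option maxRecDepth 100000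
set_option synthInstance.maxSize 4096

namespace Cfsg.Agent.Recog.SymNine

open Cfsg Subgroup

universe u

/-- The shift of the first block. -/
def u0 : V3 := ![1, 0, 0]

/-- The shift of the second block. -/
def u1 : V3 := ![0, 1, 0]

/-- The shift of the third block. -/
def u2 : V3 := ![0, 0, 1]

theorem u_facts : (Pi.single 0 1 : V3) = u0 ∧ u0 ≠ 0 ∧ u0 ∉ cubeL ∧ -u0 ∉ cubeL ∧
    (∀ c : ZMod 3, (c • u0) 0 = c) ∧ pm tr u0 = u0 ∧ pm tr u1 = u2 ∧
    mon fv0 1 u0 = -u0 ∧ mon fv0 1 u1 = u1 ∧ mon fv0 1 u2 = u2 ∧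
    mon fv1 1 u0 = u0 ∧ mon fv1 1 u1 = -u1 ∧ mon fv1 1 u2 = u2 ∧
    mon fv2 1 u0 = u0 ∧ mon fv2 1 u1 = u1 ∧ mon fv2 1 u2 = -u2 ∧
    u1 ≠ 0 ∧ u2 ≠ 0 ∧ u2 ≠ u1 ∧ u2 ≠ -u1 ∧
    fv0 * pm 1 one3 = one3 * pm tr fv0 ∧ fv1 * pm 1 fv0 = fv0 * pm 1 fv1 ∧
    fv2 * pm 1 fv0 = fv0 * pm 1 fv2 := by decide +kernel

theorem mul_zmod3_cube : ∀ c : Multiplicative (ZMod 3), c ^ 3 = 1 := by decide

theorem zmod3_two : ∀ c : ZMod 3, c + c = 0 → c = 0 := by decide

theorem six_swap_val : pT * pF * pT = pG ∧ pT * pT = 1 ∧ pF * pF = 1 ∧ pG * pG = 1 ∧ pR * pR = 1 ∧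
    pR * (pA * pF * pA⁻¹) * (pR * (pA * pF * pA⁻¹)) * (pR * (pA * pF * pA⁻¹)) = 1 ∧ pR ≠ 1 ∧
    pR * pF = pF * pR ∧ pR * pG = pG * pR ∧ pR * pT = pT * pR := by decide +kernel

namespace Data

variable {G : Type u} [Group G] [Finite G] {D : Data G}

/-- Outside the case of all centralizers in the normalizer, the axis quotient has degree six. -/
theorem axis_six (hm : D.Monomial) (h : D.orbit = cubeL.toFinset) (hTI : ¬ D.TI) :
    Nonempty ((D.Cv u0 ⧸ D.Zv u0) ≃* Equiv.Perm (Fin 6)) := by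
  rw [← u_facts.1]
  refine (cent_axis hm h 0).resolve_left fun hle => hTI fun a ha => ?_
  have hall : ∀ i : Fin 3, D.Cv (Pi.single i 1) ≤ D.N := fun i => by
    obtain ⟨σ, hσ⟩ := unit_perms i
    intro g hg
    have hn := D.el_mem_N 0 σ
    have h1 : (D.el 0 σ)⁻¹ * g * D.el 0 σ ∈ D.N := by
      refine hle (mem_centralizer_singleton_iff.2 ?_)
      have h2 := D.el_conj_v 0 (Pi.single 0 1) σ
      rw [hσ] at h2
      have h3 : Commute g (D.v (Pi.single i 1)) := mem_centralizer_singleton_iff.1 hg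
      rw [← h2] at h3
      calc (D.el 0 σ)⁻¹ * g * D.el 0 σ * D.v (Pi.single 0 1)
          = (D.el 0 σ)⁻¹ * (g * (D.el 0 σ * D.v (Pi.single 0 1) * (D.el 0 σ)⁻¹)) * D.el 0 σ := by
            group
        _ = _ := by rw [h3.eq]; group
    have := mul_mem (mul_mem hn h1) (inv_mem hn)
    rwa [show D.el 0 σ * ((D.el 0 σ)⁻¹ * g * D.el 0 σ) * (D.el 0 σ)⁻¹ = g by group] at this
  rcases cent_cases hm ha with hh | ⟨-, i, hi, -⟩
  · exact hh
  · rcases hi with rfl | rfl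
    · exact hall i
    · rw [cent_v_neg]; exact hall i

/-- The centralizer of the first cycle in coordinates. -/
structure Six (D : Data G) (κ : V3 → S3 → G) (ι : S6 →* G) : Prop where
  hm : D.Monomial
  full : D.orbit = cubeL.toFinset
  kappa : Kappa D κ
  inj : Function.Injective ι
  cen : ∀ τ, Commute (ι τ) (D.v u0)
  decomp : ∀ g, Commute g (D.v u0) → ∃ c : ZMod 3, ∃ τ, g = D.v (c • u0) * ι τ
  indep : ∀ c : ZMod 3, ∀ τ, D.v (c • u0) = ι τ → c = 0 ∧ τ = 1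
  valA : ι pA = D.v u1
  valB : ι pB = D.v u2
  valF : ι pF = κ fv1 1
  valG : ι pG = κ fv2 1
  valT : ι pT = D.tt
  cen0 : ∀ τ, Commute (ι τ) (κ fv0 1)

theorem exists_six {κ : V3 → S3 → G} (K : Kappa D κ) (hm : D.Monomial) (h : D.orbit = cubeL.toFinset)
    (hTI : ¬ D.TI) : ∃ ι, Six D κ ι := by
  classical
  haveI : Fact (Nat.Prime 3) := ⟨Nat.prime_three⟩
  obtain ⟨e⟩ := axis_six hm h hTI
  obtain ⟨-, hu0, n1, n2, hcoord, ht0, ht12, a00, a01, a02, a10, a11, a12, a20, a21, a22, hu1, hu2,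
    h21, h21', c0t, c10, c20⟩ := u_facts
  obtain ⟨hf0, hf1, hf2, -, -, -, -, htf1, -⟩ := fv_facts
  have ho : ¬ D.Orb u0 := not_orb_of_full h n1 n2
  set E := D.Cv u0 with hE
  set J' := D.J.subgroupOf E
  obtain ⟨S, hS⟩ := D.sylow_J hu0 ho (D.J_le_cent_v u0) le_rfl
  have hidx : ¬ 3 ∣ J'.index := fun hd => S.not_dvd_index (hS ▸ hd)
  have hjinj : Function.Injective D.j := fun a b hh => Multiplicative.toAdd.injective (D.v_inj hh)
  let eJ : Multiplicative V3 ≃* D.J := MonoidHom.ofInjective hjinj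
  let pr : Multiplicative V3 →* Multiplicative (ZMod 3) :=
    MonoidHom.mk' (fun a => Multiplicative.ofAdd (a.toAdd 0)) fun a b => rfl
  let ρ : J' →* Multiplicative (ZMod 3) :=
    pr.comp (eJ.symm.toMonoidHom.comp (subgroupOfEquivOfLe (D.J_le_cent_v u0)).toMonoidHom)
  have hρ : ∀ (a : V3) (y : J'), ((y : E) : G) = D.v a → ρ y = Multiplicative.ofAdd (a 0) := by
    intro a y hy
    have h1 : eJ.symm (subgroupOfEquivOfLe (D.J_le_cent_v u0) y) = Multiplicative.ofAdd a := by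
      rw [MulEquiv.symm_apply_eq]
      exact Subtype.ext hy
    show pr (eJ.symm (subgroupOfEquivOfLe (D.J_le_cent_v u0) y)) = _
    rw [h1]
    rfl
  set θ := MonoidHom.transfer ρ with hθ
  let z : ZMod 3 → E := fun c => ⟨D.v (c • u0), D.J_le_cent_v u0 (D.v_mem _)⟩
  have hzc : ∀ c, ∀ g : E, z c * g = g * z c := fun c g => D.Zv_central u0 (z c) ⟨c, rfl⟩ g
  have hzpow : ∀ (c : ZMod 3) (n : ℕ), ((z c ^ n : E) : G) = D.v (((n : ZMod 3) * c) • u0) := by
    intro c n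
    induction n with
    | zero => simp [D.v_zero]
    | succ n ih =>
      rw [pow_succ, Subgroup.coe_mul, ih, ← D.v_add, ← add_smul]
      congr 2
      push_cast; ring
  have hθz : ∀ c, θ (z c) = Multiplicative.ofAdd ((J'.index : ZMod 3) * c) := fun c => by
    rw [hθ, MonoidHom.transfer_eq_pow ρ (z c) fun k g₀ _ => by
      rw [mul_assoc, (Commute.pow_left (hzc c g₀) k).eq, inv_mul_cancel_left]]
    rw [hρ _ _ (hzpow c J'.index), hcoord]
  have hidx0 : (J'.index : ZMod 3) ≠ 0 := fun e0 => hidx ((ZMod.natCast_eq_zero_iff _ _).1 e0)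
  set π := (e : (E ⧸ D.Zv u0) →* S6).comp (QuotientGroup.mk' (D.Zv u0)) with hπ
  have hker : ∀ g : E, π g = 1 ↔ ∃ c, g = z c := fun g => by
    rw [hπ, MonoidHom.comp_apply, MonoidHom.coe_coe, MulEquiv.map_eq_one_iff,
      show QuotientGroup.mk' (D.Zv u0) g = 1 ↔ g ∈ D.Zv u0 from QuotientGroup.eq_one_iff _]
    exact ⟨fun ⟨c, hc⟩ => ⟨c, Subtype.ext hc⟩, fun ⟨c, hc⟩ => ⟨c, hc ▸ rfl⟩⟩
  have hz0 : ∀ c, θ (z c) = 1 → c = 0 := fun c hc => by
    rw [hθz] at hc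
    exact (mul_eq_zero.1 (show (J'.index : ZMod 3) * c = 0 from hc)).resolve_left hidx0
  have hsplit : ∀ g : E, ∃ c, θ ((z c)⁻¹ * g) = 1 := fun g => by
    refine ⟨(J'.index : ZMod 3)⁻¹ * (θ g).toAdd, ?_⟩
    rw [map_mul, map_inv, hθz, ← mul_assoc, mul_inv_cancel₀ hidx0, one_mul, ofAdd_toAdd,
      inv_mul_cancel]
  have hbij : Function.Bijective (π.comp θ.ker.subtype) := by
    refine ⟨(injective_iff_map_eq_one _).2 fun g hg => ?_, fun τ => ?_⟩
    · obtain ⟨c, hc⟩ := (hker g).1 hg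
      obtain rfl := hz0 c (hc ▸ g.2)
      exact Subtype.ext (hc.trans (Subtype.ext (by
        show D.v ((0 : ZMod 3) • u0) = 1
        rw [zero_smul, D.v_zero])))
    · obtain ⟨q, hq⟩ := e.surjective τ
      obtain ⟨g, rfl⟩ := QuotientGroup.mk'_surjective (D.Zv u0) q
      obtain ⟨c, hc⟩ := hsplit g
      refine ⟨⟨(z c)⁻¹ * g, hc⟩, ?_⟩
      show π ((z c)⁻¹ * g) = τ
      rw [map_mul, map_inv, (hker _).2 ⟨c, rfl⟩, inv_one, one_mul]
      exact hq
  set eK := MulEquiv.ofBijective _ hbij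
  let ι₀ : S6 →* G := (E.subtype.comp θ.ker.subtype).comp eK.symm.toMonoidHom
  have hinj₀ : Function.Injective ι₀ := fun a b hh =>
    eK.symm.injective (Subtype.ext (Subtype.ext hh))
  have hrange : ∀ g (hg : Commute g (D.v u0)),
      θ ⟨g, mem_centralizer_singleton_iff.2 hg.eq⟩ = 1 → ∃ τ, ι₀ τ = g := fun g hg hh =>
    ⟨eK ⟨_, hh⟩, by
      show (((eK.symm (eK ⟨_, hh⟩) : θ.ker) : E) : G) = g
      rw [MulEquiv.symm_apply_apply]⟩
  have hinv : ∀ g, Commute g (D.v u0) → g * g = 1 → ∃ τ, ι₀ τ = g := fun g hg h2 =>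
    hrange g hg (zmod3_two _ (by
      have := congrArg θ (show (⟨g, mem_centralizer_singleton_iff.2 hg.eq⟩ : E) *
        ⟨g, mem_centralizer_singleton_iff.2 hg.eq⟩ = 1 from Subtype.ext h2)
      rw [map_mul, map_one] at this
      exact this))
  have hcv : ∀ {f : V3} (hf : f ∈ cubeL) {σ : S3}, mon f σ u0 = u0 → Commute (κ f σ) (D.v u0) :=
    fun {f} hf {σ} hfix => by
      have h1 := K.conj_v hf σ u0
      rw [hfix, mul_inv_eq_iff_eq_mul] at h1
      exact h1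
  have hflip : ∀ a, ∀ f ∈ cubeL, mon f 1 u0 = u0 → mon f 1 a = -a → ∃ τ, ι₀ τ = D.v a := by
    intro a f hf hfix hneg
    refine hrange _ (D.v_comm a u0) (zmod3_two _ ?_)
    set F : E := ⟨κ f 1, mem_centralizer_singleton_iff.2 (hcv hf hfix).eq⟩
    set A : E := ⟨D.v a, mem_centralizer_singleton_iff.2 (D.v_comm a u0).eq⟩
    have h1 : F * A * F⁻¹ = A⁻¹ := Subtype.ext (by
      show κ f 1 * D.v a * (κ f 1)⁻¹ = (D.v a)⁻¹
      rw [K.conj_v hf 1 a, hneg, D.v_neg])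
    have h2 := congrArg θ h1
    rw [map_mul, map_mul, map_inv, map_inv, mul_comm (θ F), mul_inv_cancel_right] at h2
    have h3 : θ A * θ A = 1 := by
      nth_rewrite 1 [h2]
      exact inv_mul_cancel _
    exact h3
  obtain ⟨a, ha⟩ := hflip u1 fv1 hf1 a10 a11
  obtain ⟨b, hb⟩ := hflip u2 fv2 hf2 a20 a22
  have hsq : ∀ f ∈ cubeL, κ f 1 * κ f 1 = 1 := fun f hf =>
    K.sq hf (by rw [pm_one]; exact cubeL_sq f hf) (one_mul 1)
  obtain ⟨p, hp⟩ := hinv _ (hcv hf1 a10) (hsq _ hf1)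
  have htt : Commute D.tt (D.v u0) := by
    have h1 := D.el_conj_v 0 u0 tr
    rw [ht0, mul_inv_eq_iff_eq_mul] at h1
    exact h1
  obtain ⟨t, ht⟩ := hinv _ htt D.refl_tt.sq
  have hne : ∀ {x : V3}, x ≠ 0 → D.v x ≠ 1 := fun hx hh => hx (D.v_inj (hh.trans D.v_zero.symm))
  obtain ⟨φ, hφ, φA, φB, φF, φT⟩ := exists_normalise (a := a) (b := b) (p := p) (τ := t)
    (hinj₀ (by rw [map_mul, map_mul, map_one, ha, D.cube]))
    (fun hh => hne hu1 (by rw [← ha, hh, map_one]))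
    (hinj₀ (by rw [map_mul, map_mul, map_one, hb, D.cube]))
    (fun hh => hne hu2 (by rw [← hb, hh, map_one]))
    (hinj₀ (by rw [map_mul, map_mul, ha, hb, (D.v_comm _ _).eq]))
    (fun hh => h21 (D.v_inj (by rw [← hb, ← ha, hh])))
    (fun hh => h21' (D.v_inj (by rw [D.v_neg, ← hb, ← ha, hh, map_inv])))
    (hinj₀ (by rw [map_mul, map_one, hp, hsq _ hf1]))
    (hinj₀ (by
      rw [map_mul, map_mul, map_inv, hp, ha, ← D.v_neg, ← a11, ← K.conj_v hf1 1 u1,
        inv_eq_of_mul_eq_one_right (hsq _ hf1)]))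
    (hinj₀ (by
      rw [map_mul, map_mul, hp, hb]
      have h1 := K.conj_v hf1 1 u2
      rw [a12, mul_inv_eq_iff_eq_mul] at h1
      exact h1))
    (hinj₀ (by rw [map_mul, map_one, ht, D.refl_tt.sq]))
    (hinj₀ (by
      rw [map_mul, map_mul, ht, ha, hb, ← ht12]
      have h1 := D.el_conj_v 0 u1 tr
      rwa [show (D.el 0 tr)⁻¹ = D.tt from inv_eq_of_mul_eq_one_right D.refl_tt.sq] at h1))
  set ι := ι₀.comp φ with hι
  have hcen : ∀ τ, Commute (ι τ) (D.v u0) := fun τ =>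
    mem_centralizer_singleton_iff.1 (((eK.symm (φ τ) : θ.ker) : E)).2
  have hindep : ∀ (c : ZMod 3) τ, D.v (c • u0) = ι τ → c = 0 ∧ τ = 1 := fun c τ hh => by
    have hc : c = 0 := hz0 c (by
      rw [show z c = ((eK.symm (φ τ) : θ.ker) : E) from Subtype.ext hh]
      exact (eK.symm (φ τ)).2)
    refine ⟨hc, hφ.1 (hinj₀ ?_)⟩
    rw [map_one, map_one, show ι₀ (φ τ) = ι τ from rfl, ← hh, hc, zero_smul, D.v_zero]
  have hdec : ∀ g, Commute g (D.v u0) → ∃ c : ZMod 3, ∃ τ, g = D.v (c • u0) * ι τ := fun g hg => by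
    set g' : E := ⟨g, mem_centralizer_singleton_iff.2 hg.eq⟩
    obtain ⟨c, hc⟩ := hsplit g'
    obtain ⟨τ, hτ⟩ := hrange (((z c)⁻¹ * g' : E) : G)
      (mem_centralizer_singleton_iff.1 ((z c)⁻¹ * g').2) hc
    obtain ⟨τ, rfl⟩ := hφ.2 τ
    exact ⟨c, τ, by
      rw [show ι τ = (((z c)⁻¹ * g' : E) : G) from hτ]
      show g = D.v (c • u0) * ((D.v (c • u0))⁻¹ * g)
      rw [mul_inv_cancel_left]⟩
  have vA : ι pA = D.v u1 := by rw [hι, MonoidHom.comp_apply, φA, ha]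
  have vB : ι pB = D.v u2 := by rw [hι, MonoidHom.comp_apply, φB, hb]
  have vF : ι pF = κ fv1 1 := by rw [hι, MonoidHom.comp_apply, φF, hp]
  have vT : ι pT = D.tt := by rw [hι, MonoidHom.comp_apply, φT, ht]
  have vG : ι pG = κ fv2 1 := by
    rw [← six_swap_val.1, map_mul, map_mul, vT, vF, ← K.tt_eq, K.mul _ one3_cube.1 _ _ hf1,
      K.mul _ (cubeL_mul one3_cube.1 (cubeL_pm hf1 tr)) _ _ one3_cube.1, htf1, mul_one, cyc_tr_facts.2.2.1,
      pm_one3, show one3 * fv2 * one3 = fv2 by funext i; simp [one3]]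
  refine ⟨ι, hm, h, K, hinj₀.comp hφ.1, hcen, hdec, hindep, vA, vB, vF, vG, vT, fun τ => ?_⟩
  -- the inversion of the first block
  set f := κ fv0 1 with hfdef
  have hf : f * f = 1 := hsq _ hf0
  have hfi : f⁻¹ = f := inv_eq_of_mul_eq_one_right hf
  have hfv : f * D.v u0 * f = (D.v u0)⁻¹ := by
    have h1 := K.conj_v hf0 1 u0
    rwa [← hfdef, hfi, a00, D.v_neg] at h1
  have hcj : ∀ τ, Commute (f * ι τ * f) (D.v u0) := fun τ => by
    have h1 : Commute (f * ι τ * f⁻¹) (f * D.v u0 * f⁻¹) := (hcen τ).map (MulAut.conj f).toMonoidHom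
    rw [hfi, hfv] at h1
    simpa using h1.inv_right
  choose ν ψ hνψ using fun τ => hdec _ (hcj τ)
  have huniq : ∀ {c c' : ZMod 3} {σ σ' : S6}, D.v (c • u0) * ι σ = D.v (c' • u0) * ι σ' →
      c = c' ∧ σ = σ' := fun {c c' σ σ'} hh => by
    obtain ⟨h1, h2⟩ := hindep (c - c') (σ' * σ⁻¹) (by
      rw [map_mul, map_inv, sub_smul, sub_eq_neg_add, D.v_add, D.v_neg, eq_mul_inv_iff_mul_eq, mul_assoc, hh]
      exact inv_mul_cancel_left _ _)
    exact ⟨sub_eq_zero.1 h1, (mul_inv_eq_one.1 h2).symm⟩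
  have hhom : ∀ σ σ', ν (σ * σ') = ν σ + ν σ' ∧ ψ (σ * σ') = ψ σ * ψ σ' := fun σ σ' => by
    refine huniq ?_
    have h1 : Commute (ι (ψ σ)) (D.v (ν σ' • u0)) := by
      rcases smul_cases (ν σ') u0 with e1 | e1 | e1 <;> rw [e1]
      · rw [D.v_zero]; exact Commute.one_right _
      · exact hcen _
      · rw [D.v_neg]; exact (hcen _).inv_right
    rw [← hνψ, map_mul, add_smul, D.v_add, map_mul,
      show f * (ι σ * ι σ') * f = f * ι σ * f * (f * ι σ' * f) by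
        rw [show f * ι σ * f * (f * ι σ' * f) = f * ι σ * (f * f) * ι σ' * f by group, hf, mul_one]
        group, hνψ σ, hνψ σ']
    calc D.v (ν σ • u0) * ι (ψ σ) * (D.v (ν σ' • u0) * ι (ψ σ'))
        = D.v (ν σ • u0) * (ι (ψ σ) * D.v (ν σ' • u0)) * ι (ψ σ') := by group
      _ = _ := by rw [h1.eq]; group
  let νh : S6 →* Multiplicative (ZMod 3) :=
    MonoidHom.mk' (fun σ => Multiplicative.ofAdd (ν σ)) fun σ σ' => by
      rw [(hhom σ σ').1]; rfl
  let ψh : S6 →* S6 := MonoidHom.mk' ψ fun σ σ' => (hhom σ σ').2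
  have hν : ∀ σ, ν σ = 0 := fun σ =>
    six_hom_trivial (A := Multiplicative (ZMod 3)) mul_zmod3_cube νh σ
  have hψ : ∀ σ, f * ι σ * f = ι (ψ σ) := fun σ => by
    rw [hνψ σ, hν, zero_smul, D.v_zero, one_mul]
  have hfixv : ∀ {σ : S6}, Commute (ι σ) f → ψ σ = σ := fun {σ} hc => by
    refine (hinj₀.comp hφ.1) ?_
    show ι (ψ σ) = ι σ
    rw [← hψ, mul_assoc, hc.eq, ← mul_assoc, hf, one_mul]
  have hA : ψ pA = pA := hfixv (by
    rw [vA]
    have h1 := K.conj_v hf0 1 u1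
    rw [a01, mul_inv_eq_iff_eq_mul] at h1
    exact h1.symm)
  have hB : ψ pB = pB := hfixv (by
    rw [vB]
    have h1 := K.conj_v hf0 1 u2
    rw [a02, mul_inv_eq_iff_eq_mul] at h1
    exact h1.symm)
  have hF : ψ pF = pF := hfixv (by rw [vF]; exact K.commute hf1 hf0 c10 rfl)
  have hG : ψ pG = pG := hfixv (by rw [vG]; exact K.commute hf2 hf0 c20 rfl)
  have hT : ψ pT = pT := hfixv (by
    rw [vT, ← K.tt_eq]
    exact (K.commute hf0 one3_cube.1 c0t (by rw [one_mul, mul_one])).symm)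
  obtain ⟨-, -, -, -, hR2, hR6, hR1, hRF, hRG, hRT⟩ := six_swap_val
  have hR : ψh pR = pR := by
    refine six_fix _ (by rw [← map_mul, hR2, map_one]) (fun hh => hR1 ?_) ?_ ?_ ?_ ?_
    · refine (hinj₀.comp hφ.1) ?_
      show ι pR = ι 1
      have h1 := hψ pR
      rw [show ψ pR = 1 from hh, map_one] at h1
      rw [map_one]
      calc ι pR = f * f * ι pR * (f * f) := by rw [hf, one_mul, mul_one]
        _ = f * (f * ι pR * f) * f := by group
        _ = 1 := by rw [h1, mul_one, hf]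
    · rw [← hF]; show ψh pR * ψh pF = _; rw [← map_mul, hRF, map_mul]; rfl
    · rw [← hG]; show ψh pR * ψh pG = _; rw [← map_mul, hRG, map_mul]; rfl
    · rw [← hT]; show ψh pR * ψh pT = _; rw [← map_mul, hRT, map_mul]; rfl
    · rw [← show ψh (pA * pF * pA⁻¹) = pA * pF * pA⁻¹ by
        rw [map_mul, map_mul, map_inv, show ψh pA = pA from hA, show ψh pF = pF from hF]]
      rw [← map_mul, ← map_mul, ← map_mul, hR6, map_one]
  have hid : ψh = MonoidHom.id S6 := by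
    refine MonoidHom.eq_of_eqOn_dense six_closure ?_
    rintro σ (rfl | rfl | rfl | rfl | rfl)
    exacts [hA, hB, hF, hG, hR]
  have h1 := hψ τ
  rw [show ψ τ = τ from DFunLike.congr_fun hid τ] at h1
  show ι τ * f = f * ι τ
  calc ι τ * f = f * f * ι τ * f := by rw [hf, one_mul]
    _ = f * (f * ι τ * f) := by group
    _ = f * ι τ := by rw [h1]

end Data

end Cfsg.Agent.Recog.SymNine
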