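import Mathlib
import Cfsg.Agent.S3376

/-!
The centralizer in the symmetric group of degree nine of a product of three three-cycles, and the
hypothesis transported to coordinates.
-/

set_option autoImplicit false
set_option linter.unusedSectionVars false

namespace Cfsg.Agent.Recog.SymNine

open Equiv Subgroup

/-- The coordinates of the core. -/
abbrev V3 := Fin 3 → ZMod 3

abbrev S3 := Perm (Fin 3)

/-- The all-one vector. -/
def one3 : V3 := fun _ => 1

/-- A permutation of the blocks acting on vectors. -/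
def pm (σ : S3) (a : V3) : V3 := fun i => a (σ⁻¹ i)

theorem pm_one (a : V3) : pm 1 a = a := rfl

theorem pm_mul (σ σ' : S3) (a : V3) : pm (σ * σ') a = pm σ (pm σ' a) := rfl

theorem pm_add (σ : S3) (a b : V3) : pm σ (a + b) = pm σ a + pm σ b := rfl

theorem pm_one3 (σ : S3) : pm σ one3 = one3 := rfl

/-- The nine points. -/
def pts : Fin 3 × ZMod 3 ≃ Fin 9 := finProdFinEquiv

/-- A shift of the three blocks. -/
def shiftHom : Multiplicative V3 →* Perm (Fin 3 × ZMod 3) where
  toFun a := ⟨fun t => (t.1, t.2 + a.toAdd t.1), fun t => (t.1, t.2 - a.toAdd t.1),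
    fun t => by simp, fun t => by simp⟩
  map_one' := Equiv.ext fun t => by simp
  map_mul' a b := Equiv.ext fun t => by
    show (t.1, t.2 + (a.toAdd t.1 + b.toAdd t.1)) = (t.1, t.2 + b.toAdd t.1 + a.toAdd t.1)
    rw [add_assoc, add_comm (a.toAdd t.1)]

/-- A permutation of the three blocks. -/
def blockHom : S3 →* Perm (Fin 3 × ZMod 3) where
  toFun σ := Equiv.prodCongr σ (Equiv.refl _)
  map_one' := Equiv.ext fun t => rfl
  map_mul' _ _ := Equiv.ext fun t => rfl

/-- The element of the model group with the given coordinates. -/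
def el (a : V3) (σ : S3) : Perm (Fin 9) :=
  pts.permCongrHom (shiftHom (Multiplicative.ofAdd a) * blockHom σ)

theorem el_apply (a : V3) (σ : S3) (b : Fin 3) (i : ZMod 3) :
    el a σ (pts (b, i)) = pts (σ b, i + a (σ b)) := by
  simp [el, Equiv.permCongrHom, Equiv.permCongr_apply, shiftHom, blockHom]

theorem el_mul (a b : V3) (σ τ : S3) : el a σ * el b τ = el (a + pm σ b) (σ * τ) := by
  ext t
  obtain ⟨⟨c, i⟩, rfl⟩ := pts.surjective t
  rw [Perm.mul_apply, el_apply, el_apply, el_apply]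
  simp [pm, add_assoc, add_comm (a _)]

theorem el_injective {a b : V3} {σ τ : S3} (h : el a σ = el b τ) : a = b ∧ σ = τ := by
  have h' : ∀ c i, (σ c, i + a (σ c)) = (τ c, i + b (τ c)) := fun c i =>
    pts.injective (by rw [← el_apply, ← el_apply, h])
  have hσ : σ = τ := Equiv.ext fun c => congrArg Prod.fst (h' c 0)
  subst hσ
  refine ⟨funext fun c => ?_, rfl⟩
  obtain ⟨c, rfl⟩ := σ.surjective c
  simpa using congrArg Prod.snd (h' c 0)

theorem el_zero : el 0 1 = 1 := by
  ext t
  obtain ⟨⟨c, i⟩, rfl⟩ := pts.surjective t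
  rw [el_apply]
  simp

/-- The product of the three cycles of the statement. -/
abbrev piNine : Perm (Fin 9) :=
  Equiv.swap (0 : Fin 9) 1 * Equiv.swap 1 2 * Equiv.swap 3 4 * Equiv.swap 4 5 * Equiv.swap 6 7 *
    Equiv.swap 7 8

theorem el_one3 : el one3 1 = piNine := by decide +kernel

theorem piNine_facts : piNine ^ 3 = 1 ∧ ∀ x : Fin 9, piNine x ≠ x := by decide +kernel

theorem el_mem (a : V3) (σ : S3) : el a σ ∈ centralizer ({piNine} : Set (Perm (Fin 9))) := by
  rw [mem_centralizer_singleton_iff, ← el_one3, el_mul, el_mul, pm_one, pm_one3, mul_one, one_mul,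
    add_comm]

theorem exists_el {p : Perm (Fin 9)} (hp : p ∈ centralizer ({piNine} : Set (Perm (Fin 9)))) :
    ∃ a σ, el a σ = p := by
  let f : V3 × S3 → centralizer ({piNine} : Set (Perm (Fin 9))) := fun q => ⟨_, el_mem q.1 q.2⟩
  have hf : Function.Injective f := fun q q' h => by
    obtain ⟨h1, h2⟩ := el_injective (congrArg Subtype.val h)
    exact Prod.ext h1 h2
  have hc : Nat.card (V3 × S3) = Nat.card (centralizer ({piNine} : Set (Perm (Fin 9)))) := by
    rw [S3376.card_centralizer_perm piNine_facts.1 piNine_facts.2, Nat.card_prod,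
      Nat.card_eq_fintype_card, Nat.card_eq_fintype_card, Fintype.card_perm, Fintype.card_fun,
      ZMod.card, Fintype.card_fin]
    rfl
  obtain ⟨q, hq⟩ := ((Nat.bijective_iff_injective_and_card f).2 ⟨hf, hc⟩).2 ⟨p, hp⟩
  exact ⟨q.1, q.2, congrArg Subtype.val hq⟩

theorem perm_cube : ∀ σ : S3, σ * σ * σ = 1 → σ = 1 ∨ ∀ a : V3, pm σ a = a → a = a 0 • one3 := by
  decide +kernel

/-- An abelian subgroup of order twenty-seven and exponent three of the model group lies in the shifts. -/
theorem core_perm {H : Type*} [Group H] [Finite H] (e : V3 → S3 → H)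
    (hmul : ∀ a b σ τ, e a σ * e b τ = e (a + pm σ b) (σ * τ)) (h1 : e 0 1 = 1)
    (hinj : ∀ a b σ τ, e a σ = e b τ → a = b ∧ σ = τ) {A : Subgroup H}
    (hA : ∀ y ∈ A, ∃ a σ, e a σ = y) (hcomm : ∀ y ∈ A, ∀ y' ∈ A, y * y' = y' * y)
    (hexp : ∀ y ∈ A, y * y * y = 1) (hcard : Nat.card A = 27) {a : V3} {σ : S3} (hm : e a σ ∈ A) :
    σ = 1 := by
  by_contra hσ
  have hcube : ∀ b τ, e b τ ∈ A → τ * τ * τ = 1 := fun b τ hb => by
    have h3 := hexp _ hb
    rw [hmul, hmul, ← h1] at h3
    exact (hinj _ _ _ _ h3).2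
  have hfix := (perm_cube σ (hcube _ _ hm)).resolve_left hσ
  choose fa fs hf using fun y : A => hA y y.2
  have hcom : ∀ b τ, e b τ ∈ A → a + pm σ b = b + pm τ a ∧ σ * τ = τ * σ := fun b τ hb => by
    have h := hcomm _ hm _ hb
    rw [hmul, hmul] at h
    exact hinj _ _ _ _ h
  have hpow : ∀ y : A, ∃ i : ZMod 3, fs y = σ ^ i.val := fun y => by
    have key : ∀ s t : S3, s * s * s = 1 → s ≠ 1 → t * t * t = 1 → s * t = t * s →
        ∃ i : ZMod 3, t = s ^ i.val := by decide +kernel
    exact key σ _ (hcube _ _ hm) hσ (hcube (fa y) _ (by rw [hf]; exact y.2))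
      (hcom (fa y) _ (by rw [hf]; exact y.2)).2
  choose fi hfi using hpow
  have hle : Nat.card A ≤ Nat.card (ZMod 3 × ZMod 3) := by
    refine Nat.card_le_card_of_injective (fun y => (fi y, fa y 0)) fun y y' h => ?_
    obtain ⟨e1, e2⟩ := Prod.mk.injEq _ _ _ _ ▸ h
    have hs : fs y = fs y' := by rw [hfi, hfi, e1]
    have hd : e (fa y - fa y') 1 * e (fa y') (fs y') = e (fa y) (fs y) := by
      rw [hmul, pm_one, one_mul, sub_add_cancel, hs]
    rw [hf, hf] at hd
    have hdA : e (fa y - fa y') 1 ∈ A := by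
      rw [eq_mul_inv_of_mul_eq hd]
      exact mul_mem y.2 (inv_mem y'.2)
    have h' := (hcom _ _ hdA).1
    rw [pm_one, add_comm (fa y - fa y') a] at h'
    have he := hfix _ (add_left_cancel h')
    rw [Pi.sub_apply, e2, sub_self, zero_smul, sub_eq_zero] at he
    exact Subtype.ext (show (y : H) = y' by rw [← hf y, ← hf y', he, hs])
  rw [hcard, Nat.card_prod, Nat.card_zmod] at hle
  omega

universe u

/-- The hypotheses in coordinates. -/
structure Data (G : Type u) [Group G] where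
  /-- The core. -/
  j : Multiplicative V3 →* G
  /-- The permutations of the blocks. -/
  τ : S3 →* G
  conj : ∀ σ a, τ σ * j (Multiplicative.ofAdd a) * (τ σ)⁻¹ = j (Multiplicative.ofAdd (pm σ a))
  inj : ∀ a σ, j (Multiplicative.ofAdd a) * τ σ = 1 → a = 0 ∧ σ = 1
  cent : ∀ g, g * j (Multiplicative.ofAdd one3) = j (Multiplicative.ofAdd one3) * g →
    ∃ a σ, g = j (Multiplicative.ofAdd a) * τ σ
  sig : ∀ K : Subgroup G, (Nat.card K).Coprime 3 →
    (∀ a, K.map (MulAut.conj (j a)).toMonoidHom = K) → K = ⊥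

variable {G : Type u} [Group G]

/-- The coordinates of the hypothesis. -/
theorem exists_data [Finite G] (x : G) (hx : orderOf x = 3)
    (eC : centralizer ({x} : Set G) ≃* centralizer ({piNine} : Set (Perm (Fin 9))))
    (J : Subgroup G) (hJC : J ≤ centralizer ({x} : Set G)) (hJcomm : IsMulCommutative J)
    (hJexp : ∀ j ∈ J, j ^ 3 = 1) (hJcard : Nat.card J = 27)
    (hJsig : ∀ K : Subgroup G, (Nat.card K).Coprime 3 →
      (∀ j ∈ J, K.map (MulAut.conj j).toMonoidHom = K) → K = ⊥) :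
    ∃ D : Data G, D.j.range = J := by
  classical
  let φ : V3 → S3 → centralizer ({x} : Set G) := fun a σ => eC.symm ⟨el a σ, el_mem a σ⟩
  have hφmul : ∀ a b σ τ, φ a σ * φ b τ = φ (a + pm σ b) (σ * τ) := fun a b σ τ => by
    simp only [φ, ← map_mul]
    exact congrArg eC.symm (Subtype.ext (el_mul a b σ τ))
  have hφ1 : φ 0 1 = 1 := by
    simp only [φ]
    rw [← map_one eC.symm]
    exact congrArg eC.symm (Subtype.ext el_zero)
  have hφinj : ∀ a b σ τ, φ a σ = φ b τ → a = b ∧ σ = τ := fun a b σ τ h =>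
    el_injective (congrArg Subtype.val (eC.symm.injective h))
  have hφsurj : ∀ g : centralizer ({x} : Set G), ∃ a σ, φ a σ = g := fun g => by
    obtain ⟨a, σ, h⟩ := exists_el (eC g).2
    exact ⟨a, σ, by simp only [φ, h, Subtype.coe_eta, MulEquiv.symm_apply_apply]⟩
  -- the core
  have hJel : ∀ (a : V3) (σ : S3), (φ a σ : G) ∈ J → σ = 1 := fun a σ hm => by
    refine core_perm (A := J.subgroupOf (centralizer ({x} : Set G))) φ hφmul hφ1 hφinj
      (fun y _ => hφsurj y) (fun y hy y' hy' => Subtype.ext ?_) (fun y hy => Subtype.ext ?_) ?_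
      (show φ a σ ∈ J.subgroupOf (centralizer ({x} : Set G)) from hm)
    · show (y : G) * y' = y' * y
      exact congrArg Subtype.val (hJcomm.is_comm.comm (⟨_, hy⟩ : J) ⟨_, hy'⟩)
    · have := hJexp _ hy
      rw [pow_succ, pow_two] at this
      exact this
    · rw [Nat.card_congr (subgroupOfEquivOfLe hJC).toEquiv, hJcard]
  -- the orientation
  obtain ⟨c, hc, hxc⟩ : ∃ c : ZMod 3, c ≠ 0 ∧ (φ (fun _ => c) 1 : G) = x := by
    let xC : centralizer ({x} : Set G) := ⟨x, mem_centralizer_singleton_iff.2 rfl⟩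
    obtain ⟨a, σ, ha⟩ := hφsurj xC
    have hall : ∀ b τ, φ a σ * φ b τ = φ b τ * φ a σ := fun b τ => by
      rw [ha]
      exact Subtype.ext (mem_centralizer_singleton_iff.1 (φ b τ).2).symm
    have hσ : σ = 1 := by
      have key : ∀ s : S3, (∀ t, s * t = t * s) → s = 1 := by decide +kernel
      refine key σ fun t => ?_
      have h := hall 0 t
      rw [hφmul, hφmul] at h
      exact (hφinj _ _ _ _ h).2
    subst hσ
    have hconst : ∀ i, a i = a 0 := fun i => by
      have h := hall 0 (Equiv.swap 0 i)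
      rw [hφmul, hφmul, pm_one, add_zero, zero_add] at h
      have := congrFun (hφinj _ _ _ _ h).1 i
      simpa [pm] using this
    refine ⟨a 0, fun h0 => ?_, ?_⟩
    · have : xC = 1 := by
        rw [← ha, show a = 0 from funext fun i => (hconst i).trans h0, hφ1]
      have h' : x = 1 := congrArg Subtype.val this
      rw [h', orderOf_one] at hx
      omega
    · rw [show (fun _ => a 0) = a from funext fun i => (hconst i).symm, ha]
  let jh : Multiplicative V3 →* G :=
    { toFun := fun a => (φ (c • a.toAdd) 1 : G)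
      map_one' := by simp [hφ1]
      map_mul' := fun a b => by
        rw [← Subgroup.coe_mul, hφmul, pm_one, one_mul, toAdd_mul, smul_add] }
  let th : S3 →* G :=
    { toFun := fun σ => (φ 0 σ : G)
      map_one' := by simp [hφ1]
      map_mul' := fun σ σ' => by
        rw [← Subgroup.coe_mul, hφmul]
        exact congrArg (fun z => ((φ z (σ * σ') : centralizer ({x} : Set G)) : G))
          (show (0 : V3) = 0 + pm σ 0 from (zero_add _).symm) }
  have hcc : ∀ a : V3, c • (c • a) = a := fun a => by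
    rw [smul_smul, (show ∀ c : ZMod 3, c ≠ 0 → c * c = 1 by decide) c hc, one_smul]
  have hjx : jh (Multiplicative.ofAdd one3) = x := by
    show (φ (c • one3) 1 : G) = x
    rw [show c • one3 = fun _ => c from funext fun _ => mul_one c, hxc]
  have hjt : ∀ a σ, jh (Multiplicative.ofAdd a) * th σ = (φ (c • a) σ : G) := fun a σ => by
    show (φ (c • a) 1 : G) * (φ 0 σ : G) = _
    rw [← Subgroup.coe_mul, hφmul, pm_one, add_zero, one_mul]
  have hrange : jh.range = J := by
    symm
    refine Subgroup.eq_of_le_of_card_ge (fun y hy => ?_) ?_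
    · obtain ⟨a, σ, ha⟩ := hφsurj ⟨y, hJC hy⟩
      obtain rfl := hJel a σ (by rw [ha]; exact hy)
      refine ⟨Multiplicative.ofAdd (c • a), ?_⟩
      show (φ (c • (c • a)) 1 : G) = y
      rw [hcc, ha]
    · rw [hJcard, ← Nat.card_congr (MonoidHom.ofInjective (f := jh) (fun a b h => by
        have h' := congrArg (c • ·) (hφinj _ _ _ _ (Subtype.ext h)).1
        simp only [hcc] at h'
        exact Multiplicative.toAdd.injective h')).toEquiv]
      simp
  refine ⟨⟨jh, th, fun σ a => ?_, fun a σ h => ?_, fun g hg => ?_, fun K hK hn => ?_⟩, hrange⟩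
  · rw [mul_inv_eq_iff_eq_mul, hjt]
    show (φ 0 σ : G) * (φ (c • a) 1 : G) = _
    rw [← Subgroup.coe_mul, hφmul, zero_add, mul_one]
    rfl
  · rw [hjt] at h
    obtain ⟨h1, h2⟩ := hφinj _ _ _ _ (show φ (c • a) σ = φ 0 1 from hφ1 ▸ Subtype.ext h)
    exact ⟨by rw [← hcc a, h1, smul_zero], h2⟩
  · rw [hjx] at hg
    obtain ⟨a, σ, ha⟩ := hφsurj ⟨g, mem_centralizer_singleton_iff.2 hg⟩
    exact ⟨c • a, σ, by rw [hjt, hcc, ha]⟩
  · refine hJsig K hK fun y hy => ?_
    obtain ⟨a, rfl⟩ := hrange.ge hy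
    exact hn a

namespace Data

variable (D : Data G)

/-- The element of the core with given coordinates. -/
def v (a : V3) : G := D.j (Multiplicative.ofAdd a)

theorem v_add (a b : V3) : D.v (a + b) = D.v a * D.v b := map_mul D.j _ _

theorem v_zero : D.v 0 = 1 := map_one D.j

theorem v_neg (a : V3) : D.v (-a) = (D.v a)⁻¹ := map_inv D.j _

theorem v_inj {a b : V3} (h : D.v a = D.v b) : a = b := by
  have h1 : D.v (a - b) * D.τ 1 = 1 := by
    rw [map_one, mul_one, sub_eq_add_neg, D.v_add, D.v_neg, h, mul_inv_cancel]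
  exact sub_eq_zero.1 (D.inj _ _ h1).1

theorem v_comm (a b : V3) : Commute (D.v a) (D.v b) := by
  show D.v a * D.v b = D.v b * D.v a
  rw [← D.v_add, ← D.v_add, add_comm]

theorem conj_v (σ : S3) (a : V3) : D.τ σ * D.v a * (D.τ σ)⁻¹ = D.v (pm σ a) := D.conj σ a

/-- The core. -/
def J : Subgroup G := D.j.range

theorem mem_J {g : G} : g ∈ D.J ↔ ∃ a, D.v a = g :=
  ⟨fun ⟨a, ha⟩ => ⟨a.toAdd, ha⟩, fun ⟨a, ha⟩ => ⟨_, ha⟩⟩

theorem v_mem (a : V3) : D.v a ∈ D.J := ⟨_, rfl⟩

theorem cube (a : V3) : D.v a * D.v a * D.v a = 1 := by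
  rw [← D.v_add, ← D.v_add, ← D.v_zero]
  congr 1
  funext i
  simp only [Pi.add_apply, Pi.zero_apply]
  exact (show ∀ c : ZMod 3, c + c + c = 0 by decide) _

theorem orderOf_v {a : V3} (ha : a ≠ 0) : orderOf (D.v a) = 3 :=
  haveI : Fact (Nat.Prime 3) := ⟨Nat.prime_three⟩
  orderOf_eq_prime (by rw [pow_three', D.cube]) fun h => ha (D.v_inj (h.trans D.v_zero.symm))

theorem card_J : Nat.card D.J = 27 := by
  rw [J, ← Nat.card_congr (MonoidHom.ofInjective (f := D.j) fun a b h =>
    Multiplicative.toAdd.injective (D.v_inj h)).toEquiv]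
  simp

theorem mul_el (a b : V3) (σ τ : S3) :
    D.v a * D.τ σ * (D.v b * D.τ τ) = D.v (a + pm σ b) * D.τ (σ * τ) := by
  rw [D.v_add, ← D.conj_v σ b, map_mul]
  group

theorem el_inj {a b : V3} {σ τ : S3} (h : D.v a * D.τ σ = D.v b * D.τ τ) : a = b ∧ σ = τ := by
  have h1 : D.v (a - b) * D.τ 1 * (D.v b * D.τ τ) = D.v a * D.τ τ := by
    rw [D.mul_el, pm_one, sub_add_cancel, one_mul]
  obtain ⟨h2, h3⟩ : -b + a = 0 ∧ σ * τ⁻¹ = 1 := by
    refine D.inj _ _ ?_
    show D.v (-b + a) * D.τ (σ * τ⁻¹) = 1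
    rw [D.v_add, D.v_neg, map_mul, map_inv, mul_assoc, ← mul_assoc (D.v a), h]
    group
  exact ⟨by rwa [neg_add_eq_zero, eq_comm] at h2, mul_inv_eq_one.1 h3⟩

end Data

end Cfsg.Agent.Recog.SymNine
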