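import Cfsg.Agent.Lib.Recog.SymNine.Light

/-!
The three conjugates of the inversion across the blocks satisfy the relation of a triangle.
-/

set_option autoImplicit false
set_option linter.style.haveILetI false
set_option linter.unusedSectionVars false
set_option maxRecDepth 100000
set_option synthInstance.maxSize 4096

namespace Cfsg.Agent.Recog.SymNine

open Cfsg Subgroup

universe u

/-- The second transposition of a symmetric triple. -/
def p14 : S6 := Equiv.swap 1 4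

/-- The third transposition of a symmetric triple. -/
def p25 : S6 := Equiv.swap 2 5

theorem triple_facts :
    pA * pB * pR * (pA * pB)⁻¹ = p14 ∧ pA * pB * p14 * (pA * pB)⁻¹ = p25 ∧
      pA * pB * p25 * (pA * pB)⁻¹ = pR ∧ pR * pR = 1 ∧ p14 * p14 = 1 ∧ p25 * p25 = 1 ∧
      pR * p14 = p14 * pR ∧ pR * p25 = p25 * pR ∧ p14 * p25 = p25 * p14 := by decide +kernel

theorem triple_cent : ∀ x : S6, x * pR = pR * x → x * p14 = p14 * x → x * p25 = p25 * x →
    x = 1 ∨ x = pR ∨ x = p14 ∨ x = p25 ∨ x = pR * p14 ∨ x = pR * p25 ∨ x = p14 * p25 ∨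
      x = pR * p14 * p25 := by decide +kernel

theorem triple_move : ∃ γ : S6, γ * pR * γ⁻¹ = pR ∧ γ * p14 * γ⁻¹ = pF ∧ γ * p25 * γ⁻¹ = pG := by
  decide +kernel

theorem line_move : ∃ γ : S6, γ * pG * γ⁻¹ = pR ∧ γ * pF * γ⁻¹ = pF := by decide +kernel

theorem triple_off : ∀ i j : ZMod 3, j ≠ 0 →
    i • u0 + j • (u1 + u2) ≠ 0 ∧ i • u0 + j • (u1 + u2) ∉ [(![1, 0, 0] : V3), ![0, 1, 0], ![0, 0, 1],
      ![-1, 0, 0], ![0, -1, 0], ![0, 0, -1]] := by decide +kernel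

theorem triple_span : ∀ i j : ZMod 3, i • u0 + j • (u1 + u2) = 0 → i = 0 ∧ j = 0 := by decide +kernel

theorem pR_pA_ne : pR * pA ≠ pA * pR := by decide +kernel

theorem third_zmod3 : ∀ a b c : ZMod 3, a ≠ b → a ≠ c → b ≠ c → c + c - b = a := by decide

theorem zmod3_double : ∀ c : ZMod 3, c + c = 0 → c = 0 := zmod3_two

/-- In a finite group, an involution which is its own centralizer is conjugate to every other. -/
theorem conj_of_self_cent {Q : Type u} [Group Q] [Finite Q] {a b : Q} (ha : a * a = 1) (ha1 : a ≠ 1)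
    (hc : ∀ q, Commute q a → q = 1 ∨ q = a) (hb : b * b = 1) (hb1 : b ≠ 1) :
    ∃ c, c * b * c⁻¹ = a := by
  haveI : Fact (Nat.Prime 2) := ⟨Nat.prime_two⟩
  have hp : ∀ x : Q, x * x = 1 → x ≠ 1 → IsPGroup 2 (zpowers x) := fun x hx hx1 =>
    IsPGroup.of_card (n := 1) (by
      rw [Nat.card_zpowers, pow_one, orderOf_eq_prime (by rw [pow_two, hx]) hx1])
  obtain ⟨P, hP⟩ := (hp a ha ha1).exists_le_sylow
  have haP : a ∈ (P : Subgroup Q) := hP (mem_zpowers a)
  haveI : Nontrivial (P : Subgroup Q) := ⟨⟨⟨a, haP⟩, 1, fun e => ha1 (congrArg Subtype.val e)⟩⟩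
  haveI := P.isPGroup'.center_nontrivial
  obtain ⟨⟨z, hz⟩, hz1⟩ := exists_ne (1 : center (P : Subgroup Q))
  have hza : (z : Q) = a := ((hc z (congrArg Subtype.val (mem_center_iff.1 hz ⟨a, haP⟩)).symm).resolve_left
    fun e => hz1 (Subtype.ext (Subtype.ext e)))
  have hall : ∀ y ∈ (P : Subgroup Q), y = 1 ∨ y = a := fun y hy => hc y (by
    have h := congrArg Subtype.val (mem_center_iff.1 hz ⟨y, hy⟩)
    show y * a = a * y
    rw [← hza]
    exact h)
  obtain ⟨R, hR⟩ := (hp b hb hb1).exists_le_sylow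
  obtain ⟨c, hcR⟩ := MulAction.exists_smul_eq Q R P
  refine ⟨c, (hall _ ?_).resolve_left fun e => hb1 (conj_eq_one_iff.1 e)⟩
  rw [← hcR, Sylow.coe_subgroup_smul]
  exact Subgroup.smul_mem_pointwise_smul _ (MulAut.conj c) _ (hR (mem_zpowers b))

namespace Data

variable {G : Type u} [Group G] [Finite G] {D : Data G}

theorem v_zpow (D : Data G) (a : V3) (n : ℤ) : (D.v a) ^ n = D.v ((n : ZMod 3) • a) := by
  rw [Int.cast_smul_eq_zsmul]
  exact (map_zpow D.j _ n).symm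

theorem v_smul_mem (D : Data G) {H : Subgroup G} {a : V3} (h : D.v a ∈ H) (c : ZMod 3) :
    D.v (c • a) ∈ H := by
  rcases smul_cases c a with e | e | e <;> rw [e]
  · rw [D.v_zero]; exact one_mem _
  · exact h
  · rw [D.v_neg]; exact inv_mem h

theorem commute_smul (D : Data G) {g : G} {a : V3} (h : Commute g (D.v a)) (c : ZMod 3) :
    Commute g (D.v (c • a)) :=
  (mem_centralizer_singleton_iff.1 (D.v_smul_mem (H := centralizer ({g} : Set G))
    (mem_centralizer_singleton_iff.2 h.eq.symm) c) : Commute (D.v (c • a)) g).symm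

namespace Six

variable {κ : V3 → S3 → G} {ι : S6 →* G} (S : Six D κ ι)

include S

theorem commute_of_line {c : ZMod 3} {τ p : S6} (h : Commute (D.v (c • u0) * ι τ) (ι p)) :
    τ * p = p * τ := by
  refine S.inj ?_
  have h2 := (D.commute_smul (S.cen p) c).symm.inv_left.mul_left h
  rw [inv_mul_cancel_left] at h2
  rw [map_mul, map_mul]
  exact h2.eq

/-- The centralizer of a symmetric triple of transpositions normalizes the cycle of the first block. -/
theorem triple_normal {g : G} (h0 : Commute g (ι pR)) (h1 : Commute g (ι p14))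
    (h2 : Commute g (ι p25)) : ∃ c : ZMod 3, g * D.v u0 * g⁻¹ = D.v (c • u0) := by
  classical
  haveI : Fact (Nat.Prime 3) := ⟨Nat.prime_three⟩
  obtain ⟨hR, h14, h25, sR, s14, s25, cA, cB, cC⟩ := triple_facts
  obtain ⟨-, hu0, -⟩ := u_facts
  set E8 := centralizer ({pR, p14, p25} : Set S6) with hE8
  have hE8mem : ∀ {x}, x ∈ E8 ↔ x * pR = pR * x ∧ x * p14 = p14 * x ∧ x * p25 = p25 * x := fun {x} => by
    simp only [hE8, mem_centralizer_iff, Set.mem_insert_iff, Set.mem_singleton_iff, forall_eq_or_imp,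
      forall_eq]
    exact ⟨fun ⟨a, b, c⟩ => ⟨a.symm, b.symm, c.symm⟩, fun ⟨a, b, c⟩ => ⟨a.symm, b.symm, c.symm⟩⟩
  have hE8R : pR ∈ E8 := hE8mem.2 ⟨rfl, cA, cB⟩
  have hE814 : p14 ∈ E8 := hE8mem.2 ⟨cA.symm, rfl, cC⟩
  have hE825 : p25 ∈ E8 := hE8mem.2 ⟨cB.symm, cC.symm, rfl⟩
  have hE8sq : ∀ x ∈ E8, x * x = 1 := fun x hx => by
    obtain ⟨a, b, c⟩ := hE8mem.1 hx
    rcases triple_cent x a b c with rfl | rfl | rfl | rfl | rfl | rfl | rfl | rfl
    · exact one_mul 1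
    · exact sR
    · exact s14
    · exact s25
    all_goals decide +kernel
  set W := E8.map ι with hW
  set H := normalizer (W : Set G) with hH
  set X := centralizer (W : Set G) with hX
  have hXH : X ≤ H := centralizer_le_normalizer _
  have hWX : W ≤ X := by
    rintro _ ⟨x, hx, rfl⟩
    refine mem_centralizer_iff.2 ?_
    rintro _ ⟨y, hy, rfl⟩
    rw [← map_mul, ← map_mul]
    have h2 := hE8sq _ (mul_mem hy hx)
    rw [← inv_eq_of_mul_eq_one_right h2, mul_inv_rev, inv_eq_of_mul_eq_one_right (hE8sq x hx),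
      inv_eq_of_mul_eq_one_right (hE8sq y hy)]
  have hXmem : ∀ {y : G}, Commute y (ι pR) → Commute y (ι p14) → Commute y (ι p25) → y ∈ X := by
    intro y a b c
    refine mem_centralizer_iff.2 ?_
    rintro _ ⟨x, hx, rfl⟩
    obtain ⟨p, q, r⟩ := hE8mem.1 hx
    rcases triple_cent x p q r with rfl | rfl | rfl | rfl | rfl | rfl | rfl | rfl <;>
      (try simp only [map_mul, map_one])
    · simp
    · exact a.eq.symm
    · exact b.eq.symm
    · exact c.eq.symm
    · exact (a.mul_right b).eq.symm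
    · exact (a.mul_right c).eq.symm
    · exact (b.mul_right c).eq.symm
    · exact ((a.mul_right b).mul_right c).eq.symm
  have hgX : g ∈ X := hXmem h0 h1 h2
  have he0X : D.v u0 ∈ X := hXmem (S.cen _).symm (S.cen _).symm (S.cen _).symm
  have hdec : ∀ y ∈ X, Commute y (D.v u0) →
      ∃ c : ZMod 3, ∃ τ ∈ E8, y = D.v (c • u0) * ι τ := fun y hy hc => by
    obtain ⟨c, τ, rfl⟩ := S.decomp y hc
    refine ⟨c, τ, hE8mem.2 ⟨?_, ?_, ?_⟩, rfl⟩ <;>
      refine S.commute_of_line (c := c) ?_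
    · exact (mem_centralizer_iff.1 hy _ ⟨pR, hE8R, rfl⟩).symm
    · exact (mem_centralizer_iff.1 hy _ ⟨p14, hE814, rfl⟩).symm
    · exact (mem_centralizer_iff.1 hy _ ⟨p25, hE825, rfl⟩).symm
  have hcube : ∀ y z : G, z ∈ W → Commute y z → y * y * y = 1 → (y * z) * (y * z) * (y * z) = 1 →
      z = 1 := by
    rintro y _ ⟨x, hx, rfl⟩ hc h3 h3'
    have h2 : ι x * ι x = 1 := by rw [← map_mul, hE8sq x hx, map_one]
    rw [← pow_three', hc.mul_pow, pow_three', pow_three', h3, one_mul, h2, one_mul] at h3'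
    exact h3'
  set Wn := W.subgroupOf H with hWn
  haveI hWnn : Wn.Normal := normal_in_normalizer
  set π := QuotientGroup.mk' Wn with hπ
  have hker : ∀ y : H, π y = 1 ↔ (y : G) ∈ W := fun y => QuotientGroup.eq_one_iff y
  haveI hXn : (X.subgroupOf H).Normal := ⟨fun x hx h => by
    rw [mem_subgroupOf, hX, mem_centralizer_iff]
    intro w hw
    have h1 : (h : G)⁻¹ * w * (h : G)⁻¹⁻¹ * x = x * ((h : G)⁻¹ * w * (h : G)⁻¹⁻¹) :=
      mem_centralizer_iff.1 hx _ ((mem_normalizer_iff.1 (inv_mem h.2) w).1 hw)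
    push_cast
    calc w * (h * x * (h : G)⁻¹) = h * ((h : G)⁻¹ * w * (h : G)⁻¹⁻¹ * x) * (h : G)⁻¹ := by group
      _ = _ := by rw [h1]; group⟩
  set M := (X.subgroupOf H).map π with hM
  haveI : M.Normal := Subgroup.Normal.map hXn π (QuotientGroup.mk'_surjective Wn)
  set eb : H := ⟨D.v u0, hXH he0X⟩ with heb
  set B := zpowers (π eb) with hB
  have hebM : π eb ∈ M := ⟨eb, he0X, rfl⟩
  have hBM : B ≤ M := zpowers_le.2 hebM
  have hBcard : Nat.card B = 3 := by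
    rw [hB, Nat.card_zpowers]
    refine orderOf_eq_prime ?_ fun h => ?_
    · rw [← map_pow, show eb ^ 3 = 1 from Subtype.ext (by rw [Subgroup.coe_pow, pow_three']; exact D.cube _),
        map_one]
    · obtain ⟨x, -, hx⟩ := (hker eb).1 h
      exact one_ne_zero (S.indep 1 x (by rw [one_smul]; exact hx.symm)).1
  have hXof : ∀ y : H, π y ∈ M → (y : G) ∈ X := by
    rintro y ⟨x, hx, he⟩
    have h1 : x⁻¹ * y ∈ Wn := QuotientGroup.eq.1 he
    have h2 : ((x : G))⁻¹ * y ∈ X := hWX h1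
    simpa using mul_mem (show (x : G) ∈ X from hx) h2
  have hspanH : ∀ i j : ZMod 3, D.v (i • u0 + j • (u1 + u2)) ∈ H := by
    intro i j
    rw [D.v_add]
    refine mul_mem (D.v_smul_mem (hXH he0X) i) (D.v_smul_mem ?_ j)
    rw [D.v_add, ← S.valA, ← S.valB, ← map_mul]
    refine mem_normalizer_fintype ?_
    rintro _ ⟨x, hx, rfl⟩
    refine ⟨pA * pB * x * (pA * pB)⁻¹, ?_, by simp [map_mul]⟩
    obtain ⟨p, q, r⟩ := hE8mem.1 hx
    rcases triple_cent x p q r with rfl | rfl | rfl | rfl | rfl | rfl | rfl | rfl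
    · simp only [mul_one, mul_inv_cancel]; exact one_mem _
    · rw [hR]; exact hE814
    · rw [h14]; exact hE825
    · rw [h25]; exact hE8R
    all_goals refine hE8mem.2 ?_; decide +kernel
  set Aup := D.span2 u0 (u1 + u2) with hAup
  have hAH : Aup ≤ H := by
    rintro _ ⟨i, j, rfl⟩
    exact hspanH i j
  set A := (Aup.subgroupOf H).map π with hA
  have hAp : IsPGroup 3 A := ((D.isPGroup_J.to_le (D.span2_le _ _)).comap_subtype).map π
  have hn : (B.subgroupOf M).Normal := by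
    refine normal_of_self_cent hAp hBM hBcard ?_ ?_
    · rintro _ ⟨y, hy, rfl⟩ hcb
      have h3 := hcb _ (mem_zpowers _)
      rw [← map_mul, ← map_mul] at h3
      have h4 : (y * eb)⁻¹ * (eb * y) ∈ Wn := QuotientGroup.eq.1 h3
      set w := ((y : G) * D.v u0)⁻¹ * (D.v u0 * y) with hw
      have hwW : w ∈ W := h4
      have hconj : (y : G)⁻¹ * D.v u0 * y = D.v u0 * w := by rw [hw]; group
      have hw1 : w = 1 := hcube (D.v u0) w hwW (mem_centralizer_iff.1 he0X _ hwW).symm (D.cube _) (by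
        rw [← hconj, show (y : G)⁻¹ * D.v u0 * y * ((y : G)⁻¹ * D.v u0 * y) * ((y : G)⁻¹ * D.v u0 * y)
          = (y : G)⁻¹ * (D.v u0 * D.v u0 * D.v u0) * y by group, D.cube]
        group)
      have hcom : Commute (y : G) (D.v u0) := by
        show (y : G) * D.v u0 = D.v u0 * y
        rw [hw, inv_mul_eq_one] at hw1
        exact hw1
      obtain ⟨c, τ, hτ, hy'⟩ := hdec y hy hcom
      have hcH : D.v (c • u0) ∈ H := D.v_smul_mem (hXH he0X) c
      rw [show π y = π ⟨D.v (c • u0), hcH⟩ from QuotientGroup.eq.2 (by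
        show ((y : G))⁻¹ * D.v (c • u0) ∈ W
        rw [hy', mul_inv_rev, inv_mul_cancel_right]
        exact inv_mem ⟨τ, hτ, rfl⟩)]
      refine mem_zpowers_iff.2 ⟨(c.val : ℤ), ?_⟩
      rw [← map_zpow]
      refine congrArg π (Subtype.ext ?_)
      rw [SubgroupClass.coe_zpow, heb, v_zpow, Int.cast_natCast, ZMod.natCast_rightInverse c]
    · intro K hKM hK hKn
      set K1 := (K.comap π).map H.subtype with hK1
      have hcopW : (Nat.card Wn).Coprime 3 := by
        rw [hWn, Nat.card_congr (subgroupOfEquivOfLe (hWX.trans hXH)).toEquiv, hW,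
          card_map_of_injective S.inj]
        obtain ⟨n, hn'⟩ := IsPGroup.iff_card.1 (show IsPGroup 2 E8 from fun x =>
          ⟨1, Subtype.ext (by rw [pow_one, pow_two]; exact hE8sq x x.2)⟩)
        haveI : Fact (Nat.Prime 2) := ⟨Nat.prime_two⟩
        rw [hn']; exact Nat.Coprime.pow_left n (by norm_num)
      have hcop1 : (Nat.card K1).Coprime 3 := by
        rw [hK1, card_map_of_injective H.subtype_injective]
        exact comap_coprime Wn hcopW K hK
      have hK1X : K1 ≤ X := by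
        rintro _ ⟨y, hy, rfl⟩
        exact hXof y (hKM hy)
      have hWK : W ≤ K1 := fun w hw =>
        ⟨⟨w, hXH (hWX hw)⟩, by
          show π _ ∈ K
          rw [(hker _).2 hw]; exact one_mem _, rfl⟩
      have hAn : Aup ≤ normalizer (K1 : Set G) := fun a ha => mem_normalizer_fintype (by
        rintro _ ⟨k, hk, rfl⟩
        refine ⟨⟨a, hAH ha⟩ * k * (⟨a, hAH ha⟩ : H)⁻¹, ?_, rfl⟩
        show π _ ∈ K
        rw [map_mul, map_mul, map_inv]
        exact (mem_normalizer_iff.1 (hKn ⟨⟨a, hAH ha⟩, ha, rfl⟩) _).1 hk)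
      have hjK : ∀ y, y ∈ D.J → y ∈ K1 → y = 1 := fun y hy hyK => by
        obtain ⟨b, rfl⟩ := D.mem_J.1 hy
        refine orderOf_eq_one_iff.1 (Nat.eq_one_of_dvd_coprimes hcop1
          (Subgroup.orderOf_dvd_natCard _ hyK) (orderOf_dvd_of_pow_eq_one ?_))
        rw [pow_three', D.cube]
      haveI : IsMulCommutative Aup :=
        ⟨⟨fun a b => Subtype.ext (D.J_comm (D.span2_le _ _ a.2) (D.span2_le _ _ b.2))⟩⟩
      have hAcard : Nat.card Aup = 9 := D.card_span2 triple_span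
      have hncyc : ¬ IsCyclic Aup := fun hc => by
        obtain ⟨a, ha⟩ := hc.exists_ofOrder_eq_natCard
        rw [hAcard] at ha
        obtain ⟨b, hb⟩ := D.mem_J.1 (D.span2_le _ _ a.2)
        have h3 : a ^ 3 = 1 := Subtype.ext (by rw [Subgroup.coe_pow, pow_three', ← hb, D.cube]; rfl)
        have h4 := orderOf_dvd_of_pow_eq_one h3
        rw [ha] at h4
        norm_num at h4
      have hle : K1 ≤ W := by
        rw [← Grp.generated_by_centralizers Aup K1 hncyc hAn (by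
          rw [hAcard, show 9 = 3 ^ 2 by norm_num]
          exact Nat.Coprime.pow_left 2 hcop1.symm)]
        refine iSup₂_le fun a ha k hk => ?_
        obtain ⟨⟨i, j, rfl⟩, ha1⟩ := ha
        have hka : Commute k (D.v (i • u0 + j • (u1 + u2))) := mem_centralizer_singleton_iff.1 hk.2
        have hcom : Commute k (D.v u0) := by
          by_cases hj : j = 0
          · subst hj
            rw [zero_smul, add_zero] at ha1 hka
            have hi : i ≠ 0 := fun e => ha1 (by rw [e, zero_smul, D.v_zero])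
            have h5 := D.commute_smul hka i
            rwa [smul_smul, zmod3_facts.1 i hi, one_smul] at h5
          · obtain ⟨n1, n2⟩ := triple_off i j hj
            have hkN : k ∈ D.N := cent_off_axes S.hm n1 (fun h => n2 (axis_singles _ h))
              (mem_centralizer_singleton_iff.2 hka.eq)
            have hvJ : D.v u0 ∈ D.J := D.v_mem u0
            have h5 : k * D.v u0 * k⁻¹ * (D.v u0)⁻¹ ∈ D.J :=
              mul_mem ((mem_normalizer_iff.1 hkN _).1 hvJ) (inv_mem hvJ)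
            have hvA : D.v u0 ∈ Aup := ⟨1, 0, by rw [one_smul, zero_smul, add_zero]⟩
            have h6 : k * D.v u0 * k⁻¹ * (D.v u0)⁻¹ ∈ K1 := by
              rw [mul_assoc k (D.v u0), mul_assoc k (D.v u0 * k⁻¹)]
              exact mul_mem hk.1 ((mem_normalizer_iff.1 (hAn hvA) _).1 (inv_mem hk.1))
            exact mul_inv_eq_iff_eq_mul.1 (mul_inv_eq_one.1 (hjK _ h5 h6))
        obtain ⟨c, τ, hτ, hk'⟩ := hdec k (hK1X hk.1) hcom
        have hτW : ι τ ∈ W := ⟨τ, hτ, rfl⟩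
        have hc1 : D.v (c • u0) ∈ K1 := by
          rw [eq_mul_inv_of_mul_eq hk'.symm]
          exact mul_mem hk.1 (inv_mem (hWK hτW))
        rw [hk', hjK _ (D.v_mem _) hc1, one_mul]
        exact hτW
      refine (Subgroup.eq_bot_iff_forall _).2 fun q hq => ?_
      obtain ⟨y, rfl⟩ := QuotientGroup.mk'_surjective Wn q
      exact (hker y).2 (hle ⟨y, hq, rfl⟩)
  set gb : H := ⟨g, hXH hgX⟩ with hgb
  have hgM : π gb ∈ M := ⟨gb, hgX, rfl⟩
  have h5 := hn.conj_mem ⟨π eb, hebM⟩ (mem_zpowers (π eb)) ⟨π gb, hgM⟩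
  obtain ⟨n, hn'⟩ := mem_zpowers_iff.1 (show π gb * π eb * (π gb)⁻¹ ∈ B from h5)
  rw [← map_inv, ← map_mul, ← map_mul, ← map_zpow] at hn'
  have h6 := QuotientGroup.eq.1 hn'
  rw [hWn, mem_subgroupOf] at h6
  push_cast at h6
  rw [heb, hgb] at h6
  rw [v_zpow] at h6
  refine ⟨(n : ZMod 3), ?_⟩
  set y := D.v ((n : ZMod 3) • u0) with hy
  have hyX : y ∈ X := D.v_smul_mem he0X _
  have h7 := hcube y (y⁻¹ * (g * D.v u0 * g⁻¹)) h6 (mem_centralizer_iff.1 hyX _ h6).symm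
    (D.cube _) (by
      rw [mul_inv_cancel_left, show g * D.v u0 * g⁻¹ * (g * D.v u0 * g⁻¹) * (g * D.v u0 * g⁻¹) =
        g * (D.v u0 * D.v u0 * D.v u0) * g⁻¹ by group, D.cube, mul_one, mul_inv_cancel])
  exact (inv_mul_eq_one.1 h7).symm

/-- The centralizer of the three commuting conjugates of the inversion. -/
theorem cross_cent {g : G} (h1 : Commute g (ι pF)) (h2 : Commute g (ι pG)) (h3 : Commute g (ι pR)) :
    ∃ c : ZMod 3, ∃ τ : S6, (τ * pF = pF * τ ∧ τ * pG = pG * τ ∧ τ * pR = pR * τ) ∧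
      (g = D.v (c • u0) * ι τ ∨ g = κ fv0 1 * (D.v (c • u0) * ι τ)) := by
  obtain ⟨γ, gR, g14, g25⟩ := triple_move
  have hmove : ∀ {p q : S6}, γ * p * γ⁻¹ = q → Commute g (ι q) →
      Commute ((ι γ)⁻¹ * g * ι γ) (ι p) := fun {p q} hq hc => by
    subst hq
    have h4 : Commute ((ι γ)⁻¹ * g * (ι γ)⁻¹⁻¹) ((ι γ)⁻¹ * ι (γ * p * γ⁻¹) * (ι γ)⁻¹⁻¹) :=
      hc.map (MulAut.conj (ι γ)⁻¹).toMonoidHom
    rw [inv_inv, map_mul, map_mul, map_inv] at h4
    rwa [show (ι γ)⁻¹ * (ι γ * ι p * (ι γ)⁻¹) * ι γ = ι p by group] at h4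
  obtain ⟨c, hc⟩ := S.triple_normal (hmove gR h3) (hmove g14 h1) (hmove g25 h2)
  have hg : g * D.v u0 * g⁻¹ = D.v (c • u0) := by
    calc g * D.v u0 * g⁻¹
        = g * (ι γ * D.v u0 * (ι γ)⁻¹) * g⁻¹ := by rw [(S.cen γ).eq]; group
      _ = ι γ * ((ι γ)⁻¹ * g * ι γ * D.v u0 * ((ι γ)⁻¹ * g * ι γ)⁻¹) * (ι γ)⁻¹ := by group
      _ = _ := by rw [hc, (D.commute_smul (S.cen γ) c).eq]; group
  have hdec : ∀ y, Commute y (D.v u0) → Commute y (ι pF) → Commute y (ι pG) → Commute y (ι pR) →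
      ∃ c : ZMod 3, ∃ τ : S6, (τ * pF = pF * τ ∧ τ * pG = pG * τ ∧ τ * pR = pR * τ) ∧
        y = D.v (c • u0) * ι τ := fun y hy a b d => by
    obtain ⟨c, τ, rfl⟩ := S.decomp y hy
    exact ⟨c, τ, ⟨S.commute_of_line a, S.commute_of_line b, S.commute_of_line d⟩, rfl⟩
  rcases smul_cases c u0 with e | e | e <;> rw [e] at hg
  · rw [D.v_zero, conj_eq_one_iff] at hg
    exact absurd (D.v_inj (hg.trans D.v_zero.symm)) u_facts.2.1
  · obtain ⟨c', τ, hτ, hy⟩ := hdec g (mul_inv_eq_iff_eq_mul.1 hg) h1 h2 h3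
    exact ⟨c', τ, hτ, Or.inl hy⟩
  · set f := κ fv0 1
    have hf : f * f = 1 := S.kappa.refl_f0.sq
    have hfv : f * D.v (-u0) * f = D.v u0 := by
      have h4 := S.kappa.conj_v fv_facts.1 1 (-u0)
      rwa [inv_eq_of_mul_eq_one_right hf, show mon fv0 1 (-u0) = u0 by decide +kernel] at h4
    have hcom : Commute (f * g) (D.v u0) := by
      refine mul_inv_eq_iff_eq_mul.1 ?_
      calc f * g * D.v u0 * (f * g)⁻¹ = f * (g * D.v u0 * g⁻¹) * f⁻¹ := by group
        _ = _ := by rw [hg, inv_eq_of_mul_eq_one_right hf, hfv]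
    obtain ⟨c', τ, hτ, hy⟩ := hdec (f * g) hcom ((S.cen0 pF).symm.mul_left h1)
      ((S.cen0 pG).symm.mul_left h2) ((S.cen0 pR).symm.mul_left h3)
    refine ⟨c', τ, hτ, Or.inr ?_⟩
    rw [← hy, ← mul_assoc, hf, one_mul]

theorem cent_eight {τ : S6} (h : τ * pF = pF * τ ∧ τ * pG = pG * τ ∧ τ * pR = pR * τ) :
    ∃ e ∈ cubeL, ι τ = κ e 1 ∨ ι τ = ι pR * κ e 1 := by
  obtain ⟨-, hf1, hf2, -⟩ := fv_facts
  have h12 := cubeL_mul hf1 hf2
  have hFR : ι pF * ι pR = ι pR * ι pF := by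
    rw [← map_mul, ← map_mul, six_swap_val.2.2.2.2.2.2.2.1]
  have hGR : ι pG * ι pR = ι pR * ι pG := by
    rw [← map_mul, ← map_mul, six_swap_val.2.2.2.2.2.2.2.2.1]
  rcases six_three τ h.1 h.2.1 h.2.2 with rfl | rfl | rfl | rfl | rfl | rfl | rfl | rfl
  · exact ⟨one3, one3_cube.1, Or.inl (by rw [map_one, S.kappa.one])⟩
  · exact ⟨fv1, hf1, Or.inl S.valF⟩
  · exact ⟨fv2, hf2, Or.inl S.valG⟩
  · exact ⟨one3, one3_cube.1, Or.inr (by rw [S.kappa.one, mul_one])⟩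
  · exact ⟨_, h12, Or.inl (by rw [map_mul, S.valF, S.valG, S.kappa.mul_one_perm hf1 hf2])⟩
  · exact ⟨fv1, hf1, Or.inr (by rw [map_mul, hFR, S.valF])⟩
  · exact ⟨fv2, hf2, Or.inr (by rw [map_mul, hGR, S.valG])⟩
  · exact ⟨_, h12, Or.inr (by
      rw [map_mul, map_mul, mul_assoc, hGR, ← mul_assoc, hFR, mul_assoc, S.valF, S.valG,
        S.kappa.mul_one_perm hf1 hf2])⟩

/-- The four commuting conjugates of the inversion are self-centralizing. -/
theorem four_cent {g : G} (h0 : Commute g (κ fv0 1)) (h1 : Commute g (ι pF))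
    (h2 : Commute g (ι pG)) (h3 : Commute g (ι pR)) :
    ∃ e ∈ cubeL, g = κ e 1 ∨ g = ι pR * κ e 1 := by
  obtain ⟨c, τ, hτ, hg⟩ := S.cross_cent h1 h2 h3
  obtain ⟨e, he, het⟩ := S.cent_eight hτ
  set f := κ fv0 1 with hfdef
  have hf : f * f = 1 := S.kappa.refl_f0.sq
  have hff : Commute (f * (D.v (c • u0) * ι τ)) f → Commute (D.v (c • u0) * ι τ) f := fun hh => by
    have := (Commute.refl f).mul_left hh
    rwa [← mul_assoc, hf, one_mul] at this
  have hvf : Commute (D.v (c • u0) * ι τ) f := by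
    rcases hg with rfl | rfl
    exacts [h0, hff h0]
  have hc : Commute (D.v (c • u0)) f := by
    have h4 := hvf.mul_left (S.cen0 τ).inv_left
    rwa [mul_inv_cancel_right] at h4
  have hc0 : c = 0 := by
    have h4 := S.kappa.conj_v fv_facts.1 1 (c • u0)
    rw [← hfdef, ← hc.eq, mul_inv_cancel_right] at h4
    have h5 := D.v_inj h4
    exact (show ∀ c : ZMod 3, c • u0 = mon fv0 1 (c • u0) → c = 0 by decide +kernel) c h5
  rw [hc0, zero_smul, D.v_zero, one_mul] at hg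
  obtain ⟨hf0, -⟩ := fv_facts
  rcases hg with rfl | rfl
  · exact ⟨e, he, het⟩
  · refine ⟨fv0 * e, cubeL_mul hf0 he, ?_⟩
    rcases het with e1 | e1 <;> rw [e1]
    · exact Or.inl (S.kappa.mul_one_perm hf0 he)
    · refine Or.inr ?_
      rw [← mul_assoc, ← (S.cen0 pR).eq, mul_assoc, S.kappa.mul_one_perm hf0 he]

/-- The sign changes. -/
def signs : Subgroup G where
  carrier := {g | ∃ e ∈ cubeL, g = κ e 1}
  one_mem' := ⟨one3, one3_cube.1, S.kappa.one.symm⟩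
  mul_mem' := by
    rintro _ _ ⟨e, he, rfl⟩ ⟨e', he', rfl⟩
    exact ⟨_, cubeL_mul he he', S.kappa.mul_one_perm he he'⟩
  inv_mem' := by
    rintro _ ⟨e, he, rfl⟩
    refine ⟨e, he, inv_eq_of_mul_eq_one_right ?_⟩
    rw [S.kappa.mul_one_perm he he, cubeL_sq e he, S.kappa.one]

theorem signs_commute {g : G} (h0 : Commute g (κ fv0 1)) (h1 : Commute g (κ fv1 1))
    (h2 : Commute g (κ fv2 1)) : ∀ y ∈ S.signs, Commute g y := by
  rintro _ ⟨e, he, rfl⟩
  obtain ⟨hf0, hf1, hf2, -⟩ := fv_facts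
  have hm : ∀ {a b : V3}, a ∈ cubeL → b ∈ cubeL → κ (a * b) 1 = κ a 1 * κ b 1 :=
    fun ha hb => (S.kappa.mul_one_perm ha hb).symm
  rcases ti_parity.2.2.2.2.1 e he with rfl | rfl | rfl | rfl | rfl | rfl | rfl | rfl
  · rw [S.kappa.one]; exact Commute.one_right _
  · exact h0
  · exact h1
  · exact h2
  · rw [hm hf1 hf2]; exact h1.mul_right h2
  · rw [hm hf0 hf2]; exact h0.mul_right h2
  · rw [hm hf0 hf1]; exact h0.mul_right h1
  · rw [hm (cubeL_mul hf0 hf1) hf2, hm hf0 hf1]; exact (h0.mul_right h1).mul_right h2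

theorem shift_signs : κ one3 cyc * κ fv0 1 * (κ one3 cyc)⁻¹ = κ fv1 1 ∧
    κ one3 cyc * κ fv1 1 * (κ one3 cyc)⁻¹ = κ fv2 1 ∧
    κ one3 cyc * κ fv2 1 * (κ one3 cyc)⁻¹ = κ fv0 1 := by
  obtain ⟨hf0, hf1, hf2, h0, h1, h2, -⟩ := fv_facts
  refine ⟨?_, ?_, ?_⟩
  · rw [S.kappa.conj_perm hf0, h0]
  · rw [S.kappa.conj_perm hf1, h1]
  · rw [S.kappa.conj_perm hf2, h2]

theorem shift_u : κ one3 cyc * D.v u0 * (κ one3 cyc)⁻¹ = D.v u1 ∧
    κ one3 cyc * D.v u1 * (κ one3 cyc)⁻¹ = D.v u2 ∧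
    κ one3 cyc * D.v u2 * (κ one3 cyc)⁻¹ = D.v u0 := by
  refine ⟨?_, ?_, ?_⟩ <;> rw [S.kappa.conj_v one3_cube.1] <;> congr 1 <;> decide +kernel

theorem shift_cube : κ one3 cyc * κ one3 cyc * κ one3 cyc = 1 := by
  rw [S.kappa.mul _ one3_cube.1 _ _ one3_cube.1, pm_one3,
    show one3 * one3 = one3 from one_mul one3, S.kappa.mul _ one3_cube.1 _ _ one3_cube.1, pm_one3,
    show one3 * one3 = one3 from one_mul one3, cyc_tr_facts.1, S.kappa.one]

/-- The relation of the triangle. -/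
theorem triangle :
    let m := κ one3 cyc
    m * m * ι pR * (m * m)⁻¹ * (m * ι pR * m⁻¹) * (m * m * ι pR * (m * m)⁻¹) = ι pR := by
  classical
  intro m
  obtain ⟨hf0, hf1, hf2, -⟩ := fv_facts
  obtain ⟨hs0, hs1, hs2⟩ : m * κ fv0 1 * m⁻¹ = κ fv1 1 ∧ m * κ fv1 1 * m⁻¹ = κ fv2 1 ∧
      m * κ fv2 1 * m⁻¹ = κ fv0 1 := S.shift_signs
  have hm3 := S.shift_cube
  obtain ⟨gr, hgr⟩ := S.fused_cross
  set r0 := ι pR with hr0
  set r1 := m * r0 * m⁻¹ with hr1
  set r2 := m * m * r0 * (m * m)⁻¹ with hr2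
  obtain ⟨-, -, -, -, hR2, -, -, hRF, hRG, -⟩ := six_swap_val
  have c00 : Commute r0 (κ fv0 1) := S.cen0 pR
  have c01 : Commute r0 (κ fv1 1) := by
    show r0 * (κ fv1 1) = (κ fv1 1) * r0
    rw [hr0, ← S.valF, ← map_mul, ← map_mul, hRF]
  have c02 : Commute r0 (κ fv2 1) := by
    show r0 * (κ fv2 1) = (κ fv2 1) * r0
    rw [hr0, ← S.valG, ← map_mul, ← map_mul, hRG]
  have hconj : ∀ {x y : G}, Commute x y → Commute (m * x * m⁻¹) (m * y * m⁻¹) := fun h =>
    h.map (MulAut.conj m).toMonoidHom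
  have h12 : r2 = m * r1 * m⁻¹ := by rw [hr2, hr1]; group
  have c10 : Commute r1 (κ fv0 1) := by have := hconj c02; rwa [hs2] at this
  have c11 : Commute r1 (κ fv1 1) := by have := hconj c00; rwa [hs0] at this
  have c12 : Commute r1 (κ fv2 1) := by have := hconj c01; rwa [hs1] at this
  have c20 : Commute r2 (κ fv0 1) := by have := hconj c12; rwa [hs2, ← h12] at this
  have c21 : Commute r2 (κ fv1 1) := by have := hconj c10; rwa [hs0, ← h12] at this
  have c22 : Commute r2 (κ fv2 1) := by have := hconj c11; rwa [hs1, ← h12] at this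
  have hsgnC : ∀ {y}, y ∈ S.signs → ∀ {a : V3}, a ∈ cubeL → Commute y (κ a 1) := by
    rintro _ ⟨e, he, rfl⟩ a ha
    show κ e 1 * κ a 1 = κ a 1 * κ e 1
    rw [S.kappa.mul_one_perm he ha, S.kappa.mul_one_perm ha he, mul_comm e]
  -- the centralizer of the sign changes modulo them
  set Z := centralizer (S.signs : Set G) with hZ
  have hAZ : S.signs ≤ Z := fun y hy => mem_centralizer_iff.2 (by
    rintro _ ⟨a, ha, rfl⟩
    exact (hsgnC hy ha).eq.symm)
  have hZmem : ∀ {y}, Commute y (κ fv0 1) → Commute y (κ fv1 1) → Commute y (κ fv2 1) → y ∈ Z := fun a b c =>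
    mem_centralizer_iff.2 fun x hx => (S.signs_commute a b c x hx).eq.symm
  set An := S.signs.subgroupOf Z with hAn
  haveI : An.Normal := ⟨fun y hy z => by
    have h1 : (y : G) * z = z * y := mem_centralizer_iff.1 z.2 _ hy
    rw [show z * y * z⁻¹ = y from Subtype.ext (by
      push_cast; rw [← h1, mul_inv_cancel_right])]
    exact hy⟩
  set π := QuotientGroup.mk' An
  have hfix : ∀ {σ : S3}, ∀ y ∈ S.signs, κ one3 σ * y * (κ one3 σ)⁻¹ ∈ S.signs := by
    rintro σ _ ⟨e, he, rfl⟩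
    exact ⟨_, cubeL_pm he σ, S.kappa.conj_perm he σ⟩
  have hr0A : r0 ∉ S.signs := fun ⟨e, he, hh⟩ => S.cross_not_sign he hh
  have hr1A : r1 ∉ S.signs := fun hh => hr0A (by
    have h1 := hfix (σ := cyc⁻¹) _ hh
    have h2 : κ one3 cyc⁻¹ = m⁻¹ := by
      refine eq_inv_of_mul_eq_one_left ?_
      rw [S.kappa.mul _ one3_cube.1 _ _ one3_cube.1, pm_one3, show one3 * one3 = one3 from one_mul one3,
        inv_mul_cancel, S.kappa.one]
    rw [h2, hr1] at h1
    simpa [mul_assoc] using h1)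
  have hr2A : r2 ∉ S.signs := fun hh => hr1A (by
    have h1 := hfix (σ := cyc) _ hh
    have h1' := hfix (σ := cyc) _ h1
    rwa [show m * (m * r2 * m⁻¹) * m⁻¹ = m * m * m * r1 * (m * m * m)⁻¹ by rw [h12]; group,
      hm3, one_mul, inv_one, mul_one] at h1')
  have hR : r0 * r0 = 1 := by rw [hr0, ← map_mul, hR2, map_one]
  have hR1 : r1 * r1 = 1 := by
    rw [hr1, show m * r0 * m⁻¹ * (m * r0 * m⁻¹) = m * (r0 * r0) * m⁻¹ by group, hR, mul_one,
      mul_inv_cancel]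
  set q0 : Z := ⟨r0, hZmem c00 c01 c02⟩
  set q1 : Z := ⟨r1, hZmem c10 c11 c12⟩
  obtain ⟨zq, hzq⟩ := conj_of_self_cent (a := π q0) (b := π q1)
    (by rw [← map_mul, show q0 * q0 = 1 from Subtype.ext hR, map_one])
    (fun h => hr0A ((QuotientGroup.eq_one_iff q0).1 h))
    (fun q hq => by
      obtain ⟨y, rfl⟩ := QuotientGroup.mk'_surjective An q
      have h1 : (y * q0)⁻¹ * (q0 * y) ∈ An := QuotientGroup.eq.1 (by
        show π (y * q0) = π (q0 * y)
        rw [map_mul, map_mul]; exact hq.eq)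
      obtain ⟨e, he, h2⟩ := h1
      have h3 : (y : G)⁻¹ * r0 * y = r0 * κ e 1 := by
        rw [← h2]
        show (y : G)⁻¹ * r0 * y = r0 * (((y : G) * r0)⁻¹ * (r0 * y))
        group
      have h4 : (y : G)⁻¹ * r0 * y = r0 := S.eq_cross (g := (y : G)⁻¹ * gr) (by rw [← hgr]; group) he h3
      have hyr : Commute (y : G) r0 := by
        show (y : G) * r0 = r0 * y
        calc (y : G) * r0 = y * ((y : G)⁻¹ * r0 * y) := by rw [h4]
          _ = r0 * y := by group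
      have hy' := fun (a : V3) (ha : a ∈ cubeL) =>
        (mem_centralizer_iff.1 y.2 (κ a 1) ⟨a, ha, rfl⟩).symm
      obtain ⟨e', he', h5 | h5⟩ := S.four_cent (hy' _ hf0) (S.valF ▸ hy' _ hf1) (S.valG ▸ hy' _ hf2) hyr
      · exact Or.inl ((QuotientGroup.eq_one_iff y).2 ⟨e', he', h5⟩)
      · refine Or.inr (QuotientGroup.eq.2 (inv_mem_iff.1 ?_))
        refine ⟨e', he', ?_⟩
        show (((y⁻¹ * q0)⁻¹ : Z) : G) = _
        push_cast
        rw [mul_inv_rev, inv_inv, h5, inv_mul_cancel_left])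
    (by rw [← map_mul, show q1 * q1 = 1 from Subtype.ext hR1, map_one])
    (fun h => hr1A ((QuotientGroup.eq_one_iff q1).1 h))
  obtain ⟨z, rfl⟩ := QuotientGroup.mk'_surjective An zq
  rw [← map_inv, ← map_mul, ← map_mul] at hzq
  have hz : (z : G) * r1 * (z : G)⁻¹ = r0 := by
    obtain ⟨e, he, h2⟩ := (QuotientGroup.eq.1 hzq.symm : q0⁻¹ * (z * q1 * z⁻¹) ∈ An)
    push_cast at h2
    refine S.eq_cross (g := (z : G) * m * gr) ?_ he (eq_mul_of_inv_mul_eq h2)
    rw [hr1, ← hgr]; group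
  -- the element moving the sign changes onto the crossed triple
  obtain ⟨γ, hγG, hγF⟩ := line_move
  set g := (z : G) * (m * ι γ * m⁻¹) with hg
  have hgc : ∀ {a b : S6}, γ * a * γ⁻¹ = b → m * ι γ * m⁻¹ * (m * ι a * m⁻¹) * (m * ι γ * m⁻¹)⁻¹ =
      m * ι b * m⁻¹ := fun {a b} h => by
    rw [← h, map_mul, map_mul, map_inv]; group
  have hzc : ∀ {a : V3}, a ∈ cubeL → (z : G) * κ a 1 * (z : G)⁻¹ = κ a 1 := fun {a} ha => by
    rw [← mem_centralizer_iff.1 z.2 (κ a 1) ⟨a, ha, rfl⟩, mul_inv_cancel_right]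
  have g0 : g * (κ fv0 1) * g⁻¹ = r0 := by
    have h1 := hgc hγG
    rw [S.valG, hs2, ← hr0, ← hr1] at h1
    rw [hg, show (z : G) * (m * ι γ * m⁻¹) * (κ fv0 1) * ((z : G) * (m * ι γ * m⁻¹))⁻¹ =
      (z : G) * (m * ι γ * m⁻¹ * (κ fv0 1) * (m * ι γ * m⁻¹)⁻¹) * (z : G)⁻¹ by group, h1, hz]
  have g1 : g * (κ fv1 1) * g⁻¹ = ι pF := by
    have h1 : m * ι γ * m⁻¹ * (κ fv1 1) * (m * ι γ * m⁻¹)⁻¹ = (κ fv1 1) := by
      rw [← hs0, show m * ι γ * m⁻¹ * (m * (κ fv0 1) * m⁻¹) * (m * ι γ * m⁻¹)⁻¹ =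
        m * (ι γ * (κ fv0 1)) * (ι γ)⁻¹ * m⁻¹ by group, (S.cen0 γ).eq]
      group
    rw [hg, show (z : G) * (m * ι γ * m⁻¹) * (κ fv1 1) * ((z : G) * (m * ι γ * m⁻¹))⁻¹ =
      (z : G) * (m * ι γ * m⁻¹ * (κ fv1 1) * (m * ι γ * m⁻¹)⁻¹) * (z : G)⁻¹ by group, h1, hzc hf1, S.valF]
  have g2 : g * (κ fv2 1) * g⁻¹ = ι pG := by
    have h1 := hgc hγF
    rw [S.valF, hs1] at h1
    rw [hg, show (z : G) * (m * ι γ * m⁻¹) * (κ fv2 1) * ((z : G) * (m * ι γ * m⁻¹))⁻¹ =
      (z : G) * (m * ι γ * m⁻¹ * (κ fv2 1) * (m * ι γ * m⁻¹)⁻¹) * (z : G)⁻¹ by group, h1, hzc hf2, S.valG]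
  have hpull : ∀ τ : S6, (τ * pF = pF * τ ∧ τ * pG = pG * τ ∧ τ * pR = pR * τ) →
      g⁻¹ * ι τ * g ∈ S.signs := by
    intro τ hτ
    have p0 : g⁻¹ * ι pR * g ∈ S.signs := ⟨fv0, hf0, by rw [← hr0, ← g0]; group⟩
    have p1 : g⁻¹ * ι pF * g ∈ S.signs := ⟨fv1, hf1, by rw [← g1]; group⟩
    have p2 : g⁻¹ * ι pG * g ∈ S.signs := ⟨fv2, hf2, by rw [← g2]; group⟩
    have hsplit : ∀ a b : S6, g⁻¹ * ι (a * b) * g = g⁻¹ * ι a * g * (g⁻¹ * ι b * g) := fun a b => by
      rw [map_mul]; group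
    rcases six_three τ hτ.1 hτ.2.1 hτ.2.2 with rfl | rfl | rfl | rfl | rfl | rfl | rfl | rfl
    · rw [map_one, mul_one, inv_mul_cancel]; exact one_mem _
    · exact p1
    · exact p2
    · exact p0
    · rw [hsplit]; exact mul_mem p1 p2
    · rw [hsplit]; exact mul_mem p1 p0
    · rw [hsplit]; exact mul_mem p2 p0
    · rw [hsplit, hsplit]; exact mul_mem (mul_mem p1 p2) p0
  -- the three elements in the crossed triple's centralizer
  have hform : ∀ x, Commute x (κ fv0 1) → Commute x (κ fv1 1) → Commute x (κ fv2 1) → x * x = 1 → x ∉ S.signs →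
      ∃ c : ZMod 3, ∃ τ : S6, (τ * pF = pF * τ ∧ τ * pG = pG * τ ∧ τ * pR = pR * τ) ∧
        g * x * g⁻¹ = (κ fv0 1) * (D.v (c • u0) * ι τ) := by
    intro x a b c hx hxA
    obtain ⟨k, τ, hτ, h | h⟩ := S.cross_cent (g := g * x * g⁻¹)
      (g1 ▸ b.map (MulAut.conj g).toMonoidHom) (g2 ▸ c.map (MulAut.conj g).toMonoidHom)
      (hr0 ▸ g0 ▸ a.map (MulAut.conj g).toMonoidHom)
    · exfalso
      have h1 : g * x * g⁻¹ * (g * x * g⁻¹) = 1 := by
        rw [show g * x * g⁻¹ * (g * x * g⁻¹) = g * (x * x) * g⁻¹ by group, hx, mul_one, mul_inv_cancel]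
      rw [h] at h1
      have hτ2 : ι τ * ι τ = 1 := by
        obtain ⟨e, he, e1 | e1⟩ := S.cent_eight hτ <;> rw [e1]
        · rw [S.kappa.mul_one_perm he he, cubeL_sq e he, S.kappa.one]
        · have hc : Commute r0 (κ e 1) := S.signs_commute c00 c01 c02 _ ⟨e, he, rfl⟩
          rw [show r0 * κ e 1 * (r0 * κ e 1) = r0 * (κ e 1 * r0) * κ e 1 by group, ← hc.eq,
            show r0 * (r0 * κ e 1) * κ e 1 = r0 * r0 * (κ e 1 * κ e 1) by group, hR,
            S.kappa.mul_one_perm he he, cubeL_sq e he, S.kappa.one, one_mul]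
      have h2 : D.v (k • u0) * D.v (k • u0) = 1 := by
        have h3 : D.v (k • u0) * ι τ * (D.v (k • u0) * ι τ) =
            D.v (k • u0) * D.v (k • u0) * (ι τ * ι τ) := by
          rw [show D.v (k • u0) * ι τ * (D.v (k • u0) * ι τ) =
            D.v (k • u0) * (ι τ * D.v (k • u0)) * ι τ by group, (D.commute_smul (S.cen τ) k).eq]
          group
        rwa [h3, hτ2, mul_one] at h1
      rw [← D.v_add, ← add_smul] at h2
      have h4 : k + k = 0 := (smul_eq_zero.1 (D.v_inj (h2.trans D.v_zero.symm))).resolve_right u_facts.2.1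
      rw [zmod3_two _ h4, zero_smul, D.v_zero, one_mul] at h
      exact hxA (by
        have h5 := hpull τ hτ
        rwa [← h, show g⁻¹ * (g * x * g⁻¹) * g = x by group] at h5)
    · exact ⟨k, τ, hτ, h⟩
  have hR2' : r2 * r2 = 1 := by
    rw [h12, show m * r1 * m⁻¹ * (m * r1 * m⁻¹) = m * (r1 * r1) * m⁻¹ by group, hR1, mul_one,
      mul_inv_cancel]
  obtain ⟨a, τa, hτa, ha⟩ := hform r0 c00 c01 c02 hR hr0A
  obtain ⟨b, τb, hτb, hb⟩ := hform r1 c10 c11 c12 hR1 hr1A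
  obtain ⟨c, τc, hτc, hc⟩ := hform r2 c20 c21 c22 hR2' hr2A
  have hflipv : ∀ (k : ZMod 3), (κ fv0 1) * D.v (k • u0) = D.v ((-k) • u0) * (κ fv0 1) := fun k => by
    have h1 := S.kappa.conj_v hf0 1 (k • u0)
    rw [mul_inv_eq_iff_eq_mul] at h1
    rw [h1]
    congr 2
    exact (show ∀ k : ZMod 3, mon fv0 1 (k • u0) = (-k) • u0 by decide +kernel) k
  have hf00 : (κ fv0 1) * (κ fv0 1) = 1 := S.kappa.refl_f0.sq
  have hpair : ∀ (i j : ZMod 3) (σ τ : S6), (κ fv0 1) * (D.v (i • u0) * ι σ) * ((κ fv0 1) * (D.v (j • u0) * ι τ)) =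
      D.v ((j - i) • u0) * ι (σ * τ) := fun i j σ τ => by
    calc (κ fv0 1) * (D.v (i • u0) * ι σ) * ((κ fv0 1) * (D.v (j • u0) * ι τ))
        = (κ fv0 1) * D.v (i • u0) * (ι σ * (κ fv0 1)) * (D.v (j • u0) * ι τ) := by group
      _ = (κ fv0 1) * D.v (i • u0) * (κ fv0 1) * (ι σ * D.v (j • u0)) * ι τ := by rw [(S.cen0 σ).eq]; group
      _ = D.v ((-i) • u0) * ((κ fv0 1) * (κ fv0 1)) * (D.v (j • u0) * ι σ) * ι τ := by
        rw [hflipv, (D.commute_smul (S.cen σ) j).eq]; group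
      _ = _ := by
        rw [hf00, mul_one, ← mul_assoc, ← D.v_add, ← add_smul, neg_add_eq_sub, map_mul]
        group
  have hsame : ∀ {x y : G} {i : ZMod 3} {σ τ : S6}, (σ * pF = pF * σ ∧ σ * pG = pG * σ ∧ σ * pR = pR * σ) →
      (τ * pF = pF * τ ∧ τ * pG = pG * τ ∧ τ * pR = pR * τ) →
      g * x * g⁻¹ = (κ fv0 1) * (D.v (i • u0) * ι σ) → g * y * g⁻¹ = (κ fv0 1) * (D.v (i • u0) * ι τ) →
      x * y ∈ S.signs := fun {x y i σ τ} hσ hτ hx hy => by
    have h1 : g * (x * y) * g⁻¹ = ι (σ * τ) := by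
      rw [show g * (x * y) * g⁻¹ = g * x * g⁻¹ * (g * y * g⁻¹) by group, hx, hy, hpair, sub_self,
        zero_smul, D.v_zero, one_mul]
    have h2 := hpull (σ * τ) ⟨(Commute.mul_left hσ.1 hτ.1).eq,
      (Commute.mul_left hσ.2.1 hτ.2.1).eq, (Commute.mul_left hσ.2.2 hτ.2.2).eq⟩
    rwa [← h1, show g⁻¹ * (g * (x * y) * g⁻¹) * g = x * y by group] at h2
  have hne01 : r0 ≠ r1 := fun hh => by
    have h1 : Commute r1 (D.v u1) := S.shift_u.1 ▸ hconj (S.cen pR)
    rw [← hh, ← S.valA] at h1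
    exact pR_pA_ne (S.inj (by rw [map_mul, map_mul]; exact h1.eq))
  have hfus1 : (m * gr) * (κ fv0 1) * (m * gr)⁻¹ = r1 := by rw [hr1, ← hgr]; group
  have hfus2 : (m * m * gr) * (κ fv0 1) * (m * m * gr)⁻¹ = r2 := by rw [hr2, ← hgr]; group
  have hprod : ∀ {y gy : G}, gy * (κ fv0 1) * gy⁻¹ = y → r0 * y ∈ S.signs → y = r0 := fun {y gy} hy hh => by
    obtain ⟨e, he, h1⟩ := hh
    refine S.eq_cross hy he ?_
    rw [← h1, ← mul_assoc, hR, one_mul]
  have hab : a ≠ b := fun e => hne01 (hprod hfus1 (hsame hτa hτb ha (e ▸ hb))).symm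
  have hac : a ≠ c := fun e => by
    have h1 := hprod hfus2 (hsame hτa hτc ha (e ▸ hc))
    refine hne01 ?_
    calc r0 = m * m * m * r0 * (m * m * m)⁻¹ := by rw [hm3]; group
      _ = m * r2 * m⁻¹ := by rw [hr2]; group
      _ = r1 := by rw [h1, hr1]
  have hbc : b ≠ c := fun e => hne01 (by
    have h1 : r1 * r2 ∈ S.signs := hsame hτb hτc hb (e ▸ hc)
    have h2 : r0 * r1 ∈ S.signs := by
      have h3 := hfix (σ := cyc⁻¹) _ h1
      have h2 : κ one3 cyc⁻¹ = m⁻¹ := by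
        refine eq_inv_of_mul_eq_one_left ?_
        rw [S.kappa.mul _ one3_cube.1 _ _ one3_cube.1, pm_one3,
          show one3 * one3 = one3 from one_mul one3, inv_mul_cancel, S.kappa.one]
      rwa [h2, show m⁻¹ * (r1 * r2) * m⁻¹⁻¹ = r0 * r1 by rw [h12, hr1]; group] at h3
    exact (hprod hfus1 h2).symm)
  -- the product
  have hR2c : g * (r2 * r1 * r2) * g⁻¹ = (κ fv0 1) * (D.v (a • u0) * ι (τc * τb * τc)) := by
    rw [show g * (r2 * r1 * r2) * g⁻¹ = g * r2 * g⁻¹ * (g * r1 * g⁻¹) * (g * r2 * g⁻¹) by group,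
      hc, hb, hpair]
    calc D.v ((b - c) • u0) * ι (τc * τb) * ((κ fv0 1) * (D.v (c • u0) * ι τc))
        = D.v ((b - c) • u0) * (ι (τc * τb) * (κ fv0 1)) * (D.v (c • u0) * ι τc) := by group
      _ = D.v ((b - c) • u0) * (κ fv0 1) * (ι (τc * τb) * D.v (c • u0)) * ι τc := by
        rw [(S.cen0 _).eq]; group
      _ = (κ fv0 1) * D.v ((-(b - c)) • u0) * D.v (c • u0) * (ι (τc * τb) * ι τc) := by
        rw [hflipv, neg_neg, (D.commute_smul (S.cen _) c).eq]; group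
      _ = _ := by
        rw [mul_assoc (κ fv0 1), ← D.v_add, ← add_smul, ← map_mul,
          show -(b - c) + c = a by rw [neg_sub, sub_add_eq_add_sub]; exact third_zmod3 a b c hab hac hbc]
        group
  have hτtri : τc * τb * τc * pF = pF * (τc * τb * τc) ∧ τc * τb * τc * pG = pG * (τc * τb * τc) ∧
      τc * τb * τc * pR = pR * (τc * τb * τc) :=
    ⟨((Commute.mul_left hτc.1 hτb.1).mul_left hτc.1).eq,
      ((Commute.mul_left hτc.2.1 hτb.2.1).mul_left hτc.2.1).eq,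
      ((Commute.mul_left hτc.2.2 hτb.2.2).mul_left hτc.2.2).eq⟩
  refine hprod (gy := r2 * (m * gr)) ?_ (hsame hτa hτtri ha hR2c)
  calc r2 * (m * gr) * (κ fv0 1) * (r2 * (m * gr))⁻¹
      = r2 * (m * gr * (κ fv0 1) * (m * gr)⁻¹) * r2⁻¹ := by group
    _ = r2 * r1 * r2 := by rw [hfus1, inv_eq_of_mul_eq_one_right hR2']

end Six

end Data

end Cfsg.Agent.Recog.SymNine
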