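import Cfsg.Agent.Lib.Recog.SymNine.Ending

/-!
Hall-Wielandt at three inside a normal subgroup containing the Sylow subgroup, and the diagonal
part of the normalizer.
-/

set_option autoImplicit false
set_option linter.style.haveILetI false
set_option linter.unusedSectionVars false
set_option maxRecDepth 100000

namespace Cfsg.Agent.Recog.SymNine

open Cfsg Subgroup

universe u

namespace Data

variable {G : Type u} [Group G] [Finite G] (D : Data G)

/-- The residual of a normal subgroup meets the Sylow subgroup in the local residual. -/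
theorem residual_meet {M : Subgroup G} [M.Normal] (hP : D.P ≤ M) {K : Subgroup G}
    (hK : ∀ g ∈ M ⊓ D.N, (orderOf g).Coprime 3 → g ∈ K) :
    (pResidual 3 M).map M.subtype ⊓ D.P ≤ K := by
  haveI : Fact (Nat.Prime 3) := ⟨Nat.prime_three⟩
  let T : Sylow 3 M := ⟨D.P.subgroupOf M, D.isPGroup_P.comap_subtype, fun {Q} hQ hle => by
    have h1 : D.P ≤ Q.map M.subtype := fun x hx => ⟨⟨x, hP hx⟩, hle hx, rfl⟩
    refine le_antisymm (fun q hq => ?_) hle
    show (q : G) ∈ D.P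
    rw [← D.eq_P_of_le (hQ.map _) h1]
    exact ⟨q, hq, rfl⟩⟩
  set Q := D.J.subgroupOf M with hQdef
  have hJM : D.J ≤ M := D.J_le_P.trans hP
  have hwc : IsWeaklyClosed Q (T : Subgroup M) := by
    refine ⟨fun y hy => D.J_le_P hy, fun g hg => ?_⟩
    have hmap : (Q.map (MulAut.conj g).toMonoidHom).map M.subtype =
        D.J.map (MulAut.conj (g : G)).toMonoidHom := by
      ext y
      exact ⟨fun ⟨_, ⟨q, hq, h1⟩, h2⟩ => ⟨q, hq, by rw [← h2, ← h1]; rfl⟩,
        fun ⟨q, hq, h1⟩ => ⟨_, ⟨⟨q, hJM hq⟩, hq, rfl⟩, h1⟩⟩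
    refine Subgroup.map_injective M.subtype_injective ?_
    rw [hmap, hQdef, subgroupOf_map_subtype, inf_eq_left.2 hJM]
    refine D.eq_J_conj g ?_
    rw [← hmap]
    rintro _ ⟨y, hy, rfl⟩
    exact hg hy
  have hstep : ∀ y ∈ (T : Subgroup M), ∀ z ∈ Q, (Transfer.HallWielandt.step z)^[3 - 1] y = 1 := by
    intro y hy z hz
    have h1 : (y : G)⁻¹ * (z : G)⁻¹ * y * z ∈ D.J := by
      refine mul_mem ?_ hz
      have h := (mem_normalizer_iff.1 (D.P_le_N (inv_mem hy : (y : G)⁻¹ ∈ D.P)) _).1 (inv_mem hz)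
      rwa [inv_inv] at h
    have h3 := D.J_comm h1 (show (z : G) ∈ D.J from hz)
    refine Subtype.ext ?_
    show ((y : G)⁻¹ * (z : G)⁻¹ * y * z)⁻¹ * (z : G)⁻¹ * ((y : G)⁻¹ * (z : G)⁻¹ * y * z) * z = 1
    rw [mul_assoc _ _ (z : G), h3]
    group
  have hres := Transfer.HallWielandt.pResidual_inf_le T Q hwc hstep
  rintro g ⟨⟨m, hm, rfl⟩, hgP⟩
  obtain ⟨n, hn, hnm⟩ := hres (⟨hm, hgP⟩ : m ∈ pResidual 3 M ⊓ (T : Subgroup M))
  rw [← hnm]
  have hle : pResidual 3 (normalizer (Q : Set M)) ≤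
      K.comap (M.subtype.comp (normalizer (Q : Set M)).subtype) := by
    refine (closure_le _).2 fun y hy => hK _ ⟨(y : M).2, mem_normalizer_fintype fun j hj =>
      (mem_normalizer_iff.1 y.2 ⟨j, hJM hj⟩).1 hj⟩ ?_
    show (orderOf (((y : M) : G))).Coprime 3
    rw [Subgroup.orderOf_coe, Subgroup.orderOf_coe]
    exact hy
  exact hle hn

/-- The elements of the normalizer acting diagonally. -/
def diag : Subgroup G where
  carrier := {g | g ∈ D.N ∧ ∃ e ∈ cubeL, ∀ a, D.act g a = mon e 1 a}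
  one_mem' := ⟨one_mem _, one3, one3_cube.1, fun a => by rw [D.act_one, mon_one3, pm_one]⟩
  mul_mem' := by
    rintro g g' ⟨hg, e, he, h⟩ ⟨hg', e', he', h'⟩
    exact ⟨mul_mem hg hg', _, cubeL_mul he (cubeL_pm he' 1), fun a => by
      rw [D.act_mul hg hg', h', h, mon_comp, mul_one]⟩
  inv_mem' := by
    rintro g ⟨hg, e, he, h⟩
    refine ⟨inv_mem hg, e, he, fun a => D.act_inj hg ?_⟩
    rw [← D.act_mul hg (inv_mem hg), mul_inv_cancel, D.act_one, h, mon_comp, pm_one, mul_one,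
      cubeL_sq e he, mon_one3, pm_one]

theorem mem_diag {g : G} : g ∈ D.diag ↔ g ∈ D.N ∧ ∃ e ∈ cubeL, ∀ a, D.act g a = mon e 1 a := Iff.rfl

theorem diag_le_N : D.diag ≤ D.N := fun _ h => h.1

theorem J_le_diag : D.J ≤ D.diag := fun _ hg =>
  ⟨D.J_le_N hg, one3, one3_cube.1, fun a => by rw [D.act_J hg, mon_one3, pm_one]⟩

/-- The diagonal part of the Sylow subgroup is the core. -/
theorem diag_inf_P : D.diag ⊓ D.P ≤ D.J := by
  rintro g ⟨⟨hgN, e, he, h⟩, a, σ, -, rfl⟩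
  obtain ⟨-, h2⟩ := mon_inj (σ := σ) (σ' := 1) one3_cube.1 (e' := e) fun b => by
    rw [← h, D.act_el, mon_one3]
  rw [h2, D.el_one']
  exact D.v_mem a

end Data

end Cfsg.Agent.Recog.SymNine
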