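import Cfsg.Agent.Lib.Recog.SymNine.Two
import Cfsg.Agent.Lib.Recog.SymNine.Residual
import Cfsg.Agent.Lib.Recog.TICubeMain
import Cfsg.Agent.Lib.Invol.ThompsonTransferDihedral

/-!
The case of the even sign changes: the normal subgroup of index six is the normalizer `3³:2²` of a
trivial-intersection group, hence equal to it.
-/

set_option autoImplicit false
set_option linter.style.haveILetI false
set_option linter.unusedSectionVars false
set_option maxRecDepth 100000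
set_option synthInstance.maxSize 4096

namespace Cfsg.Agent.Recog.SymNine

open Cfsg Subgroup

universe u

/-- The affine map of a block. -/
def gcoef (x s : ZMod 3) : TICube.D :=
  TICube.c3 ^ x.val * if s = -1 then TICube.tau else 1

theorem gcoef_mul : ∀ x x' s s' : ZMod 3, s ≠ 0 → s' ≠ 0 →
    gcoef x s * gcoef x' s' = gcoef (x + s * x') (s * s') := by decide +kernel

theorem gcoef_inj : ∀ x x' s s' : ZMod 3, s ≠ 0 → s' ≠ 0 → gcoef x s = gcoef x' s' → x = x' ∧ s = s' := by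
  decide +kernel

theorem gcoef_surj : ∀ σ : TICube.D, ∃ x s : ZMod 3, s ≠ 0 ∧ gcoef x s = σ := by decide +kernel

theorem gcoef_sign : ∀ x s : ZMod 3, s ≠ 0 →
    Equiv.Perm.sign (gcoef x s) = if s = -1 then -1 else 1 := by decide +kernel

theorem evens_sign : ∀ a b c : ZMod 3, a ≠ 0 → b ≠ 0 → c ≠ 0 →
    (![a, b, c] ∈ evens ↔ ((if a = -1 then (-1 : ℤˣ) else 1) * (if b = -1 then (-1 : ℤˣ) else 1) *
      (if c = -1 then (-1 : ℤˣ) else 1)) = 1) := by decide +kernel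

theorem even_facts :
    evP ∈ evens ∧ (![-1, 1, -1] : V3) ∈ evens ∧ one3 ∈ evens ∧ evens ≠ cubeL.toFinset ∧
      pm tr evP = evP ∧ (![-1, 1, -1] : V3) * pm tr ![-1, 1, -1] = evP ∧
      (∀ e ∈ evens, e ∈ cubeL) ∧
      (∀ e ∈ evens, e * pm tr e = one3 → e = one3 ∨ e = evP) ∧
      (∀ e ∈ evens, e ≠ one3 → ∃ σ : S3, pm σ evP = e) ∧
      (∀ i : Fin 3, Pi.single i 1 ∉ evens ∧ -(Pi.single i 1 : V3) ∉ evens) ∧
      (∀ i : Fin 3, (Pi.single i 1 : V3) ≠ 0) := by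
  decide +kernel

theorem even_lines : ∀ e ∈ evens, e ≠ one3 → ∃ s ∈ signT, toV s = e ∧
    (fixT ((s, 0) : T3 × Fin 6)).length = 3 ∧ ∃ i : Fin 3, mon e 1 (Pi.single i 1) = Pi.single i 1 := by
  decide +kernel

theorem even_units : ∀ i : Fin 3, ∃ e ∈ evens, -(Pi.single i 1 : V3) - mon e 1 (-Pi.single i 1) = Pi.single i 1 := by
  decide +kernel

theorem sign_cube_perm : ∀ σ : S3, Equiv.Perm.sign σ = 1 → σ * σ * σ = 1 := by decide +kernel

theorem pc_zero : pc 0 = 1 := rfl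

namespace Data

variable {G : Type u} [Group G] [Finite G] {D : Data G}

theorem normal_of_even (hm : D.Monomial) (h : D.orbit = evens) : D.J.Normal := by
  classical
  haveI : Fact (Nat.Prime 2) := ⟨Nat.prime_two⟩
  haveI : Fact (Nat.Prime 3) := ⟨Nat.prime_three⟩
  obtain ⟨hevP, he1, hone, hne, hevfix, he1t, hcube, hinvol, hconj, hsing, hsing0⟩ := even_facts
  have hTI := TI_of_not_full hm (h ▸ hne)
  obtain ⟨S, ℓ, hSN, hSp, htS, hl, hsurj, huniq, hmax⟩ := exists_two hm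
  have hmem : ∀ {e : V3}, e ∈ evens → e ∈ D.orbit := fun he => h ▸ he
  have hact1 : ∀ e ∈ evens, ℓ e 1 ∈ S ∧ ∀ a, D.act (ℓ e 1) a = mon e 1 a := fun e he =>
    hl e (hmem he) 1 (Or.inl rfl)
  have htact : ∀ a, D.act D.tt a = mon one3 tr a := fun a => by rw [tt, D.act_el, mon_one3]
  -- the diagonal part of the Sylow subgroup
  have hline : ∀ e ∈ evens, e ≠ one3 → ∀ g : G, g * D.tt * g⁻¹ ≠ ℓ e 1 := by
    intro e he hne g
    obtain ⟨s, -, hs, hlen, i, hi⟩ := even_lines e he hne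
    obtain ⟨hS1, hact⟩ := hact1 e he
    have h3 : Nat.card (D.fixJ (ℓ e 1)) = 3 := by
      rw [card_fix_code (hSN hS1) (p := (s, 0)) fun t => ?_, hlen]
      rw [hact, ← mon_code, hs, pc_zero]
    refine D.refl_tt.not_conj (hsing0 i) (fun ho => ?_) (hTI _ (hsing0 i))
      ((D.v_mem_fixJ (hSN hS1)).2 (by rw [hact, hi])) h3
    rcases D.orb_iff.1 ho with e1 | e1 <;> rw [h] at e1
    exacts [(hsing i).1 e1, (hsing i).2 e1]
  -- the Sylow subgroup
  obtain ⟨hd1S, hd1act⟩ := hact1 _ he1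
  have hsyl : ∀ n : G, (∃ k : ℕ, n ^ 2 ^ k = 1) → (∀ y ∈ S, n * y * n⁻¹ ∈ S) → n ∈ S := by
    intro n h2 hn
    refine two_mem_of_N hSN hSp hmax ?_ h2 hn
    obtain ⟨e, he, σ, hσ, hnt⟩ := hsurj _ (hn _ htS)
    have he' : e ∈ evens := h ▸ he
    obtain ⟨hlS, hlact⟩ := hl e he σ hσ
    have hsq : n * D.tt * n⁻¹ * (n * D.tt * n⁻¹) = 1 := by
      rw [show n * D.tt * n⁻¹ * (n * D.tt * n⁻¹) = n * (D.tt * D.tt) * n⁻¹ by group, D.refl_tt.sq]
      group
    rw [hnt] at hsq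
    rcases hσ with rfl | rfl
    · exfalso
      rcases eq_or_ne e one3 with rfl | hne1
      · have h1 : ℓ one3 1 = 1 := huniq _ hlS _ (one_mem _) fun a => by
          rw [hlact, D.act_one, mon_one3, pm_one]
        rw [h1, conj_eq_one_iff] at hnt
        exact D.tt_ne hnt
      · exact hline e he' hne1 n hnt
    have he2 : e * pm tr e = one3 := by
      refine (mon_inj (σ := tr * tr) (σ' := 1) (cubeL_mul (hcube e he') (cubeL_pm (hcube e he') tr))
        (e' := one3) fun a => ?_).1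
      rw [← mon_comp, ← hlact, ← hlact, ← D.act_mul (hSN hlS) (hSN hlS), hsq, D.act_one, mon_one3,
        pm_one]
    have hkey : ∃ s ∈ S, s * (n * D.tt * n⁻¹) * s⁻¹ = D.tt := by
      rcases hinvol e he' he2 with rfl | rfl
      · refine ⟨1, one_mem _, ?_⟩
        rw [hnt, one_mul, inv_one, mul_one]
        exact huniq _ hlS _ htS fun a => by rw [hlact, htact]
      · refine ⟨(ℓ ![-1, 1, -1] 1)⁻¹, inv_mem hd1S, ?_⟩
        rw [inv_inv, hnt]
        have h1 : ℓ evP tr = ℓ ![-1, 1, -1] 1 * D.tt * (ℓ ![-1, 1, -1] 1)⁻¹ := by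
          refine huniq _ hlS _ (mul_mem (mul_mem hd1S htS) (inv_mem hd1S)) fun a => ?_
          have hinv : ∀ a, D.act (ℓ ![-1, 1, -1] 1)⁻¹ a = mon ![-1, 1, -1] 1 a := fun a =>
            D.act_inj (hSN hd1S) (by
              rw [← D.act_mul (hSN hd1S) (inv_mem (hSN hd1S)), mul_inv_cancel, D.act_one, hd1act,
                mon_comp, pm_one, mul_one, cubeL_sq _ (hcube _ he1), mon_one3, pm_one])
          rw [D.act_mul (mul_mem (hSN hd1S) D.refl_tt.mem) (inv_mem (hSN hd1S)),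
            D.act_mul (hSN hd1S) D.refl_tt.mem, hinv, htact, hd1act, hlact, mon_comp, mon_comp,
            pm_one, one_mul, mul_one, show pm tr _ = pm tr (![-1, 1, -1] : V3) from rfl]
          congr 1
          rw [← he1t]; funext i; simp [one3]
        rw [h1]; group
    obtain ⟨s, hs, hst⟩ := hkey
    have hc : s * n ∈ centralizer ({D.tt} : Set G) := by
      rw [mem_centralizer_singleton_iff, ← mul_inv_eq_iff_eq_mul, mul_inv_rev]
      calc s * n * D.tt * (n⁻¹ * s⁻¹) = s * (n * D.tt * n⁻¹) * s⁻¹ := by group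
        _ = D.tt := hst
    have h1 := mul_mem (inv_mem (hSN hs)) (cent_tt_le hm hTI hc)
    rwa [inv_mul_cancel_left] at h1
  obtain ⟨T, hT⟩ := sylow_two_of S hSp hsyl
  -- the sign
  set M := S ⊓ D.diag with hM
  have hMt : ∀ g ∈ S, (g * D.tt ∈ M ∧ g ∉ M) ∨ (g ∈ M ∧ g * D.tt ∉ M) := by
    intro g hg
    obtain ⟨e, he, σ, hσ, rfl⟩ := hsurj g hg
    obtain ⟨-, hga⟩ := hl e he σ hσ
    have hgt : ∀ a, D.act (ℓ e σ * D.tt) a = mon e (σ * tr) a := fun a => by
      rw [D.act_mul (hSN hg) D.refl_tt.mem, htact, hga, mon_comp, pm_one3,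
        show e * one3 = e from mul_one e]
    have hec := hcube e (h ▸ he)
    have hno : ∀ x ∈ S, (∀ a, D.act x a = mon e tr a) → x ∉ M := fun x _ hx hxM => by
      obtain ⟨-, -, e', -, h'⟩ := hxM
      exact cyc_tr_facts.2.2.2.1 (mon_inj hec fun a => (hx a).symm.trans (h' a)).2
    rcases hσ with rfl | rfl
    · exact Or.inr ⟨⟨hg, hSN hg, e, hec, hga⟩, hno _ (mul_mem hg htS) fun a => by rw [hgt, one_mul]⟩
    · exact Or.inl ⟨⟨mul_mem hg htS, hSN (mul_mem hg htS), e, hec, fun a => by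
        rw [hgt, cyc_tr_facts.2.2.1]⟩, hno _ hg hga⟩
  have hrel : M.relIndex S = 2 := by
    rw [Subgroup.relIndex, Subgroup.index_eq_two_iff]
    exact ⟨⟨D.tt, htS⟩, fun b => hMt b b.2⟩
  have hidx : M.index = 2 ^ (0 + 1) * S.index := by
    rw [← Subgroup.relIndex_mul_index (inf_le_left : M ≤ S), hrel]; norm_num
  have hodd : Odd S.index := Nat.not_even_iff_odd.1 fun he =>
    T.not_dvd_index (hT ▸ even_iff_two_dvd.1 he)
  obtain ⟨ε, hε⟩ : ∃ ε, ε = Invol.TransferDihedral.cosetSign M := ⟨_, rfl⟩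
  have hεt : ε D.tt = -1 := hε ▸ Invol.TransferDihedral.cosetSign_eq_neg_one M (j := 0)
    (by rw [D.orderOf_tt]; norm_num) hidx hodd (fun g hg => by
      rw [pow_zero, pow_one] at hg
      obtain ⟨e, he, σ, hσ, hge⟩ := hsurj _ hg.1
      obtain ⟨hlS, hlact⟩ := hl e he σ hσ
      obtain ⟨-, e', -, h'⟩ := hg.2
      obtain ⟨-, rfl⟩ := mon_inj (σ := σ) (σ' := 1) (hcube e (h ▸ he)) (e' := e') fun a => by
        rw [← hlact, ← hge, h']
      rcases eq_or_ne e one3 with rfl | hne1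
      · have h1 : ℓ one3 1 = 1 := huniq _ hlS _ (one_mem _) fun a => by
          rw [hlact, D.act_one, mon_one3, pm_one]
        rw [h1, conj_eq_one_iff] at hge
        exact D.tt_ne hge
      · exact hline e (h ▸ he) hne1 g hge)
  have hP0 : D.P ≤ ε.ker := P_le_ker ε
  have hJ0 : D.J ≤ ε.ker := D.J_le_P.trans hP0
  have hεeq : ∀ g ∈ D.N, ∀ g' ∈ D.N, (∀ a, D.act g a = D.act g' a) → ε g = ε g' := fun g hg g' hg' e => by
    have h1 := MonoidHom.mem_ker.1 (hJ0 (hm.inv_mul_mem_J hg hg' e))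
    rw [map_mul, map_inv, inv_mul_eq_one] at h1
    exact h1
  have hεd : ∀ e ∈ evens, ε (ℓ e 1) = 1 := by
    intro e he
    obtain ⟨hlS, hlact⟩ := hact1 e he
    obtain ⟨hpS, hpact⟩ := hact1 evP hevP
    have hεP : ε (ℓ evP 1) = 1 := by
      have h1 : ε (ℓ evP 1) = ε (ℓ ![-1, 1, -1] 1 * D.tt * ℓ ![-1, 1, -1] 1 * D.tt) := by
        refine hεeq _ (hSN hpS) _ (hSN (mul_mem (mul_mem (mul_mem hd1S htS) hd1S) htS)) fun a => ?_
        rw [D.act_mul (hSN (mul_mem (mul_mem hd1S htS) hd1S)) D.refl_tt.mem,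
          D.act_mul (hSN (mul_mem hd1S htS)) (hSN hd1S), D.act_mul (hSN hd1S) D.refl_tt.mem,
          htact, hd1act, htact, hd1act, hpact, mon_comp, mon_comp, mon_comp]
        congr 1
        · rw [← he1t]; funext i; simp [one3, pm, mul_comm]
        · simp [cyc_tr_facts.2.2.1]
      rw [h1, map_mul, map_mul, map_mul, mul_comm (ε (ℓ ![-1, 1, -1] 1)) (ε D.tt), mul_assoc, mul_assoc,
        ← mul_assoc (ε (ℓ ![-1, 1, -1] 1)), Int.units_mul_self, one_mul, Int.units_mul_self]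
    rcases eq_or_ne e one3 with rfl | hne1
    · rw [hεeq _ (hSN hlS) 1 (one_mem _) fun a => by rw [hlact, D.act_one, mon_one3, pm_one], map_one]
    obtain ⟨σ, hσ⟩ := hconj e he hne1
    rw [hεeq _ (hSN hlS) (D.el 0 σ * ℓ evP 1 * (D.el 0 σ)⁻¹)
      (mul_mem (mul_mem (D.el_mem_N _ _) (hSN hpS)) (inv_mem (D.el_mem_N _ _))) fun a => ?_]
    · rw [map_mul, map_mul, map_inv, hεP, mul_one, mul_inv_cancel]
    rw [D.act_mul (mul_mem (D.el_mem_N _ _) (hSN hpS)) (inv_mem (D.el_mem_N _ _)),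
      D.act_mul (D.el_mem_N _ _) (hSN hpS), hpact, D.el_inv, D.act_el, D.act_el, ← mon_one3 σ⁻¹,
      ← mon_one3 σ, mon_comp, mon_comp, hlact, ← hσ]
    congr 1
    · funext i; simp [one3, pm]
    · rw [mul_one, mul_inv_cancel]
  -- the residual
  set G1 := (pResidual 3 ε.ker).map ε.ker.subtype with hG1
  haveI : (pResidual 3 ε.ker).Characteristic := Transfer.pResidual_characteristic 3 ε.ker
  haveI hG1n : G1.Normal := ConjAct.normal_of_characteristic_of_normal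
  have hG1ker : G1 ≤ ε.ker := map_subtype_le _
  have hfour : ∀ e ∈ evens, ℓ e 1 ∈ G1 := fun e he => by
    refine ⟨⟨ℓ e 1, hεd e he⟩, subset_closure ?_, rfl⟩
    show (orderOf (⟨ℓ e 1, hεd e he⟩ : ε.ker)).Coprime 3
    rw [← Subgroup.orderOf_coe]
    show (orderOf (ℓ e 1)).Coprime 3
    obtain ⟨k, hk⟩ := hSp ⟨_, (hact1 e he).1⟩
    exact (Nat.Coprime.pow_left k (by norm_num : Nat.Coprime 2 3)).coprime_dvd_left
      (orderOf_dvd_of_pow_eq_one (by simpa using congrArg Subtype.val hk))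
  have hJ1 : D.J ≤ G1 := by
    intro y hy
    obtain ⟨a, rfl⟩ := D.mem_J.1 hy
    have hi : ∀ i : Fin 3, D.v (Pi.single i 1) ∈ G1 := fun i => by
      obtain ⟨e, he, hei⟩ := even_units i
      obtain ⟨hlS, hlact⟩ := hact1 e he
      rw [← hei, sub_eq_add_neg, D.v_add, D.v_neg (mon e 1 _), ← hlact, ← D.act_spec (hSN hlS),
        show D.v (-Pi.single i 1) * (ℓ e 1 * D.v (-Pi.single i 1) * (ℓ e 1)⁻¹)⁻¹ =
          D.v (-Pi.single i 1) * ℓ e 1 * (D.v (-Pi.single i 1))⁻¹ * (ℓ e 1)⁻¹ by group]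
      exact mul_mem (hG1n.conj_mem _ (hfour e he) _) (inv_mem (hfour e he))
    have hs : ∀ (c : ZMod 3) (b : V3), D.v b ∈ G1 → D.v (c • b) ∈ G1 := fun c b hb => by
      rcases smul_cases c b with e | e | e <;> rw [e]
      exacts [D.v_zero ▸ one_mem _, hb, D.v_neg b ▸ inv_mem hb]
    rw [← decomp3 a, D.v_add, D.v_add]
    exact mul_mem (mul_mem (hs _ _ (hi 0)) (hs _ _ (hi 1))) (hs _ _ (hi 2))
  have hsignε : ∀ g ∈ D.N, ∀ e ∈ evens, ∀ σ, (∀ a, D.act g a = mon e σ a) → ε g = ε (D.el 0 σ) := by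
    intro g hg e he σ hga
    obtain ⟨hlS, hlact⟩ := hact1 e he
    rw [hεeq g hg (ℓ e 1 * D.el 0 σ) (mul_mem (hSN hlS) (D.el_mem_N _ _)) fun a => ?_, map_mul,
      hεd e he, one_mul]
    rw [D.act_mul (hSN hlS) (D.el_mem_N _ _), D.act_el, hlact, hga, ← mon_one3, mon_comp, pm_one,
      one_mul, show e * one3 = e from mul_one e]
  have heven : ∀ g ∈ ε.ker ⊓ D.N, ∃ e ∈ evens, ∃ σ, Equiv.Perm.sign σ = 1 ∧
      ∀ a, D.act g a = mon e σ a := fun g hg => by
    obtain ⟨e, -, σ, hga⟩ := hm g hg.2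
    have he : e ∈ evens := h ▸ hm.sign_mem hg.2 hga
    refine ⟨e, he, σ, ?_, hga⟩
    have h1 := hsignε g hg.2 e he σ hga
    rw [MonoidHom.mem_ker.1 hg.1] at h1
    rcases Int.units_eq_one_or (Equiv.Perm.sign σ) with hs | hs
    · exact hs
    exfalso
    have h2 : ε (D.el 0 (σ * tr)) = 1 := by
      refine MonoidHom.mem_ker.1 (hP0 ⟨0, σ * tr, ?_, rfl⟩)
      rw [map_mul, hs, show Equiv.Perm.sign tr = -1 from Equiv.Perm.sign_swap (by decide)]
      rfl
    rw [show D.el 0 (σ * tr) = D.el 0 σ * D.el 0 tr by rw [el_zero_v, el_zero_v, el_zero_v, map_mul],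
      map_mul, ← h1, one_mul] at h2
    rw [← tt, hεt] at h2
    exact absurd h2 (by decide)
  have hdiag : G1 ⊓ D.N ≤ D.diag := by
    rintro g ⟨hg1, hgN⟩
    obtain ⟨e, he, σ, hsσ, hga⟩ := heven g ⟨hG1ker hg1, hgN⟩
    obtain ⟨hlS, hlact⟩ := hact1 e he
    have hj : (ℓ e 1)⁻¹ * g ∈ G1 ⊓ D.P := by
      refine ⟨G1.mul_mem (G1.inv_mem (hfour e he)) hg1, ?_⟩
      have h1 := hm.inv_mul_mem_J (mul_mem (hSN hlS) (D.el_mem_N 0 σ)) hgN fun a => by
        rw [D.act_mul (hSN hlS) (D.el_mem_N _ _), D.act_el, hlact, hga, ← mon_one3, mon_comp, pm_one,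
          one_mul, show e * one3 = e from mul_one e]
      have h2 := mul_mem (show D.el 0 σ ∈ D.P from ⟨0, σ, hsσ, rfl⟩) (D.J_le_P h1)
      rwa [show D.el 0 σ * ((ℓ e 1 * D.el 0 σ)⁻¹ * g) = (ℓ e 1)⁻¹ * g by group] at h2
    have hres := D.residual_meet (K := D.diag) hP0 (fun q hq hco => ?_) hj
    · have := mul_mem (show ℓ e 1 ∈ D.diag from ⟨hSN hlS, e, hcube e he, hlact⟩) hres
      rwa [mul_inv_cancel_left] at this
    obtain ⟨e', he', σ', hs', hqa⟩ := heven q hq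
    obtain ⟨e'', he''⟩ := D.act_pow hq.2 hqa (orderOf q)
    rw [pow_orderOf_eq_one] at he''
    have h1 : σ' ^ orderOf q = 1 := ((mon_inj one3_cube.1 fun a => by
      rw [mon_one3, pm_one, ← he'', D.act_one]).2).symm
    have h3 : σ' ^ 3 = 1 := by rw [pow_three']; exact sign_cube_perm σ' hs'
    have h2 : σ' = 1 := orderOf_eq_one_iff.1 (Nat.eq_one_of_dvd_coprimes hco
      (orderOf_dvd_of_pow_eq_one h1) (orderOf_dvd_of_pow_eq_one h3))
    exact ⟨hq.2, e', hcube e' he', fun a => by rw [hqa, h2]⟩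
  -- the trivial-intersection group
  set H := D.N.subgroupOf G1 with hH
  have hcode : ∀ g : H, ∃ p : {p : V3 × V3 // p.2 ∈ evens}, ((g : G1) : G) = D.v p.1.1 * ℓ p.1.2 1 := by
    rintro ⟨⟨g, hg1⟩, hgN⟩
    obtain ⟨hgN', e', -, hga'⟩ := hdiag (show g ∈ G1 ⊓ D.N from ⟨hg1, hgN⟩)
    have he : e' ∈ evens := h ▸ hm.sign_mem hgN' hga'
    obtain ⟨hlS, hlact⟩ := hact1 e' he
    have h1 : g * (ℓ e' 1)⁻¹ ∈ D.J := (D.act_J_iff (mul_mem hgN (inv_mem (hSN hlS)))).2 fun a => by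
      rw [D.act_mul hgN (inv_mem (hSN hlS))]
      show D.act g _ = a
      rw [hga', ← hlact, ← D.act_mul (hSN hlS) (inv_mem (hSN hlS)),
        mul_inv_cancel, D.act_one]
    obtain ⟨a, ha⟩ := D.mem_J.1 h1
    exact ⟨⟨(a, e'), he⟩, by show g = D.v a * ℓ e' 1; rw [ha, inv_mul_cancel_right]⟩
  choose c hc using hcode
  have hpair : ∀ a a' : V3, ∀ e ∈ evens, ∀ e' ∈ evens, D.v a * ℓ e 1 = D.v a' * ℓ e' 1 → a = a' ∧ e = e' := by
    intro a a' e he e' he' heq
    obtain ⟨hlS, hlact⟩ := hact1 e he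
    obtain ⟨hlS', hlact'⟩ := hact1 e' he'
    have h1 : e = e' := (mon_inj (σ := 1) (σ' := 1) (hcube e he) fun b => by
      rw [← hlact, ← hlact']
      have := congrArg (fun x => D.act x b) heq
      simpa [D.act_mul (D.J_le_N (D.v_mem _)) (hSN hlS), D.act_mul (D.J_le_N (D.v_mem _)) (hSN hlS'),
        D.act_J (D.v_mem _)] using this).1
    subst h1
    exact ⟨D.v_inj (mul_right_cancel heq), rfl⟩
  have hmulc : ∀ g g' : H, (c (g * g')).1.1 = (c g).1.1 + (c g).1.2 * (c g').1.1 ∧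
      (c (g * g')).1.2 = (c g).1.2 * (c g').1.2 := fun g g' => by
    obtain ⟨hlS, hlact⟩ := hact1 _ (c g).2
    obtain ⟨hlS', hlact'⟩ := hact1 _ (c g').2
    have hee : (c g).1.2 * (c g').1.2 ∈ evens := by
      have := hm.orbit_mul (hmem (c g).2) (hmem (c g').2)
      rwa [h] at this
    obtain ⟨hlS'', hlact''⟩ := hact1 _ hee
    have hll : ℓ (c g).1.2 1 * ℓ (c g').1.2 1 = ℓ ((c g).1.2 * (c g').1.2) 1 :=
      huniq _ (mul_mem hlS hlS') _ hlS'' fun a => by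
        rw [D.act_mul (hSN hlS) (hSN hlS'), hlact', hlact, hlact'', mon_comp, pm_one, mul_one]
    refine hpair _ _ _ (c _).2 _ hee ?_
    rw [← hc, Subgroup.coe_mul, Subgroup.coe_mul, hc, hc, ← hll, D.v_add,
      show (c g).1.2 * (c g').1.1 = mon (c g).1.2 1 (c g').1.1 from rfl, ← hlact,
      ← D.act_spec (hSN hlS)]
    group
  have hne0 : ∀ g : H, ∀ i, (c g).1.2 i ≠ 0 := fun g i => (mem_cubeL _).1 (hcube _ (c g).2) i
  have hsignprod : ∀ g : H, (fun i => gcoef ((c g).1.1 i) ((c g).1.2 i)) ∈ TICube.M := fun g => by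
    show ∏ i : Fin 3, Equiv.Perm.sign (gcoef ((c g).1.1 i) ((c g).1.2 i)) = 1
    rw [Fin.prod_univ_three, gcoef_sign _ _ (hne0 g 0), gcoef_sign _ _ (hne0 g 1),
      gcoef_sign _ _ (hne0 g 2)]
    refine (evens_sign _ _ _ (hne0 g 0) (hne0 g 1) (hne0 g 2)).1 ?_
    convert (c g).2 using 2
    funext i; fin_cases i <;> rfl
  let F : H →* TICube.M := MonoidHom.mk' (fun g => ⟨_, hsignprod g⟩) fun g g' => Subtype.ext (funext fun i => by
    show gcoef ((c (g * g')).1.1 i) ((c (g * g')).1.2 i) =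
      gcoef ((c g).1.1 i) ((c g).1.2 i) * gcoef ((c g').1.1 i) ((c g').1.2 i)
    rw [gcoef_mul _ _ _ _ (hne0 g i) (hne0 g' i), (hmulc g g').1, (hmulc g g').2]
    rfl)
  have hFi : Function.Injective F := fun g g' e => by
    have h1 : ∀ i, _ := fun i => gcoef_inj _ _ _ _ (hne0 g i) (hne0 g' i)
      (congrFun (congrArg Subtype.val e) i)
    refine Subtype.ext (Subtype.ext ?_)
    rw [hc g, hc g', show (c g).1.1 = (c g').1.1 from funext fun i => (h1 i).1,
      show (c g).1.2 = (c g').1.2 from funext fun i => (h1 i).2]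
  have hFs : Function.Surjective F := by
    rintro ⟨f, hf⟩
    choose a s hs hfs using fun i => gcoef_surj (f i)
    have he : (s : V3) ∈ evens := by
      have h1 : ∏ i : Fin 3, Equiv.Perm.sign (f i) = 1 := hf
      rw [Fin.prod_univ_three, ← hfs 0, ← hfs 1, ← hfs 2, gcoef_sign _ _ (hs 0), gcoef_sign _ _ (hs 1),
        gcoef_sign _ _ (hs 2)] at h1
      convert (evens_sign _ _ _ (hs 0) (hs 1) (hs 2)).2 h1 using 2
      funext i; fin_cases i <;> rfl
    obtain ⟨hlS, -⟩ := hact1 s he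
    let g : H := ⟨⟨D.v a * ℓ s 1, mul_mem (hJ1 (D.v_mem a)) (hfour s he)⟩,
      mul_mem (D.J_le_N (D.v_mem a)) (hSN hlS)⟩
    obtain ⟨h1, h2⟩ := hpair _ _ _ (c g).2 _ he ((hc g).symm)
    refine ⟨g, Subtype.ext (funext fun i => ?_)⟩
    show gcoef ((c g).1.1 i) ((c g).1.2 i) = f i
    rw [h1, h2, hfs]
  have hTle : D.J.subgroupOf G1 ≤ H := fun y hy => D.J_le_N (show (y : G) ∈ D.J from hy)
  letI : Fintype G1 := Fintype.ofFinite _
  have hset : TICube.Setup H (D.J.subgroupOf G1) := {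
    iso := ⟨MulEquiv.ofBijective F ⟨hFi, hFs⟩⟩
    le := hTle
    card := by rw [Nat.card_congr (subgroupOfEquivOfLe hJ1).toEquiv, D.card_J]
    norm := by
      ext g
      show g ∈ normalizer _ ↔ (g : G) ∈ D.N
      refine ⟨fun hg => mem_normalizer_fintype fun y hy => (mem_normalizer_iff.1 hg ⟨y, hJ1 hy⟩).1 hy,
        fun hg => mem_normalizer_fintype fun y hy => (mem_normalizer_iff.1 hg _).1 hy⟩
    cent := fun y hy hy1 g hg => by
      obtain ⟨a, ha⟩ := D.mem_J.1 (show (y : G) ∈ D.J from hy)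
      refine hTI a (fun e => hy1 (Subtype.ext ?_)) (mem_centralizer_singleton_iff.2 ?_)
      · rw [← ha, e, D.v_zero]; rfl
      · rw [ha]
        exact congrArg Subtype.val (mem_centralizer_singleton_iff.1 hg) }
  have htop := hset.eq_top
  have hle : G1 ≤ D.N := fun g hg => (htop ▸ mem_top (⟨g, hg⟩ : G1) : (⟨g, hg⟩ : G1) ∈ H)
  refine ⟨fun y hy g => ?_⟩
  obtain ⟨a, rfl⟩ := D.mem_J.1 hy
  have h1 : g * D.v a * g⁻¹ ∈ G1 := hG1n.conj_mem _ (hJ1 (D.v_mem a)) g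
  obtain ⟨hN, e, he, hga⟩ := hdiag ⟨h1, hle h1⟩
  refine (D.act_J_iff hN).2 fun b => ?_
  have h3 : g * D.v a * g⁻¹ * (g * D.v a * g⁻¹) * (g * D.v a * g⁻¹) = 1 := by
    rw [show g * D.v a * g⁻¹ * (g * D.v a * g⁻¹) * (g * D.v a * g⁻¹) =
      g * (D.v a * D.v a * D.v a) * g⁻¹ by group, D.cube]; group
  have h4 := congrArg (fun x => D.act x b) h3
  simp only [D.act_mul (mul_mem hN hN) hN, D.act_mul hN hN, D.act_one, hga, mon_comp, mul_one, pm_one,
    cubeL_sq e he, mon_one3] at h4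
  rw [hga]
  exact h4

end Data

end Cfsg.Agent.Recog.SymNine
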