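import Cfsg.Agent.Lib.Recog.SymNine.Fused
import Cfsg.Agent.Lib.Recog.AltNine.Top
import Cfsg.Agent.Lib.Recog.AltNine.Constrained

/-!
All sign changes, and a centralizer of a core element outside the normalizer: the group is symmetric
of degree nine.
-/

set_option autoImplicit false
set_option linter.style.haveILetI false
set_option linter.unusedSectionVars false
set_option maxRecDepth 100000
set_option synthInstance.maxSize 4096

namespace Cfsg.Agent.Recog.SymNine

open Cfsg Subgroup Equiv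

universe u

theorem code_fixed_free : ∀ w : MonoCube.W, w * w * w = 1 → MonoCube.W.inJ w = false →
    ∀ t : Fin 3 × Fin 3, MonoCube.W.act w t ≠ t := by decide +kernel

theorem md_sign : (∀ a : V3, Perm.sign (SymNine.el a 1) = 1) ∧
    (∀ e ∈ cubeL, ∀ σ : S3, Perm.sign (sgn e) * Perm.sign (SymNine.el 0 σ) = 1 →
      (Perm.sign σ = 1 ↔ e ∈ evens)) ∧
    md one3 one3 1 = piNine ∧ piNine.support.card = 9 ∧ piNine ≠ 1 := by decide +kernel

theorem inJ_code : ∀ w : MonoCube.W, MonoCube.W.inJ w = true → w = ⟨0, 0, w.x, w.y, w.z⟩ := by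
  decide +kernel

namespace Data

variable {G : Type u} [Group G] [Finite G] {D : Data G}

/-- The odd part of the centralizer of an element fused into the core is trivial. -/
theorem core_bot (H : Subgroup G) [H.Normal] (hJ : D.J ≤ H) (g : H) {c : G} {b : V3}
    (hc : c * g * c⁻¹ = D.v b) :
    Cfsg.pPrimeCore 3 (centralizer ({g} : Set H)) = ⊥ := by
  set C := centralizer ({g} : Set H)
  set K := Cfsg.pPrimeCore 3 C
  set f : C →* G := (MulAut.conj c).toMonoidHom.comp (H.subtype.comp C.subtype) with hf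
  have hfi : Function.Injective f := fun a a' h =>
    Subtype.ext (Subtype.ext ((MulAut.conj c).injective h))
  have hmem : ∀ a : Multiplicative V3, ∃ y : C, f y = D.j a := fun a => by
    have hy : c⁻¹ * D.j a * c ∈ H := by
      have h1 := Subgroup.Normal.conj_mem ‹H.Normal› (D.j a) (hJ ⟨a, rfl⟩) c⁻¹
      rwa [inv_inv] at h1
    refine ⟨⟨⟨_, hy⟩, mem_centralizer_singleton_iff.2 (Subtype.ext ?_)⟩, ?_⟩
    · show c⁻¹ * D.j a * c * (g : G) = g * (c⁻¹ * D.j a * c)
      have h2 := D.J_comm (show D.j a ∈ D.J from ⟨a, rfl⟩) (D.v_mem b)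
      rw [← hc] at h2
      calc c⁻¹ * D.j a * c * (g : G) = c⁻¹ * (D.j a * (c * g * c⁻¹)) * c := by group
        _ = c⁻¹ * (c * g * c⁻¹ * D.j a) * c := by rw [h2]
        _ = _ := by group
    · show c * (c⁻¹ * D.j a * c) * c⁻¹ = D.j a
      group
  haveI : K.Normal := Grp.pPrimeCore_isNormal
  rw [← map_eq_bot_iff_of_injective K hfi]
  refine D.sig _ ?_ fun a => ?_
  · rw [card_map_of_injective hfi]
    exact Grp.pPrimeCore_coprime
  · obtain ⟨y, hy⟩ := hmem a
    ext z
    constructor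
    · rintro ⟨_, ⟨k, hk, rfl⟩, rfl⟩
      refine ⟨y * k * y⁻¹, Subgroup.Normal.conj_mem inferInstance k hk y, ?_⟩
      rw [map_mul, map_mul, map_inv, hy]; rfl
    · rintro ⟨k, hk, rfl⟩
      refine ⟨f (y⁻¹ * k * y), ⟨_, ?_, rfl⟩, ?_⟩
      · have h1 := Subgroup.Normal.conj_mem ‹K.Normal› k hk y⁻¹
        rwa [inv_inv] at h1
      · show D.j a * f (y⁻¹ * k * y) * (D.j a)⁻¹ = f k
        rw [← hy, ← map_inv, ← map_mul, ← map_mul]
        congr 1
        group

namespace Glue

variable {κ : V3 → S3 → G} {ι : S6 →* G} {Φ : Perm (Fin 9) →* G} (H : Glue D κ ι Φ)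

include H

theorem code_eq (w : MonoCube.W) : H.six.kappa.code w = Φ (MonoCube.W.toPerm w) := by
  rw [toPerm_eq_md, H.model _ _ (blk_cube w)]
  rfl

theorem code_fused {w : MonoCube.W} (hw : w * w * w = 1) (hw1 : w ≠ 1) :
    ∃ c : G, ∃ b : V3, c * H.six.kappa.code w * c⁻¹ = D.v b := by
  cases hJ : MonoCube.W.inJ w
  · haveI : Fact (Nat.Prime 3) := ⟨Nat.prime_three⟩
    obtain ⟨-, -, hpi, hpis, hpi1⟩ := md_sign
    set p := MonoCube.W.toPerm w
    have hp3 : p * p * p = 1 := by rw [← map_mul, ← map_mul, hw, map_one]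
    have hmoves : ∀ t, p t ≠ t := fun t => by
      obtain ⟨t, rfl⟩ := (finProdFinEquiv : Fin 3 × Fin 3 ≃ Fin 9).surjective t
      rw [AltNine.toPerm_apply]
      exact fun e => code_fixed_free w hw hJ t (finProdFinEquiv.injective e)
    have hsup : p.support.card = 9 := by
      rw [show p.support = Finset.univ from Finset.eq_univ_of_forall fun t =>
        Perm.mem_support.2 (hmoves t), Finset.card_univ, Fintype.card_fin]
    obtain ⟨c, hc⟩ := isConj_iff.1 (prime_conj Nat.prime_three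
      (orderOf_eq_prime (by rw [pow_three', hp3]) fun e => hmoves 0 (by rw [e]; rfl))
      (orderOf_eq_prime piNine_facts.1 hpi1) (hsup.trans hpis.symm))
    refine ⟨Φ c, one3, ?_⟩
    rw [H.code_eq, ← map_inv, ← map_mul, ← map_mul, hc, ← hpi, H.model _ _ one3_cube.1,
      H.six.kappa.one, mul_one]
  · refine ⟨1, ![w.x, w.y, w.z], ?_⟩
    rw [one_mul, inv_one, mul_one]
    conv_lhs => rw [inJ_code w hJ]
    exact H.six.kappa.code_J (a := ![w.x, w.y, w.z])

/-- The group is symmetric of degree nine, or the core is normal. -/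
theorem finish : D.J.Normal ∨ Nonempty (G ≃* Perm (Fin 9)) := by
  classical
  obtain ⟨ε, hε⟩ := H.exists_sign
  obtain ⟨hs1, hs2, -⟩ := md_sign
  set K := H.six.kappa
  have hP0 : D.P ≤ ε.ker := P_le_ker ε
  have hJ0 : D.J ≤ ε.ker := D.J_le_P.trans hP0
  have hker : ∀ g, g ∈ K.code.range ↔ g ∈ ε.ker ∧ g ∈ D.N := fun g => by
    constructor
    · rintro ⟨w, rfl⟩
      exact ⟨by rw [MonoidHom.mem_ker, H.code_eq, hε, AltNine.sign_toPerm], K.code_mem w⟩
    · rintro ⟨hk, hgN⟩
      obtain ⟨a, e, he, σ, rfl⟩ := K.surj g hgN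
      refine K.mem_code.2 ⟨a, e, he, σ, hs2 e he σ ?_, rfl⟩
      rw [MonoidHom.mem_ker, ← H.model a e he σ, hε, md, map_mul, map_mul, hs1, one_mul] at hk
      exact hk
  have hθmem : ∀ w, K.code w ∈ ε.ker := fun w => ((hker _).1 ⟨w, rfl⟩).1
  set θ : MonoCube.W →* ε.ker := K.code.codRestrict ε.ker hθmem with hθ
  have hθJ : MonoCube.W.jGrp.map θ = D.J.subgroupOf ε.ker := by
    ext g
    rw [mem_subgroupOf, D.mem_J]
    constructor
    · rintro ⟨w, hw, rfl⟩
      refine ⟨![w.x, w.y, w.z], ?_⟩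
      show _ = K.code w
      conv_rhs => rw [inJ_code w hw]
      exact (K.code_J (a := ![w.x, w.y, w.z])).symm
    · rintro ⟨a, ha⟩
      exact ⟨⟨0, 0, a 0, a 1, a 2⟩, rfl, Subtype.ext ((K.code_J (a := a)).trans ha)⟩
  have hnormJ : ∀ g : ε.ker, g ∈ normalizer ((D.J.subgroupOf ε.ker : Subgroup ε.ker) : Set ε.ker) →
      (g : G) ∈ D.N := fun g hg => mem_normalizer_fintype fun y hy =>
    (mem_normalizer_iff.1 hg ⟨y, hJ0 hy⟩).1 hy
  let C : AltNine.Ctx ε.ker :=
    { θ := θ
      inj := fun w v e => K.code_injective (congrArg Subtype.val e)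
      norm := by
        rw [hθJ]
        refine le_antisymm (fun g hg => ?_) ?_
        · obtain ⟨w, hw⟩ := (hker g).2 ⟨g.2, hnormJ g hg⟩
          exact ⟨w, Subtype.ext hw⟩
        · rintro _ ⟨w, rfl⟩
          refine mem_normalizer_fintype fun y hy => ?_
          exact (mem_normalizer_iff.1 (K.code_mem w) _).1 hy
      core := fun g hg h3 => by
        obtain ⟨w, rfl⟩ := hg
        have hinj : Function.Injective θ := fun w v e => K.code_injective (congrArg Subtype.val e)
        rw [orderOf_injective θ hinj] at h3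
        obtain ⟨c, b, hcb⟩ := H.code_fused (w := w) (by rw [← pow_three', ← h3, pow_orderOf_eq_one])
          (fun e => by rw [e, orderOf_one] at h3; omega)
        exact core_bot ε.ker hJ0 (θ w) hcb }
  rcases C.cent_A_cases with hA | h
  · left
    have htop := C.eq_top_of_cent_le hA
    refine D.normal_of_normal_sub hP0 ⟨fun y hy g => ?_⟩
    obtain ⟨w, hw⟩ : g ∈ C.θ.range := (htop ▸ mem_top g : g ∈ C.H)
    subst hw
    exact (mem_normalizer_iff.1 (K.code_mem w) _).1 hy
  · right
    obtain ⟨e⟩ := C.iso_of_quot h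
    have hεsurj : ε.range = ⊤ := eq_top_iff.2 fun x _ => by
      rcases Int.units_eq_one_or x with rfl | rfl
      · exact one_mem _
      · exact ⟨Φ (swap 1 2), by rw [hε, Perm.sign_swap (by decide)]⟩
    have hcard : Nat.card G = Nat.card (Perm (Fin 9)) := by
      rw [← ε.ker.index_mul_card, index_ker, hεsurj, card_top, Nat.card_congr e.toEquiv,
        show Nat.card ℤˣ = 2 by rw [Nat.card_eq_fintype_card]; rfl]
      exact two_mul_nat_card_alternatingGroup
    exact ⟨(MulEquiv.ofBijective Φ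
      ((Nat.bijective_iff_injective_and_card Φ).2 ⟨H.inj, hcard.symm⟩)).symm⟩

end Glue

/-- All sign changes without all centralizers in the normalizer. -/
theorem full_case (hm : D.Monomial) (h : D.orbit = cubeL.toFinset) (hTI : ¬ D.TI) :
    D.J.Normal ∨ Nonempty (G ≃* Perm (Fin 9)) := by
  obtain ⟨κ, K⟩ := exists_kappa hm h
  obtain ⟨ι, S⟩ := exists_six K hm h hTI
  obtain ⟨Φ, hΦ, hmd, hA⟩ := S.exists_glue
  exact Glue.finish ⟨S, hΦ, hmd, hA⟩

end Data

end Cfsg.Agent.Recog.SymNine
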