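import Cfsg.Agent.Lib.Recog.SymNine.FullInvol
import Cfsg.Agent.Lib.Recog.SymNine.CaseEven
import Cfsg.Agent.Lib.Recog.MonoCubeMain

/-!
All sign changes, and all centralizers of core elements in the normalizer: a sign character of the
group reduces to the even case or to the code group of order 648.
-/

set_option autoImplicit false
set_option linter.style.haveILetI false
set_option linter.unusedSectionVars false
set_option maxRecDepth 100000
set_option synthInstance.maxSize 4096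

namespace Cfsg.Agent.Recog.SymNine

open Cfsg Subgroup

universe u

theorem ti_data :
    (∀ e ∈ cubeL, ∀ σ : S3, (σ = 1 ∨ σ = tr) →
      σ * σ = 1 ∧ (e * pm σ e = one3 ∨ e * pm σ e = evP)) ∧
    fv1 * pm tr fv1 = evP ∧ evP ∈ cubeL ∧ evP ≠ one3 ∧
    (∀ e ∈ cubeL, ∀ σ : S3, (σ = 1 ∨ σ = tr) → σ * tr = tr * σ →
      e * pm σ one3 = one3 * pm tr e → e * pm σ fv1 = fv1 * pm 1 e → σ * 1 = 1 * σ →
      σ = 1 ∧ (e = one3 ∨ e = evP ∨ e = fv0 ∨ e = -one3)) ∧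
    (∀ e : V3, (e = one3 ∨ e = evP ∨ e = fv0 ∨ e = -one3) → ∀ e' ∈ cubeL, ∀ σ : S3,
      (σ = 1 ∨ σ = tr) → e * pm 1 e' = e' * pm σ e) := by
  decide +kernel

theorem ti_invol : ∀ e ∈ cubeL, ∀ σ : S3, (σ = 1 ∨ σ = tr) → e * pm σ e = one3 →
    (σ = 1 ∧ (e = one3 ∨ e = evP ∨ e = fv0 ∨ e = -one3)) ∨ (σ = 1 ∧ (e = fv1 ∨ e = fv2)) ∨
      (σ = tr ∧ (e = one3 ∨ e = evP)) ∨ ∃ p ∈ roList, e = toV p.1.1 ∧ σ = pc p.1.2 := by
  decide +kernel

theorem ti_even : ∀ e ∈ cubeL, ∀ σ : S3, (σ = 1 ∨ σ = tr) → e * pm σ e = one3 →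
    (Equiv.Perm.sign σ = 1 ↔ e ∈ evens) → (e = one3 ∧ σ = 1) ∨
      ∃ p ∈ roList, e = toV p.1.1 ∧ σ = pc p.1.2 := by
  decide +kernel

theorem ti_parity :
    (∀ e ∈ cubeL, ∀ σ : S3, (σ = 1 ∨ σ = tr) →
      ((Equiv.Perm.sign σ = 1 ↔ e * pm σ fv0 ∈ evens) ↔ ¬ (Equiv.Perm.sign σ = 1 ↔ e ∈ evens))) ∧
    fv1 * evP * pm tr fv1 = one3 ∧ fv0 ∉ evens ∧ fv1 * evP ∈ cubeL ∧
    (∀ e ∈ cubeL, e = one3 ∨ e = fv0 ∨ e = fv1 ∨ e = fv2 ∨ e = fv1 * fv2 ∨ e = fv0 * fv2 ∨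
      e = fv0 * fv1 ∨ e = fv0 * fv1 * fv2) ∧
    (one3 ∈ evens ∧ fv1 ∉ evens ∧ fv2 ∉ evens ∧ fv1 * fv2 ∈ evens ∧ fv0 * fv2 ∈ evens ∧
      fv0 * fv1 ∈ evens ∧ fv0 * fv1 * fv2 ∉ evens) := by
  decide +kernel

theorem wt_one : ∀ x y z : Fin 3, MonoCube.W.wt ⟨0, 0, x, y, z⟩ = 1 →
    blkA ⟨0, 0, x, y, z⟩ ∉ cubeL ∧ -blkA ⟨0, 0, x, y, z⟩ ∉ cubeL := by
  decide +kernel

namespace Data

variable {G : Type u} [Group G] [Finite G] {D : Data G} {κ : V3 → S3 → G}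

theorem Kappa.sylow_TI (K : Kappa D κ) (hm : D.Monomial) (h : D.orbit = cubeL.toFinset) (hTI : D.TI) :
    ∃ T : Sylow 2 G, (T : Subgroup G) = K.twoS := by
  haveI : Fact (Nat.Prime 2) := ⟨Nat.prime_two⟩
  obtain ⟨hsqr, hev, hevc, hev1, hcent, hsym⟩ := ti_data
  obtain ⟨h0, h1, h2, hc0, hc1, -⟩ := fv_facts
  refine sylow_two_of _ K.isPGroup_twoS fun n hn2 hn => ?_
  refine two_mem_of_N K.twoS_le K.isPGroup_twoS (K.twoS_max h) ?_ hn2 hn
  have hinv : ∀ y ∈ K.twoS, ∃ x ∈ K.twoS, n * x * n⁻¹ = y := fun y hy => ⟨n⁻¹ * y * n,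
    (mem_normalizer_iff.1 (mem_normalizer_fintype hn) _).2 (by simpa [mul_assoc] using hy), by group⟩
  -- the square
  have hd : n * κ evP 1 * n⁻¹ = κ evP 1 := by
    obtain ⟨e, he, σ, hσ, hs⟩ := hn _ (K.twoS_mem h1 (Or.inr rfl) : κ fv1 tr ∈ K.twoS)
    have hq : κ fv1 tr * κ fv1 tr = κ evP 1 := by
      rw [K.mul _ h1 _ _ h1, hev, show tr * tr = 1 from cyc_tr_facts.2.2.1]
    have hq' : n * κ evP 1 * n⁻¹ = κ (e * pm σ e) 1 := by
      rw [← hq, show n * (κ fv1 tr * κ fv1 tr) * n⁻¹ = n * κ fv1 tr * n⁻¹ * (n * κ fv1 tr * n⁻¹) by group,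
        hs, K.mul _ he _ _ he, (hsqr e he σ hσ).1]
    rcases (hsqr e he σ hσ).2 with e1 | e1 <;> rw [e1] at hq'
    · rw [K.one, conj_eq_one_iff, ← K.one] at hq'
      exact absurd (K.inj hevc one3_cube.1 hq').1 hev1
    · exact hq'
  -- the centre
  have hf : n * κ fv0 1 * n⁻¹ = κ fv0 1 := by
    obtain ⟨e, he, σ, hσ, hs⟩ := hn _ (K.twoS_mem h0 (Or.inl rfl) : κ fv0 1 ∈ K.twoS)
    have hcom : ∀ y ∈ K.twoS, Commute (κ e σ) y := fun y hy => by
      obtain ⟨x, ⟨e', he', σ', hσ', rfl⟩, rfl⟩ := hinv y hy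
      rw [← hs]
      exact (K.commute h0 he' (hsym fv0 (Or.inr (Or.inr (Or.inl rfl))) e' he' σ' hσ')
        (by rw [one_mul, mul_one])).map (MulAut.conj n).toMonoidHom
    have c1 := (hcom _ (K.twoS_mem one3_cube.1 (Or.inr rfl))).eq
    rw [K.mul _ he _ _ one3_cube.1, K.mul _ one3_cube.1 _ _ he] at c1
    obtain ⟨c1, c2⟩ := K.inj (cubeL_mul he (cubeL_pm one3_cube.1 σ))
      (cubeL_mul one3_cube.1 (cubeL_pm he tr)) c1
    have c3 := (hcom _ (K.twoS_mem h1 (Or.inl rfl))).eq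
    rw [K.mul _ he _ _ h1, K.mul _ h1 _ _ he] at c3
    obtain ⟨c3, c4⟩ := K.inj (cubeL_mul he (cubeL_pm h1 σ)) (cubeL_mul h1 (cubeL_pm he 1)) c3
    obtain ⟨rfl, hcase⟩ := hcent e he σ hσ c2 c1 c3 c4
    have hinjn : ∀ {x y : G}, n * x * n⁻¹ = n * y * n⁻¹ → x = y := fun e => by simpa using e
    rcases hcase with rfl | rfl | rfl | rfl
    · rw [K.one, conj_eq_one_iff, ← K.one] at hs
      exact absurd (K.inj h0 one3_cube.1 hs).1 (by decide +kernel)
    · exact absurd (K.inj h0 hevc (hinjn (hs.trans hd.symm))).1 (by decide +kernel)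
    · exact hs
    · refine absurd ?_ (K.not_conj_neg hm h n⁻¹)
      rw [← hs]; group
  -- the transposition
  obtain ⟨e, he, σ, hσ, hs⟩ := hn _ (K.twoS_mem one3_cube.1 (Or.inr rfl) : κ one3 tr ∈ K.twoS)
  rw [K.tt_eq] at hs
  have hi : e * pm σ e = one3 := by
    have h2 : n * D.tt * n⁻¹ * (n * D.tt * n⁻¹) = 1 := by
      rw [show n * D.tt * n⁻¹ * (n * D.tt * n⁻¹) = n * (D.tt * D.tt) * n⁻¹ by group, D.refl_tt.sq]
      group
    rw [hs, K.mul _ he _ _ he, (hsqr e he σ hσ).1, ← K.one] at h2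
    exact (K.inj (cubeL_mul he (cubeL_pm he σ)) one3_cube.1 h2).1
  have hfin : ∀ s ∈ K.twoS, s * (n * D.tt * n⁻¹) * s⁻¹ = D.tt → n ∈ D.N := fun s hs hst => by
    have hc : s * n ∈ centralizer ({D.tt} : Set G) := by
      rw [mem_centralizer_singleton_iff, ← mul_inv_eq_iff_eq_mul, mul_inv_rev]
      calc s * n * D.tt * (n⁻¹ * s⁻¹) = s * (n * D.tt * n⁻¹) * s⁻¹ := by group
        _ = D.tt := hst
    have h1 := mul_mem (inv_mem (K.twoS_le hs)) (cent_tt_le hm hTI hc)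
    rwa [inv_mul_cancel_left] at h1
  rcases ti_invol e he σ hσ hi with ⟨rfl, hsy⟩ | ⟨rfl, h12⟩ | ⟨rfl, rfl | rfl⟩ | ⟨p, hp, rfl, rfl⟩
  · exfalso
    obtain ⟨x, ⟨e', he', σ', hσ', rfl⟩, hx⟩ := hinv _ (K.twoS_mem h1 (Or.inl rfl))
    have hc : Commute (n * D.tt * n⁻¹) (κ fv1 1) := by
      rw [hs]; exact K.commute he h1 (hsym e hsy fv1 h1 1 (Or.inl rfl)) rfl
    obtain ⟨y, ⟨e2, he2, σ2, hσ2, rfl⟩, hy⟩ := hn _ (K.twoS_mem h1 (Or.inl rfl) : κ fv1 1 ∈ K.twoS) |>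
      fun hm' => (⟨_, hm', rfl⟩ : ∃ y ∈ K.twoS, y = n * κ fv1 1 * n⁻¹)
    have hc2 : Commute (n * D.tt * n⁻¹) (n * κ fv1 1 * n⁻¹) := by
      rw [hs, ← hy]; exact K.commute he he2 (hsym e hsy e2 he2 σ2 hσ2) (by rw [one_mul, mul_one])
    have hc3 : D.tt * κ fv1 1 = κ fv1 1 * D.tt := by
      have h4 := hc2.eq
      have hl : ∀ a b : G, n * a * n⁻¹ * (n * b * n⁻¹) = n * (a * b) * n⁻¹ := fun a b => by group
      rw [hl, hl] at h4
      simpa using h4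
    rw [← K.tt_eq, K.mul _ one3_cube.1 _ _ h1, K.mul _ h1 _ _ one3_cube.1] at hc3
    exact absurd (K.inj (cubeL_mul one3_cube.1 (cubeL_pm h1 tr))
      (cubeL_mul h1 (cubeL_pm one3_cube.1 1)) hc3).1 (by decide +kernel)
  · exfalso
    obtain ⟨σ', hσ'⟩ : ∃ σ' : S3, pm σ' fv0 = e := by
      rcases h12 with rfl | rfl
      · exact ⟨cyc, hc0⟩
      · exact ⟨cyc * cyc, by rw [pm_mul, hc0, hc1]⟩
    refine K.not_conj_tt hm h ((κ one3 σ')⁻¹ * n) ?_
    have h3 : κ one3 σ' * κ fv0 1 * (κ one3 σ')⁻¹ = κ e 1 := by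
      rw [mul_inv_eq_iff_eq_mul, K.mul _ one3_cube.1 _ _ h0, K.mul _ he _ _ one3_cube.1, hσ', mul_one,
        one_mul, pm_one, show one3 * e = e * one3 from mul_comm _ _]
    calc (κ one3 σ')⁻¹ * n * D.tt * ((κ one3 σ')⁻¹ * n)⁻¹
        = (κ one3 σ')⁻¹ * (n * D.tt * n⁻¹) * κ one3 σ' := by group
      _ = κ fv0 1 := by rw [hs, ← h3]; group
  · exact hfin 1 (one_mem _) (by rw [one_mul, inv_one, mul_one, hs, K.tt_eq])
  · refine hfin (κ fv1 1) (K.twoS_mem h1 (Or.inl rfl)) ?_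
    rw [hs, mul_inv_eq_iff_eq_mul, K.mul _ h1 _ _ hevc, ← K.tt_eq, K.mul _ one3_cube.1 _ _ h1, pm_one,
      one_mul, mul_one, show one3 * pm tr fv1 = pm tr fv1 from one_mul _]
    congr 1
    decide +kernel
  · exact absurd hs (K.not_conj_ro h D.refl_tt hp (hTI _ (ro_facts p hp).2.2.2.1) n)

theorem normal_of_full_TI (hm : D.Monomial) (h : D.orbit = cubeL.toFinset) (hTI : D.TI) :
    D.J.Normal := by
  classical
  haveI : Fact (Nat.Prime 2) := ⟨Nat.prime_two⟩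
  obtain ⟨κ, K⟩ := exists_kappa hm h
  obtain ⟨T, hT⟩ := K.sylow_TI hm h hTI
  obtain ⟨hflip, -, hf0, -, hlist, ho, hn1, hn2, he12, he02, he01, hn012⟩ := ti_parity
  obtain ⟨h0, h1, h2, hc0, hc1, -⟩ := fv_facts
  set M := K.twoS ⊓ K.code.range with hM
  have hmemM : ∀ {e : V3}, e ∈ cubeL → ∀ {σ : S3}, (σ = 1 ∨ σ = tr) →
      (κ e σ ∈ M ↔ (Equiv.Perm.sign σ = 1 ↔ e ∈ evens)) := fun {e} he {σ} hσ => by
    refine ⟨fun hk => ?_, fun hp => ⟨K.twoS_mem he hσ,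
      K.mem_code.2 ⟨0, e, he, σ, hp, by rw [D.v_zero, one_mul]⟩⟩⟩
    obtain ⟨a, e', he', σ', hp, hk'⟩ := K.mem_code.1 hk.2
    obtain ⟨-, rfl, rfl⟩ := K.pair_inj he he' (a := 0) (a' := a) (by rw [D.v_zero, one_mul]; exact hk')
    exact hp
  have hrel : M.relIndex K.twoS = 2 := by
    rw [Subgroup.relIndex, Subgroup.index_eq_two_iff]
    refine ⟨⟨κ fv0 1, K.twoS_mem h0 (Or.inl rfl)⟩, ?_⟩
    rintro ⟨_, e, he, σ, hσ, rfl⟩
    have hfl := hflip e he σ hσ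
    simp only [mem_subgroupOf, Subgroup.coe_mul]
    rw [K.mul e he σ fv0 h0, mul_one, hmemM (cubeL_mul he (cubeL_pm h0 σ)) hσ, hmemM he hσ, hfl]
    by_cases hp : Equiv.Perm.sign σ = 1 ↔ e ∈ evens
    · exact Or.inr ⟨hp, fun hq => hq hp⟩
    · exact Or.inl ⟨hp, hp⟩
  have hidx : M.index = 2 ^ (0 + 1) * K.twoS.index := by
    rw [← Subgroup.relIndex_mul_index (inf_le_left : M ≤ K.twoS), hrel]; norm_num
  have hodd : Odd K.twoS.index := Nat.not_even_iff_odd.1 fun he =>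
    T.not_dvd_index (hT ▸ even_iff_two_dvd.1 he)
  obtain ⟨ε, hε⟩ : ∃ ε, ε = Invol.TransferDihedral.cosetSign M := ⟨_, rfl⟩
  have hεf : ε (κ fv0 1) = -1 := hε ▸ Invol.TransferDihedral.cosetSign_eq_neg_one M (j := 0)
    (by
      rw [orderOf_eq_prime (p := 2) (by rw [pow_two]; exact K.refl_f0.sq) fun e => ?_]
      · norm_num
      · rw [← K.one] at e
        exact absurd (K.inj h0 one3_cube.1 e).1 (by decide +kernel))
    hidx hodd (fun g hg => by
      rw [pow_zero, pow_one] at hg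
      obtain ⟨e, he, σ, hσ, hge⟩ := hg.1
      have hi : e * pm σ e = one3 := by
        have h2 : g * κ fv0 1 * g⁻¹ * (g * κ fv0 1 * g⁻¹) = 1 := by
          rw [show g * κ fv0 1 * g⁻¹ * (g * κ fv0 1 * g⁻¹) = g * (κ fv0 1 * κ fv0 1) * g⁻¹ by group,
            K.refl_f0.sq]
          group
        rw [hge, K.mul _ he _ _ he, (ti_data.1 e he σ hσ).1, ← K.one] at h2
        exact (K.inj (cubeL_mul he (cubeL_pm he σ)) one3_cube.1 h2).1
      rcases ti_even e he σ hσ hi ((hmemM he hσ).1 (hge ▸ hg)) with ⟨rfl, rfl⟩ | ⟨p, hp, rfl, rfl⟩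
      · rw [K.one, conj_eq_one_iff, ← K.one] at hge
        exact absurd (K.inj h0 one3_cube.1 hge).1 (by decide +kernel)
      · exact K.not_conj_ro h K.refl_f0 hp (hTI _ (ro_facts p hp).2.2.2.1) g hge)
  have hP0 : D.P ≤ ε.ker := P_le_ker ε
  have hJ0 : D.J ≤ ε.ker := D.J_le_P.trans hP0
  -- the values
  have hεe : ∀ e ∈ cubeL, ε (κ e 1) = if e ∈ evens then 1 else -1 := by
    have hk : ∀ σ, ε (κ (pm σ fv0) 1) = -1 := fun σ => by
      have h3 : κ one3 σ * κ fv0 1 = κ (pm σ fv0) 1 * κ one3 σ := by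
        rw [K.mul _ one3_cube.1 _ _ h0, K.mul _ (cubeL_pm h0 σ) _ _ one3_cube.1, mul_one, one_mul,
          pm_one, mul_comm one3]
      have h4 := congrArg ε h3
      rw [map_mul, map_mul, hεf, mul_comm (ε (κ (pm σ fv0) 1))] at h4
      exact (mul_left_cancel h4).symm
    have e1 : ε (κ fv1 1) = -1 := hc0 ▸ hk cyc
    have e2 : ε (κ fv2 1) = -1 := by
      have := hk (cyc * cyc); rwa [pm_mul, hc0, hc1] at this
    have hmul : ∀ a ∈ cubeL, ∀ b ∈ cubeL, ε (κ (a * b) 1) = ε (κ a 1) * ε (κ b 1) := fun a ha b hb => by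
      rw [← map_mul, K.mul a ha 1 b hb, pm_one, one_mul]
    intro e he
    rcases hlist e he with rfl | rfl | rfl | rfl | rfl | rfl | rfl | rfl
    · rw [if_pos ho, K.one, map_one]
    · rw [if_neg hf0, hεf]
    · rw [if_neg hn1, e1]
    · rw [if_neg hn2, e2]
    · rw [if_pos he12, hmul _ h1 _ h2, e1, e2]; rfl
    · rw [if_pos he02, hmul _ h0 _ h2, hεf, e2]; rfl
    · rw [if_pos he01, hmul _ h0 _ h1, hεf, e1]; rfl
    · rw [if_neg hn012, hmul _ (cubeL_mul h0 h1) _ h2, hmul _ h0 _ h1, hεf, e1, e2]; rfl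
  have hεel : ∀ σ, ε (D.el 0 σ) = if Equiv.Perm.sign σ = 1 then 1 else ε D.tt := fun σ => by
    split_ifs with hs
    · exact MonoidHom.mem_ker.1 (hP0 ⟨0, σ, hs, rfl⟩)
    · have h3 : ε (D.el 0 (σ * tr)) = 1 := by
        refine MonoidHom.mem_ker.1 (hP0 ⟨0, σ * tr, ?_, rfl⟩)
        rw [map_mul, (Int.units_eq_one_or _).resolve_left hs,
          show Equiv.Perm.sign tr = -1 from Equiv.Perm.sign_swap (by decide)]
        rfl
      rw [show D.el 0 (σ * tr) = D.el 0 σ * D.el 0 tr by rw [el_zero_v, el_zero_v, el_zero_v, map_mul],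
        map_mul, mul_eq_one_iff_eq_inv, Int.units_inv_eq_self] at h3
      exact h3
  have hεall : ∀ a, ∀ e ∈ cubeL, ∀ σ, ε (D.v a * κ e σ) =
      (if e ∈ evens then 1 else -1) * if Equiv.Perm.sign σ = 1 then 1 else ε D.tt := fun a e he σ => by
    rw [map_mul, MonoidHom.mem_ker.1 (hJ0 (D.v_mem a)), one_mul,
      show κ e σ = κ e 1 * κ one3 σ by
        rw [K.mul e he 1 one3 one3_cube.1, pm_one, one_mul]; congr 1; exact (mul_one e).symm,
      map_mul, hεe e he, K.perm, hεel]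
  rcases Int.units_eq_one_or (ε D.tt) with ht | ht
  · -- the even case below
    have hτ : ∀ σ, D.τ σ ∈ ε.ker := fun σ => by
      rw [← el_zero_v, MonoidHom.mem_ker, hεel, ht, ite_self]
    set D' := D.restrict ε.ker hJ0 hτ with hD'
    have hN' : ∀ {g : ε.ker}, g ∈ D'.N ↔ (g : G) ∈ D.N := fun {g} => by
      rw [hD', restrict_N, mem_subgroupOf]
    have hm' : D'.Monomial := fun g hg => by
      obtain ⟨e, he, σ, hga⟩ := hm g (hN'.1 hg)
      exact ⟨e, he, σ, fun a => by rw [hD', D.restrict_act _ hJ0 hτ (hN'.1 hg), hga]⟩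
    have horb : D'.orbit = evens := by
      ext e
      rw [D'.mem_orbit]
      constructor
      · rintro ⟨g, hg, rfl⟩
        obtain ⟨a, e, he, σ, hge⟩ := K.surj g (hN'.1 hg)
        rw [hD', D.restrict_act _ hJ0 hτ (hN'.1 hg), hge, K.pair_act he, mon_apply_one3]
        have h3 := hεall a e he σ
        rw [← hge, MonoidHom.mem_ker.1 g.2, ht, ite_self, mul_one] at h3
        by_contra hne
        rw [if_neg hne] at h3
        exact absurd h3 (by decide)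
      · intro he
        have hec := even_facts.2.2.2.2.2.2.1 e he
        have hg : κ e 1 ∈ ε.ker := by rw [MonoidHom.mem_ker, hεe e hec, if_pos he]
        refine ⟨⟨κ e 1, hg⟩, hN'.2 (K.mem e hec 1), ?_⟩
        rw [hD', D.restrict_act _ hJ0 hτ (K.mem e hec 1), K.act e hec, mon_apply_one3]
    have hn := normal_of_even hm' horb
    rw [hD', restrict_J] at hn
    exact D.normal_of_normal_sub hP0 hn
  · -- the code group
    have hker : ∀ g, g ∈ K.code.range ↔ g ∈ ε.ker ∧ g ∈ D.N := fun g => by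
      rw [K.mem_code]
      constructor
      · rintro ⟨a, e, he, σ, hp, rfl⟩
        refine ⟨?_, K.pair_mem he σ a⟩
        rw [MonoidHom.mem_ker, hεall a e he σ, ht]
        by_cases hs : Equiv.Perm.sign σ = 1
        · rw [if_pos (hp.1 hs), if_pos hs, one_mul]
        · rw [if_neg (fun hh => hs (hp.2 hh)), if_neg hs]; rfl
      · rintro ⟨hk, hgN⟩
        obtain ⟨a, e, he, σ, rfl⟩ := K.surj g hgN
        refine ⟨a, e, he, σ, ?_, rfl⟩
        rw [MonoidHom.mem_ker, hεall a e he σ, ht] at hk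
        by_cases hs : Equiv.Perm.sign σ = 1 <;> by_cases hev : e ∈ evens <;> simp [hs, hev] at hk ⊢
    set H := D.N.subgroupOf ε.ker with hH
    let φ : MonoCube.W →* H :=
      (K.code.codRestrict ε.ker fun w => ((hker _).1 ⟨w, rfl⟩).1).codRestrict H fun w => K.code_mem w
    have hφ : Function.Bijective φ := by
      refine ⟨fun w v e => K.code_injective (congrArg (fun x : H => ((x : ε.ker) : G)) e), ?_⟩
      rintro ⟨⟨g, hg⟩, hgN⟩
      obtain ⟨w, hw⟩ := (hker g).2 ⟨hg, hgN⟩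
      exact ⟨w, Subtype.ext (Subtype.ext hw)⟩
    let eW : H ≃* MonoCube.W := (MulEquiv.ofBijective φ hφ).symm
    have hval : ∀ y : H, ((y : ε.ker) : G) = K.code (eW y) := fun y =>
      congrArg (fun x : H => ((x : ε.ker) : G)) ((MulEquiv.ofBijective φ hφ).apply_symm_apply y).symm
    have hinJ : ∀ y : H, MonoCube.W.inJ (eW y) = true →
        ((y : ε.ker) : G) = D.v (blkA (eW y)) ∧ eW y = ⟨0, 0, (eW y).x, (eW y).y, (eW y).z⟩ := by
      intro y hy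
      simp only [MonoCube.W.inJ, Bool.and_eq_true, decide_eq_true_eq] at hy
      have e1 : eW y = ⟨0, 0, (eW y).x, (eW y).y, (eW y).z⟩ := MonoCube.W.ext hy.1 hy.2 rfl rfl rfl
      refine ⟨?_, e1⟩
      rw [hval y]
      conv_lhs => rw [e1]
      exact (K.code_J (a := blkA (eW y))).trans rfl
    letI : Fintype ε.ker := Fintype.ofFinite _
    let C : MonoCube.Ctx H := {
      e := eW
      cent := fun y hy g hg => by
        obtain ⟨hyJ, hy1⟩ := MonoCube.W.good_iff.1 hy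
        obtain ⟨hv, e1⟩ := hinJ y hyJ
        refine hTI (blkA (eW y)) (fun e0 => hy1 ?_) (mem_centralizer_singleton_iff.2 ?_)
        · have hy0 : y = 1 := Subtype.ext (Subtype.ext (by rw [hv, e0, D.v_zero]; rfl))
          rw [hy0, map_one]
        · rw [← hv]
          exact congrArg Subtype.val (mem_centralizer_singleton_iff.1 hg)
      closed := fun y g hg hyJ hw => by
        obtain ⟨hv, e1⟩ := hinJ y hyJ
        rw [e1] at hw
        obtain ⟨n1, n2⟩ := wt_one _ _ _ hw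
        rw [← e1] at n1 n2
        set y' : G := (g : G) * ((y : ε.ker) : G) * (g : G)⁻¹ with hy'
        have hyN : y' ∈ D.N := hg
        have hy3 : y' ^ 3 ^ 1 = 1 := by
          rw [pow_one, hy', conj_pow, hv, pow_three', D.cube, mul_one, mul_inv_cancel]
        obtain ⟨i, -, hi⟩ := (Nat.dvd_prime_pow Nat.prime_three).1 (orderOf_dvd_of_pow_eq_one hy3)
        have hp : IsPGroup 3 (zpowers y') := IsPGroup.of_card (n := i) (by rw [Nat.card_zpowers, hi])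
        obtain ⟨n, hn, hnP⟩ := D.conj_into_P hp (zpowers_le.2 hyN)
        have hnJ : n * y' * n⁻¹ ∈ D.J := by
          by_contra hne
          refine not_orb_of_full h n1 n2 (D.outside_orb (hnP _ (mem_zpowers _)) hne
            (g := (g : G)⁻¹ * n⁻¹) ?_)
          rw [hy', hv]; group
        obtain ⟨b, hb⟩ := D.mem_J.1 ((mem_normalizer_iff.1 hn _).2 hnJ)
        have : eW ⟨_, hg⟩ = ⟨0, 0, b 0, b 1, b 2⟩ := K.code_injective (by
          rw [← hval, K.code_J, hb]; rfl)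
        rw [this]; rfl }
    have htop := C.eq_top
    have hle : ε.ker ≤ D.N := fun g hg => (htop ▸ mem_top (⟨g, hg⟩ : ε.ker) : (⟨g, hg⟩ : ε.ker) ∈ H)
    refine D.normal_of_normal_sub hP0 ⟨fun y hy g => ?_⟩
    exact (mem_normalizer_iff.1 (hle g.2) _).1 hy

end Data

end Cfsg.Agent.Recog.SymNine
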