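import Cfsg.Agent.Lib.Recog.SymNine.Two

/-!
The case in which the normalizer is the centralizer of the central element.
-/

set_option autoImplicit false
set_option linter.style.haveILetI false
set_option linter.unusedSectionVars false
set_option maxRecDepth 100000

namespace Cfsg.Agent.Recog.SymNine

open Subgroup

universe u

namespace Data

variable {G : Type u} [Group G] [Finite G] {D : Data G}

theorem normal_of_one (hm : D.Monomial) (h : D.orbit = {one3}) : D.J.Normal := by
  classical
  haveI : Fact (Nat.Prime 2) := ⟨Nat.prime_two⟩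
  have hne : ({one3} : Finset V3) ≠ cubeL.toFinset := by decide +kernel
  have hTI := TI_of_not_full hm (h ▸ hne)
  obtain ⟨S, ℓ, hSN, hSp, htS, hl, hsurj, huniq, hmax⟩ := exists_two hm
  have hS : ∀ g ∈ S, g = 1 ∨ g = D.tt := by
    intro g hg
    obtain ⟨e, he, σ, hσ, rfl⟩ := hsurj g hg
    obtain rfl : e = one3 := by rwa [h, Finset.mem_singleton] at he
    rcases hσ with rfl | rfl
    · exact Or.inl (huniq _ hg 1 (one_mem _) fun a => by
        rw [(hl _ he _ (Or.inl rfl)).2, D.act_one, mon_one3, pm_one])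
    · exact Or.inr (huniq _ hg _ htS fun a => by
        rw [(hl _ he _ (Or.inr rfl)).2, mon_one3, tt, D.act_el])
  have hnc : ∀ n : G, (∀ y ∈ S, n * y * n⁻¹ ∈ S) → n ∈ centralizer ({D.tt} : Set G) := by
    intro n hn
    rcases hS _ (hn _ htS) with e | e
    · exact absurd (conj_eq_one_iff.1 e) D.tt_ne
    · exact mem_centralizer_singleton_iff.2 (mul_inv_eq_iff_eq_mul.1 e)
  obtain ⟨T, hT⟩ := sylow_two_of S hSp fun n h2 hn =>
    two_mem_of_N hSN hSp hmax (cent_tt_le hm hTI (hnc n hn)) h2 hn
  have hle : normalizer ((T : Subgroup G) : Set G) ≤ centralizer ((T : Subgroup G) : Set G) := by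
    intro g hg
    rw [hT] at hg ⊢
    refine mem_centralizer_iff.2 fun y hy => ?_
    rcases hS y hy with rfl | rfl
    · rw [one_mul, mul_one]
    · exact (mem_centralizer_singleton_iff.1 (hnc g fun w hw => (mem_normalizer_iff.1 hg w).1 hw)).symm
  have hc := MonoidHom.ker_transferSylow_isComplement' T hle
  set M := (MonoidHom.transferSylow T hle).ker
  have hodd : ∀ g ∈ M, ¬ 2 ∣ orderOf g := fun g hg hd =>
    MonoidHom.not_dvd_card_ker_transferSylow T hle (hd.trans (Subgroup.orderOf_dvd_natCard _ hg))
  have hP : D.P ≤ M := fun y hy => by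
    haveI : Fact (Nat.Prime 3) := ⟨Nat.prime_three⟩
    obtain ⟨k, hk⟩ := P_pow hy
    obtain ⟨i, hi⟩ := T.isPGroup' (MonoidHom.transferSylow T hle y)
    exact eq_one_of_two_three hi (m := k) (by rw [← map_pow, hk, map_one])
  exact D.normal_of_meet hP (meet_le_P hP fun g hg => hodd g hg.1)

end Data

end Cfsg.Agent.Recog.SymNine
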