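import Cfsg.Agent.S3331
import Cfsg.Agent.Lib.Block.NineCC.Main
import Cfsg.Agent.Lib.Fus.NineFour.Main
import Cfsg.Agent.Lib.Classical.DicksonSmallQ
import Cfsg.Agent.Lib.Transfer.HallWielandt
import Cfsg.Agent.Lib.Grp.Cores

/-!
Groups in which a three-group normalizes no non-trivial subgroup of order prime to three: small
self-centralizing three-subgroups are normal.
-/

set_option autoImplicit false
set_option linter.style.haveILetI false
set_option linter.unusedSectionVars false

namespace Cfsg.Agent.Recog.SymNine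

open Subgroup
open scoped Pointwise

universe u

/-- A Klein four group in the alternating group of degree five. -/
def kleinFive : List (alternatingGroup (Fin 5)) :=
  [1, ⟨Equiv.swap 0 1 * Equiv.swap 2 3, Equiv.Perm.mem_alternatingGroup.2 (by decide)⟩,
    ⟨Equiv.swap 0 2 * Equiv.swap 1 3, Equiv.Perm.mem_alternatingGroup.2 (by decide)⟩,
    ⟨Equiv.swap 0 3 * Equiv.swap 1 2, Equiv.Perm.mem_alternatingGroup.2 (by decide)⟩]

theorem kleinFive_facts : kleinFive.Nodup ∧
    (∀ x ∈ kleinFive, x⁻¹ = x ∧ ∀ y ∈ kleinFive, x * y ∈ kleinFive) ∧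
    (Finset.univ.filter fun g : alternatingGroup (Fin 5) =>
      ∀ x ∈ kleinFive, g * x * g⁻¹ ∈ kleinFive).card = 12 :=
  ⟨by decide +kernel, by decide +kernel, by decide +kernel⟩

theorem card_sylow_five_two : Nat.card (Sylow 2 (alternatingGroup (Fin 5))) = 5 := by
  classical
  haveI : Fact (Nat.Prime 2) := ⟨Nat.prime_two⟩
  obtain ⟨hnd, hclosed, hN⟩ := kleinFive_facts
  let V : Subgroup (alternatingGroup (Fin 5)) :=
    { carrier := {x | x ∈ kleinFive}
      one_mem' := by simp [kleinFive]
      mul_mem' := fun {a b} ha hb => (hclosed a ha).2 b hb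
      inv_mem' := fun {a} ha => by
        show a⁻¹ ∈ kleinFive
        rw [(hclosed a ha).1]; exact ha }
  have hV : Nat.card V = 4 := by
    rw [show Nat.card V = Nat.card {x // x ∈ kleinFive.toFinset} from
      Nat.card_congr (Equiv.subtypeEquivRight fun x => List.mem_toFinset.symm),
      Nat.card_eq_finsetCard, List.toFinset_card_of_nodup hnd]
    rfl
  have h60 : Nat.card (alternatingGroup (Fin 5)) = 60 := by
    rw [Nat.card_eq_fintype_card]; decide +kernel
  let S : Sylow 2 (alternatingGroup (Fin 5)) := Sylow.ofCard V (by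
    rw [hV, h60, show 60 = 2 ^ 2 * 15 by norm_num, Nat.factorization_mul (by norm_num) (by norm_num),
      Nat.Prime.factorization_pow Nat.prime_two]
    simp [Nat.factorization_eq_zero_of_not_dvd])
  have hn : Nat.card (normalizer (V : Set (alternatingGroup (Fin 5)))) = 12 := by
    rw [← hN, ← Nat.card_eq_finsetCard]
    refine Nat.card_congr (Equiv.subtypeEquivRight fun g => ?_)
    rw [Finset.mem_filter]
    refine ⟨fun hg => ⟨Finset.mem_univ _, fun x hx => (mem_normalizer_iff.1 hg x).1 hx⟩, fun hg => ?_⟩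
    exact mem_normalizer_fintype fun x hx => hg.2 x hx
  rw [Sylow.card_eq_index_normalizer S]
  have := (normalizer (V : Set (alternatingGroup (Fin 5)))).card_mul_index
  rw [hn, h60] at this
  show (normalizer (V : Set (alternatingGroup (Fin 5)))).index = 5
  omega

theorem card_sylow_le (p : ℕ) [Fact p.Prime] {G H : Type*} [Group G] [Group H] [Finite G]
    [Finite H] (e : G ≃* H) : Nat.card (Sylow p G) ≤ Nat.card (Sylow p H) := by
  refine Nat.card_le_card_of_injective
    (fun P => P.mapSurjective (f := e.toMonoidHom) e.surjective) fun P Q h => ?_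
  have h1 := congrArg (fun R : Sylow p H => (R : Subgroup H)) h
  exact Sylow.ext (map_injective e.injective h1)

theorem card_sylow_congr (p : ℕ) [Fact p.Prime] {G H : Type*} [Group G] [Group H] [Finite G]
    [Finite H] (e : G ≃* H) : Nat.card (Sylow p G) = Nat.card (Sylow p H) :=
  le_antisymm (card_sylow_le p e) (card_sylow_le p e.symm)

theorem conj_map_mul {G : Type u} [Group G] (K : Subgroup G) (a b : G) :
    (K.map (MulAut.conj b).toMonoidHom).map (MulAut.conj a).toMonoidHom =
      K.map (MulAut.conj (a * b)).toMonoidHom := by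
  rw [Subgroup.map_map, map_mul]
  rfl

/-- A three-group fixes one of the Sylow subgroups of a normal subgroup when their number is prime
to three. -/
theorem exists_fixed_sylow {G : Type u} [Group G] [Finite G] {M A : Subgroup G} [M.Normal]
    (hA : IsPGroup 3 A) (p : ℕ) [Fact p.Prime] (hn : ¬ 3 ∣ Nat.card (Sylow p M)) :
    ∃ S : Sylow p M, A ≤ normalizer (((S : Subgroup M).map M.subtype : Subgroup G) : Set G) := by
  classical
  haveI : Fact (Nat.Prime 3) := ⟨Nat.prime_three⟩
  letI : MulAction A (Sylow p M) :=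
    MulAction.compHom (Sylow p M) ((MulAut.conjNormal : G →* MulAut M).comp A.subtype)
  haveI : Fintype (Sylow p M) := Fintype.ofFinite _
  obtain ⟨S, hS⟩ := hA.nonempty_fixed_point_of_prime_not_dvd_card (Sylow p M) hn
  refine ⟨S, fun a ha => mem_normalizer_fintype fun y hy => ?_⟩
  obtain ⟨m, hm, rfl⟩ := hy
  have h1 := hS ⟨a, ha⟩
  refine ⟨MulAut.conjNormal a m, ?_, MulAut.conjNormal_apply a m⟩
  have h2 : MulAut.conjNormal a m ∈ (MulAut.conjNormal a • (S : Subgroup M) : Subgroup M) :=
    (MulAut.smul_def (MulAut.conjNormal a) m) ▸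
      Subgroup.smul_mem_pointwise_smul m (MulAut.conjNormal a) (S : Subgroup M) hm
  rwa [show (MulAut.conjNormal a • (S : Subgroup M) : Subgroup M) = (S : Subgroup M) from
    congrArg (fun Q : Sylow p M => (Q : Subgroup M)) h1] at h2

/-- A self-centralizing subgroup of order three of a normal subgroup is normal there, when the
ambient three-group normalizes no subgroup of it of order prime to three. -/
theorem normal_of_self_cent {G : Type u} [Group G] [Finite G] {M A B : Subgroup G} [M.Normal]
    (hA : IsPGroup 3 A) (hBM : B ≤ M) (hB : Nat.card B = 3)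
    (hc : ∀ g ∈ M, (∀ b ∈ B, g * b = b * g) → g ∈ B)
    (hsig : ∀ K : Subgroup G, K ≤ M → (Nat.card K).Coprime 3 →
      A ≤ normalizer (K : Set G) → K = ⊥) : (B.subgroupOf M).Normal := by
  classical
  haveI : Fact (Nat.Prime 3) := ⟨Nat.prime_three⟩
  have hX : Nat.card (B.subgroupOf M) = 3 := by rw [Nat.card_congr (subgroupOfEquivOfLe hBM).toEquiv, hB]
  have hcent : centralizer ((B.subgroupOf M : Subgroup M) : Set M) = B.subgroupOf M := by
    refine le_antisymm (fun (g : M) hg => hc g g.2 fun b hb => ?_)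
      (fun (g : M) hg => mem_centralizer_iff.2 fun (b : M) hb => ?_)
    · exact (congrArg Subtype.val (mem_centralizer_iff.1 hg (⟨b, hBM hb⟩ : M) hb)).symm
    · haveI : IsCyclic B := isCyclic_of_prime_card hB
      letI : CommGroup B := IsCyclic.commGroup
      exact Subtype.ext (show (b : G) * g = g * b from
        congrArg (Subtype.val : B → G) (mul_comm (⟨(b : G), hb⟩ : B) ⟨(g : G), hg⟩))
  have hchar : ∀ (K : Subgroup M), K.Normal → (Nat.card K).Coprime 3 → K = ⊥ := by
    intro K hKn hK
    haveI : (Cfsg.pPrimeCore 3 M).Characteristic := by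
      refine Subgroup.characteristic_iff_map_le.2 fun e => ?_
      refine Grp.le_pPrimeCore (Subgroup.Normal.map Grp.pPrimeCore_isNormal _ e.surjective) ?_
      rw [card_map_of_injective e.injective]
      exact Grp.pPrimeCore_coprime
    haveI : ((Cfsg.pPrimeCore 3 M).map M.subtype).Normal := ConjAct.normal_of_characteristic_of_normal
    have h0 : (Cfsg.pPrimeCore 3 M).map M.subtype = ⊥ := hsig _ (map_subtype_le _)
      (by rw [card_map_of_injective M.subtype_injective]; exact Grp.pPrimeCore_coprime)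
      (by rw [normalizer_eq_top_iff.2 inferInstance]; exact le_top)
    rw [map_eq_bot_iff_of_injective _ M.subtype_injective] at h0
    exact le_bot_iff.1 (h0 ▸ Grp.le_pPrimeCore hKn hK)
  have hfix : ∀ (p : ℕ) [Fact p.Prime], p ∣ Nat.card M → p ≠ 3 → ¬ 3 ∣ Nat.card (Sylow p M) →
      False := by
    intro p _ hp hp3 hn
    obtain ⟨S, hS⟩ := exists_fixed_sylow hA p hn
    have h := hsig _ (map_subtype_le _) (by
      rw [card_map_of_injective M.subtype_injective]
      obtain ⟨k, hk⟩ := IsPGroup.iff_card.1 S.isPGroup'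
      rw [hk]
      exact Nat.Coprime.pow_left k ((Nat.coprime_primes Fact.out Nat.prime_three).2 hp3)) hS
    rw [map_eq_bot_iff_of_injective _ M.subtype_injective] at h
    have h1 := S.dvd_card_of_dvd_card hp
    rw [show ((S : Subgroup M)) = ⊥ from h, card_bot, Nat.dvd_one] at h1
    exact (Fact.out : p.Prime).one_lt.ne' h1
  rcases S3331.result (B.subgroupOf M) hX hcent with
    ⟨N, hNn, -, hN, hQ⟩ | ⟨N, hNn, -, hN2, ⟨e⟩⟩ | ⟨⟨e⟩⟩
  · haveI := hNn
    have hN1 := hchar N hNn hN
    have hM6 : Nat.card M ∣ 6 := by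
      rw [N.card_eq_card_quotient_mul_card_subgroup, show Nat.card N = 1 by rw [hN1, card_bot], mul_one]
      rcases hQ with h | ⟨⟨e⟩⟩
      · rw [h]; norm_num
      · rw [Nat.card_congr e.toEquiv, Nat.card_eq_fintype_card, Fintype.card_perm, Fintype.card_fin]
        exact dvd_refl _
    have hd : (B.subgroupOf M).index ∣ 2 := by
      have h := (B.subgroupOf M).card_mul_index
      rw [hX] at h
      exact (Nat.mul_dvd_mul_iff_left (show 0 < 3 by norm_num)).1 (h.symm ▸ hM6)
    rcases (Nat.dvd_prime Nat.prime_two).1 hd with h | h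
    · rw [index_eq_one.1 h]; infer_instance
    · exact normal_of_index_eq_two h
  · exfalso
    haveI := hNn
    haveI : Fact (Nat.Prime 2) := ⟨Nat.prime_two⟩
    have hN1 : N = ⊥ := hchar N hNn (by
      obtain ⟨k, hk⟩ := IsPGroup.iff_card.1 (show IsPGroup 2 N from fun x =>
        ⟨1, Subtype.ext (by simpa using hN2 x x.2)⟩)
      rw [hk]; exact Nat.Coprime.pow_left k (by norm_num))
    subst hN1
    let e' : M ≃* alternatingGroup (Fin 5) := QuotientGroup.quotientBot.symm.trans e
    refine hfix 2 ?_ (by norm_num) ?_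
    · rw [Nat.card_congr e'.toEquiv, Nat.card_eq_fintype_card]
      exact (show 2 ∣ 60 by norm_num).trans (dvd_of_eq (by decide +kernel))
    · rw [card_sylow_congr 2 e', card_sylow_five_two]
      norm_num
  · exfalso
    haveI : Fact (Nat.Prime 7) := ⟨by norm_num⟩
    have hcard := Dickson.card_psl_odd (F := ZMod 7) (by rw [ZMod.card]; decide)
    rw [ZMod.card] at hcard
    have h168 : Nat.card M = 168 := by rw [Nat.card_congr e.toEquiv]; omega
    refine hfix 7 (by rw [h168]; norm_num) (by norm_num) ?_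
    have h1 : Nat.card (Sylow 7 M) ∣ 168 := by
      obtain ⟨S⟩ := (inferInstance : Nonempty (Sylow 7 M))
      rw [← h168, Sylow.card_eq_index_normalizer S]
      exact index_dvd_card _
    have h2 : Nat.card (Sylow 7 M) % 7 = 1 := card_sylow_modEq_one 7 M
    intro h3
    have h4 := Nat.le_of_dvd (by norm_num) h1
    generalize Nat.card (Sylow 7 M) = m at *
    interval_cases m <;> omega

/-- A Sylow subgroup of order nine with all the local hypotheses. -/
structure NineHyp {X : Type u} [Group X] (T : Sylow 3 X) : Prop where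
  card : Nat.card (T : Subgroup X) = 9
  exp : ∀ t ∈ (T : Subgroup X), t ^ 3 = 1
  comm : ∀ s ∈ (T : Subgroup X), ∀ t ∈ (T : Subgroup X), s * t = t * s
  cent : centralizer ((T : Subgroup X) : Set X) = T
  loc : ∀ t ∈ (T : Subgroup X), t ≠ 1 →
    centralizer ({t} : Set X) ≤ normalizer ((T : Subgroup X) : Set X)
  sig : ∀ K : Subgroup X, (Nat.card K).Coprime 3 → (T : Subgroup X) ≤ normalizer (K : Set X) → K = ⊥

namespace NineHyp

variable {X : Type u} [Group X] [Finite X] {T : Sylow 3 X}

/-- The self-centralizing case. -/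
theorem hyp (h : NineHyp T) (hc : ∀ g ∈ normalizer ((T : Subgroup X) : Set X),
    ∀ t ∈ (T : Subgroup X), t ≠ 1 → g * t = t * g → g ∈ (T : Subgroup X)) : Block.NineCC.Hyp T := by
  refine ⟨h.card, h.exp, fun t ht ht1 => le_antisymm (fun g hg => ?_) fun g hg => ?_⟩
  · exact hc g (h.loc t ht ht1 hg) t ht ht1 (mem_centralizer_singleton_iff.1 hg)
  · exact mem_centralizer_singleton_iff.2 (h.comm g hg t ht)

/-- If the normalizer has three-residual meeting the Sylow subgroup in at most a line inverted
there, the Sylow subgroup is normal. -/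
theorem normal_of_line (h : NineHyp T) {B : Subgroup X} (hBT : B ≤ (T : Subgroup X))
    (hB : Nat.card B = 1 ∨ Nat.card B = 3)
    (hres : (pResidual 3 (normalizer ((T : Subgroup X) : Set X))).map
      (normalizer ((T : Subgroup X) : Set X)).subtype ⊓ (T : Subgroup X) ≤ B)
    (hBres : B ≤ pResidual 3 X)
    (hself : ∀ g ∈ pResidual 3 X, g ∈ normalizer ((T : Subgroup X) : Set X) →
      (∀ b ∈ B, g * b = b * g) → Nat.card B = 3 → g ∈ (T : Subgroup X)) :
    (T : Subgroup X).Normal := by
  classical
  haveI : Fact (Nat.Prime 3) := ⟨Nat.prime_three⟩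
  set M := pResidual 3 X with hM
  haveI := Transfer.pResidual_characteristic 3 X
  have hstep : ∀ u ∈ (T : Subgroup X), ∀ z ∈ (T : Subgroup X),
      (Transfer.HallWielandt.step z)^[3 - 1] u = 1 := fun u hu z hz => by
    show (u⁻¹ * z⁻¹ * u * z)⁻¹ * z⁻¹ * (u⁻¹ * z⁻¹ * u * z) * z = 1
    rw [mul_assoc (u⁻¹ * z⁻¹) u z, h.comm u hu z hz]
    group
  have hMT : M ⊓ (T : Subgroup X) ≤ B := fun g hg => hres
    ⟨Transfer.HallWielandt.pResidual_inf_le T T ⟨le_rfl, fun g hg => Subgroup.eq_of_le_of_card_ge hg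
      (by rw [card_map_of_injective (MulAut.conj g).injective])⟩ hstep hg, hg.2⟩
  rcases hB with hB | hB
  · have hMb : M = ⊥ := by
      refine h.sig M ?_ (by rw [normalizer_eq_top_iff.2 inferInstance]; exact le_top)
      rw [Nat.coprime_comm, Nat.Prime.coprime_iff_not_dvd Nat.prime_three]
      intro hd
      obtain ⟨g, hg⟩ := exists_prime_orderOf_dvd_card' 3 hd
      obtain ⟨R, hR⟩ := (IsPGroup.of_card (n := 1) (by
        rw [Nat.card_zpowers, Subgroup.orderOf_coe, hg, pow_one]) :
        IsPGroup 3 (zpowers (g : X))).exists_le_sylow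
      obtain ⟨c, hc⟩ := MulAction.exists_smul_eq X R T
      have h1 : c * (g : X) * c⁻¹ ∈ (T : Subgroup X) := by
        rw [← hc, Sylow.coe_subgroup_smul]
        exact Subgroup.smul_mem_pointwise_smul _ (MulAut.conj c) _ (hR (mem_zpowers _))
      have h2 := hMT ⟨Subgroup.Normal.conj_mem inferInstance _ g.2 c, h1⟩
      rw [Subgroup.eq_bot_of_card_eq B hB, mem_bot, conj_eq_one_iff, OneMemClass.coe_eq_one] at h2
      rw [h2, orderOf_one] at hg
      omega
    have htop : (⊤ : Subgroup X) = T := by
      rw [← Transfer.sylow_sup_pResidual T, ← hM, hMb, sup_bot_eq]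
    rw [← htop]; infer_instance
  · have hBn : (B.subgroupOf M).Normal := by
      refine normal_of_self_cent T.isPGroup' hBres hB (fun g hg hc => ?_)
        (fun K _ hK hn => h.sig K hK hn)
      obtain ⟨b, hb⟩ := exists_prime_orderOf_dvd_card' (G := B) 3 (hB ▸ dvd_rfl)
      have hb1 : (b : X) ≠ 1 := fun e => by
        rw [← Subgroup.orderOf_coe, e, orderOf_one] at hb
        omega
      exact hMT ⟨hg, hself g hg (h.loc b (hBT b.2) hb1 (mem_centralizer_singleton_iff.2 (hc b b.2)))
        hc hB⟩
    -- the line is normal in the whole group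
    have hchar : ∀ g : X, ∀ b ∈ B, g * b * g⁻¹ ∈ B := by
      intro g b hb
      let S : Sylow 3 M := ⟨B.subgroupOf M, (IsPGroup.of_card (n := 1) (by rw [hB, pow_one]) :
        IsPGroup 3 B).comap_subtype, fun {Q} hQ hle => by
          refine le_antisymm (fun q hq => ?_) hle
          obtain ⟨R, hR⟩ := (hQ.map M.subtype).exists_le_sylow
          obtain ⟨c, hc⟩ := MulAction.exists_smul_eq X R T
          by_contra hqB
          have hle2 : (Q.map M.subtype).map (MulAut.conj c).toMonoidHom ≤ B := by
            rintro _ ⟨_, ⟨y, hy, rfl⟩, rfl⟩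
            refine hMT ⟨Subgroup.Normal.conj_mem inferInstance _ y.2 c, ?_⟩
            rw [← hc, Sylow.coe_subgroup_smul]
            exact Subgroup.smul_mem_pointwise_smul _ (MulAut.conj c) _ (hR ⟨y, hy, rfl⟩)
          have h1 := Subgroup.card_le_of_le hle2
          rw [card_map_of_injective (MulAut.conj c).injective, card_map_of_injective M.subtype_injective,
            ← Nat.card_congr (subgroupOfEquivOfLe hBres).toEquiv] at h1
          exact hqB ((Subgroup.eq_of_le_of_card_ge hle h1).ge hq)⟩
      haveI : (B.subgroupOf M).Normal := hBn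
      haveI : (B.subgroupOf M).Characteristic := Sylow.characteristic_of_normal S hBn
      haveI : ((B.subgroupOf M).map M.subtype).Normal := ConjAct.normal_of_characteristic_of_normal
      have h1 := Subgroup.Normal.conj_mem inferInstance b
        (show b ∈ (B.subgroupOf M).map M.subtype from ⟨⟨b, hBres hb⟩, hb, rfl⟩) g
      rwa [subgroupOf_map_subtype, inf_eq_left.2 hBres] at h1
    set C := centralizer (B : Set X) with hC
    haveI hCn : C.Normal := ⟨fun c hc g => mem_centralizer_iff.2 fun b hb => by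
      have h1 := hchar g⁻¹ b hb
      have h2 := mem_centralizer_iff.1 hc _ h1
      calc b * (g * c * g⁻¹) = g * (g⁻¹ * b * g⁻¹⁻¹ * c) * g⁻¹ := by group
        _ = g * (c * (g⁻¹ * b * g⁻¹⁻¹)) * g⁻¹ := by rw [h2]
        _ = g * c * g⁻¹ * b := by group⟩
    have hTC : (T : Subgroup X) ≤ C := fun t ht => mem_centralizer_iff.2 fun b hb =>
      h.comm b (hBT hb) t ht
    obtain ⟨b, hb⟩ := exists_prime_orderOf_dvd_card' (G := B) 3 (hB ▸ dvd_rfl)
    have hb1 : (b : X) ≠ 1 := fun e => by
      rw [← Subgroup.orderOf_coe, e, orderOf_one] at hb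
      omega
    have hCN : C ≤ normalizer ((T : Subgroup X) : Set X) := fun c hc =>
      h.loc b (hBT b.2) hb1 (mem_centralizer_singleton_iff.2 (mem_centralizer_iff.1 hc b b.2).symm)
    refine Block.NineCC.normal_of_normal_subtype T hTC ?_
    refine ⟨fun n hn g => ?_⟩
    rw [Sylow.coe_subtype, mem_subgroupOf] at hn ⊢
    exact (mem_normalizer_iff.1 (hCN g.2) _).1 hn

/-- An automizer of order at most two. -/
theorem normal_small (h : NineHyp T)
    (hN : Nat.card (normalizer ((T : Subgroup X) : Set X)) ∣ 18) : (T : Subgroup X).Normal := by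
  classical
  haveI : Fact (Nat.Prime 2) := ⟨Nat.prime_two⟩
  haveI : Fact (Nat.Prime 3) := ⟨Nat.prime_three⟩
  set N := normalizer ((T : Subgroup X) : Set X) with hNdef
  have hTN : (T : Subgroup X) ≤ N := le_normalizer
  obtain ⟨k, hk⟩ := (h.card ▸ Subgroup.card_dvd_of_le hTN : 9 ∣ Nat.card N)
  have hk2 : k ∣ 2 := (Nat.mul_dvd_mul_iff_left (show 0 < 9 by norm_num)).1 (hk ▸ hN)
  rcases (Nat.dvd_prime Nat.prime_two).1 hk2 with rfl | rfl
  · refine h.normal_of_line (B := ⊥) bot_le (Or.inl card_bot) ?_ bot_le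
      (fun g _ _ _ h3 => absurd h3 (by rw [card_bot]; norm_num))
    have hNT : N = (T : Subgroup X) := (Subgroup.eq_of_le_of_card_ge hTN (by rw [hk, h.card])).symm
    rw [Transfer.pResidual_eq_bot_of_isPGroup (T.isPGroup'.to_le hNT.le), Subgroup.map_bot]
    exact inf_le_left
  obtain ⟨r', hr'⟩ := exists_prime_orderOf_dvd_card' (G := N) 2 ⟨9, by rw [hk]⟩
  set r : X := (r' : X)
  have hr2 : r * r = 1 := by
    have := pow_orderOf_eq_one r'
    rw [hr', pow_two] at this
    exact congrArg Subtype.val this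
  have hrinv : r⁻¹ = r := inv_eq_of_mul_eq_one_right hr2
  have hcube : ∀ t ∈ (T : Subgroup X), t * t * t = 1 := fun t ht => by
    rw [← pow_three' t, h.exp t ht]
  have hrT : r ∉ (T : Subgroup X) := fun hrT => by
    have h1 := hcube r hrT
    rw [hr2, one_mul] at h1
    have h2 : r' = 1 := Subtype.ext h1
    rw [h2, orderOf_one] at hr'
    omega
  have hidx : ((T : Subgroup X).subgroupOf N).index = 2 := by
    have h1 := ((T : Subgroup X).subgroupOf N).card_mul_index
    rw [Nat.card_congr (subgroupOfEquivOfLe hTN).toEquiv, h.card, hk] at h1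
    omega
  have hsplit : ∀ g ∈ N, g ∉ (T : Subgroup X) → r * g ∈ (T : Subgroup X) := fun g hg hgT => by
    have := (Subgroup.mul_mem_iff_of_index_two hidx (a := r') (b := ⟨g, hg⟩)).2
    exact this ⟨fun h1 => absurd h1 hrT, fun h1 => absurd h1 hgT⟩
  have hconj : ∀ t ∈ (T : Subgroup X), r * t * r⁻¹ ∈ (T : Subgroup X) := fun t ht =>
    (mem_normalizer_iff.1 r'.2 t).1 ht
  by_cases hfix : ∀ t ∈ (T : Subgroup X), t ≠ 1 → r * t * r⁻¹ ≠ t
  · refine (h.hyp fun g hg t ht ht1 hc => ?_).normal_eighteen (by rw [← hNdef, hk])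
    by_contra hgT
    refine hfix t ht ht1 ?_
    have h1 : r * g * t = t * (r * g) := h.comm _ (hsplit g hg hgT) t ht
    have h2 : r * t * g = t * r * g := by
      calc r * t * g = r * (g * t) := by rw [hc]; group
        _ = t * r * g := by rw [← mul_assoc, h1, mul_assoc]
    rw [mul_right_cancel h2, mul_inv_cancel_right]
  push Not at hfix
  obtain ⟨t1, ht1, ht1n, ht1f⟩ := hfix
  let B : Subgroup X :=
    { carrier := {t | t ∈ (T : Subgroup X) ∧ r * t * r⁻¹ = t⁻¹}
      one_mem' := ⟨one_mem _, by group⟩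
      mul_mem' := fun {a b} ha hb => ⟨mul_mem ha.1 hb.1, by
        rw [show r * (a * b) * r⁻¹ = r * a * r⁻¹ * (r * b * r⁻¹) by group, ha.2, hb.2, mul_inv_rev,
          h.comm _ (inv_mem ha.1) _ (inv_mem hb.1)]⟩
      inv_mem' := fun {a} ha => ⟨inv_mem ha.1, by
        rw [show r * a⁻¹ * r⁻¹ = (r * a * r⁻¹)⁻¹ by group, ha.2]⟩ }
  have hBT : B ≤ (T : Subgroup X) := fun t ht => ht.1
  have hBm : ∀ t, t ∈ B ↔ t ∈ (T : Subgroup X) ∧ r * t * r⁻¹ = t⁻¹ := fun t => Iff.rfl
  have hB : Nat.card B = 3 := by
    have hd : Nat.card B ∣ 3 ^ 2 := by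
      have := Subgroup.card_dvd_of_le hBT
      rwa [h.card] at this
    obtain ⟨i, hi, hBi⟩ := (Nat.dvd_prime_pow Nat.prime_three).1 hd
    interval_cases i
    · exfalso
      have hbot := Subgroup.eq_bot_of_card_eq B (by rw [hBi, pow_zero])
      refine hrT ?_
      rw [← h.cent, mem_centralizer_iff]
      intro t ht
      have hw : r * t * r⁻¹ * t⁻¹ ∈ B := (hBm _).2 ⟨mul_mem (hconj t ht) (inv_mem ht), by
        rw [show r * (r * t * r⁻¹ * t⁻¹) * r⁻¹ = r * r * t * r⁻¹ * t⁻¹ * r⁻¹ by group, hr2,
          show (r * t * r⁻¹ * t⁻¹)⁻¹ = t * r * t⁻¹ * r⁻¹ by group, hrinv]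
        group⟩
      rw [hbot, mem_bot, mul_inv_eq_one, mul_inv_eq_iff_eq_mul] at hw
      exact hw.symm
    · rw [hBi, pow_one]
    · exfalso
      have hBe : B = (T : Subgroup X) := Subgroup.eq_of_le_of_card_ge hBT (by rw [hBi, h.card]; norm_num)
      have h1 := ((hBm t1).1 (hBe.ge ht1)).2
      rw [ht1f] at h1
      have h2 := hcube t1 ht1
      rw [mul_eq_one_iff_eq_inv.2 h1, one_mul] at h2
      exact ht1n h2
  have hmove : ∀ b ∈ B, r * b = b⁻¹ * r := fun b hb => mul_inv_eq_iff_eq_mul.1 hb.2
  let K : Subgroup X :=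
    { carrier := {g | g ∈ B ∨ r * g ∈ B}
      one_mem' := Or.inl (one_mem _)
      mul_mem' := fun {a b} ha hb => by
        rcases ha with ha | ha <;> rcases hb with hb | hb
        · exact Or.inl (mul_mem ha hb)
        · exact Or.inr (by rw [← mul_assoc, hmove a ha, mul_assoc]; exact mul_mem (inv_mem ha) hb)
        · exact Or.inr (by rw [← mul_assoc]; exact mul_mem ha hb)
        · refine Or.inl ?_
          have h1 : a * b = r * (r * a) * r * (r * b) := by
            calc a * b = (r * r) * a * (r * r) * b := by rw [hr2, one_mul, mul_one]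
              _ = _ := by group
          rw [h1, hmove _ ha, show (r * a)⁻¹ * r * r * (r * b) = (r * a)⁻¹ * (r * r) * (r * b) by group,
            hr2, mul_one]
          exact mul_mem (inv_mem ha) hb
      inv_mem' := fun {a} ha => by
        rcases ha with ha | ha
        · exact Or.inl (inv_mem ha)
        · refine Or.inr ?_
          have h2 : a = r * (r * a) := by rw [← mul_assoc, hr2, one_mul]
          rw [h2, mul_inv_rev, hrinv, ← mul_assoc, hmove _ (inv_mem ha), inv_inv,
            mul_assoc (r * a) r r, hr2, mul_one]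
          exact ha }
  refine h.normal_of_line hBT (Or.inr hB) ?_ ?_ ?_
  · have hle : pResidual 3 N ≤ K.comap N.subtype := by
      rw [pResidual, Subgroup.closure_le]
      intro g hg
      by_cases hgT : (g : X) ∈ (T : Subgroup X)
      · refine Or.inl ?_
        have h1 : orderOf g ∣ 3 := by
          rw [← Subgroup.orderOf_coe]
          exact orderOf_dvd_of_pow_eq_one (h.exp _ hgT)
        rw [show g = 1 from orderOf_eq_one_iff.1 (Nat.eq_one_of_dvd_coprimes hg dvd_rfl h1)]
        exact one_mem _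
      · refine Or.inr ⟨hsplit g g.2 hgT, ?_⟩
        have h1 : g * g ∈ (T : Subgroup X).subgroupOf N :=
          (Subgroup.mul_mem_iff_of_index_two hidx).2 Iff.rfl
        have h2 : g * g = 1 := by
          refine orderOf_eq_one_iff.1 (Nat.eq_one_of_dvd_coprimes hg (pow_two g ▸ orderOf_pow_dvd 2) ?_)
          rw [← Subgroup.orderOf_coe]
          exact orderOf_dvd_of_pow_eq_one (h.exp _ h1)
        show r * (r * (g : X)) * r⁻¹ = (r * (g : X))⁻¹
        rw [mul_inv_rev, inv_eq_of_mul_eq_one_right (congrArg Subtype.val h2 : (g : X) * g = 1), hrinv,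
          ← mul_assoc, hr2, one_mul]
    rintro g ⟨hg, hgT⟩
    obtain ⟨y, hy, rfl⟩ := hg
    rcases hle hy with h1 | h1
    · exact h1
    · exfalso
      refine hrT ?_
      have h2 := mul_mem (hBT h1) (inv_mem hgT)
      rwa [mul_inv_cancel_right] at h2
  · have hrres : r ∈ pResidual 3 X := Transfer.mem_pResidual_of_coprime (by
      rw [show orderOf r = 2 from (Subgroup.orderOf_coe r').trans hr']; norm_num)
    haveI := Transfer.pResidual_characteristic 3 X
    intro b hb
    have h1 : r * (b * r⁻¹ * b⁻¹) ∈ pResidual 3 X :=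
      mul_mem hrres (Subgroup.Normal.conj_mem inferInstance _ (inv_mem hrres) b)
    rw [show r * (b * r⁻¹ * b⁻¹) = r * b * r⁻¹ * b⁻¹ by group, hb.2] at h1
    have h2 : b⁻¹ * b⁻¹ = b := by
      rw [← mul_inv_rev]
      exact inv_eq_of_mul_eq_one_left (by rw [← mul_assoc, hcube b hb.1])
    rwa [h2] at h1
  · intro g _ hgN hgB hB3
    by_contra hgT
    obtain ⟨b, hb⟩ := exists_prime_orderOf_dvd_card' (G := B) 3 (hB ▸ dvd_rfl)
    have hb1 : (b : X) ≠ 1 := fun e => by
      rw [← Subgroup.orderOf_coe, e, orderOf_one] at hb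
      omega
    have hbT := hBT b.2
    have h1 : r * g * b = b * (r * g) := h.comm _ (hsplit g hgN hgT) _ hbT
    rw [mul_assoc, hgB b b.2, ← mul_assoc, ← mul_assoc, hmove _ b.2] at h1
    have h2 : (b : X)⁻¹ = b := by
      have := mul_right_cancel h1
      exact mul_right_cancel this
    have h3 := hcube _ hbT
    rw [show (b : X) * b = 1 by nth_rw 1 [← h2]; rw [inv_mul_cancel], one_mul] at h3
    exact hb1 h3

/-- The normalizer is a product of two dihedral groups of order six. -/
theorem normal_thirtysix (h : NineHyp T)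
    (hN : Nat.card (normalizer ((T : Subgroup X) : Set X)) = 36)
    (hsq : ∀ g ∈ normalizer ((T : Subgroup X) : Set X), g * g ∈ (T : Subgroup X)) :
    (T : Subgroup X).Normal := by
  rw [← normalizer_eq_top_iff]
  exact Fus.NineFour.normalizer_eq_top
    ⟨⟨⟨fun s t => Subtype.ext (h.comm s s.2 t t.2)⟩⟩, h.exp⟩ h.card h.cent hN hsq h.loc

end NineHyp

end Cfsg.Agent.Recog.SymNine
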