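import Cfsg.Agent.Lib.Recog.SymNine.Mon
import Cfsg.Agent.Lib.Recog.SymNine.Nine

/-!
Centralizers of two independent elements of the core lie in its normalizer.
-/

set_option autoImplicit false
set_option linter.style.haveILetI false
set_option linter.unusedSectionVars false

namespace Cfsg.Agent.Recog.SymNine

open Subgroup

universe u

/-- A subgroup of coprime order of a quotient by a central three-subgroup lifts. -/
theorem lift_split {X : Type u} [Group X] [Finite X] (E : Subgroup X) [E.Normal]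
    (hEc : ∀ z ∈ E, ∀ x : X, z * x = x * z) (hE : IsPGroup 3 E) (K : Subgroup (X ⧸ E))
    (hK : (Nat.card K).Coprime 3) :
    ∃ K0 : Subgroup X, (Nat.card K0).Coprime 3 ∧ K0.map (QuotientGroup.mk' E) = K ∧
      ∀ g : X, QuotientGroup.mk' E g ∈ normalizer (K : Set (X ⧸ E)) →
        K0.map (MulAut.conj g).toMonoidHom = K0 := by
  classical
  haveI : Fact (Nat.Prime 3) := ⟨Nat.prime_three⟩
  set π := QuotientGroup.mk' E with hπdef
  set P0 := K.comap π with hP0
  have hEP : E ≤ P0 := fun z hz => by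
    rw [hP0, mem_comap, hπdef, QuotientGroup.mk'_apply, (QuotientGroup.eq_one_iff z).2 hz]
    exact one_mem K
  have hmap : P0.map π = K :=
    Subgroup.map_comap_eq_self_of_surjective (QuotientGroup.mk'_surjective E) K
  have hidx : ¬ 3 ∣ (E.subgroupOf P0).index := by
    have e : (E.subgroupOf P0).index = Nat.card K := by
      rw [← Subgroup.relIndex, ← hmap, Subgroup.relIndex]
      have h1 : (π.comp P0.subtype).ker = E.subgroupOf P0 := by
        rw [← MonoidHom.comap_ker, hπdef, QuotientGroup.ker_mk']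
        rfl
      rw [← h1, Subgroup.index_ker, MonoidHom.range_comp, Subgroup.range_subtype]
    rw [e, ← Nat.Prime.coprime_iff_not_dvd Nat.prime_three, Nat.coprime_comm]
    exact hK
  let S : Sylow 3 P0 := (show IsPGroup 3 (E.subgroupOf P0) from hE.comap_subtype).toSylow hidx
  have hle : normalizer ((S : Subgroup P0) : Set P0) ≤ centralizer ((S : Subgroup P0) : Set P0) :=
    fun g _ => mem_centralizer_iff.2 fun z hz => Subtype.ext (hEc z hz g)
  have hc := MonoidHom.ker_transferSylow_isComplement' S hle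
  set φ := MonoidHom.transferSylow S hle with hφ
  have hcopK : (Nat.card φ.ker).Coprime 3 := by
    rw [Nat.coprime_comm, Nat.Prime.coprime_iff_not_dvd Nat.prime_three]
    exact MonoidHom.not_dvd_card_ker_transferSylow S hle
  have hmem : ∀ y : P0, (orderOf y).Coprime 3 → y ∈ φ.ker := fun y hy => by
    obtain ⟨k, hk⟩ := IsPGroup.iff_orderOf.1 S.isPGroup' (φ y)
    refine orderOf_eq_one_iff.1 (Nat.eq_one_of_dvd_coprimes (hy.pow_right k) (orderOf_map_dvd φ y) ?_)
    rw [hk]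
  refine ⟨φ.ker.map P0.subtype, by rwa [card_map_of_injective P0.subtype_injective], ?_,
    fun g hg => ?_⟩
  · refine le_antisymm ?_ fun q hq => ?_
    · rintro _ ⟨_, ⟨k, -, rfl⟩, rfl⟩
      exact k.2
    · obtain ⟨x, rfl⟩ := QuotientGroup.mk'_surjective E q
      obtain ⟨⟨k, s⟩, hks⟩ := hc.2 (⟨x, hq⟩ : P0)
      refine ⟨_, ⟨k, k.2, rfl⟩, ?_⟩
      have hs : π ((s : P0) : X) = 1 := by
        rw [hπdef, QuotientGroup.mk'_apply]
        exact (QuotientGroup.eq_one_iff _).2 s.2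
      have h1 : ((k : P0) : X) * ((s : P0) : X) = x := congrArg Subtype.val hks
      rw [← h1, map_mul, hs, mul_one]
      rfl
  · refine Subgroup.eq_of_le_of_card_ge ?_
      (le_of_eq (card_map_of_injective (MulAut.conj g).injective).symm)
    rintro _ ⟨_, ⟨k, hk, rfl⟩, rfl⟩
    have hgk : g * (k : X) * g⁻¹ ∈ P0 := by
      show π _ ∈ K
      rw [map_mul, map_mul, map_inv]
      exact (mem_normalizer_iff.1 hg _).1 k.2
    refine ⟨⟨_, hgk⟩, hmem _ ?_, rfl⟩
    rw [← Subgroup.orderOf_coe]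
    show (orderOf (MulAut.conj g (k : X))).Coprime 3
    rw [MulEquiv.orderOf_eq, Subgroup.orderOf_coe]
    exact hcopK.coprime_dvd_left (φ.ker.orderOf_dvd_natCard hk)

namespace Data

variable {G : Type u} [Group G] [Finite G] (D : Data G)

theorem orb_iff {a : V3} : D.Orb a ↔ a ∈ D.orbit ∨ -a ∈ D.orbit := by
  constructor
  · rintro ⟨n, hn, e | e⟩
    · exact Or.inl (D.mem_orbit.2 ⟨n, hn, D.act_eq e⟩)
    · exact Or.inr (D.mem_orbit.2 ⟨n, hn, D.act_eq (e.trans (D.v_neg a).symm)⟩)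
  · rintro (h | h) <;> obtain ⟨n, hn, e⟩ := D.mem_orbit.1 h <;> refine ⟨n, hn, ?_⟩
    · exact Or.inl (by rw [x, D.act_spec hn, e])
    · exact Or.inr (by rw [x, D.act_spec hn, e, D.v_neg])

theorem mem_cent_v {g : G} {a : V3} :
    g ∈ centralizer ({D.v a} : Set G) ↔ g * D.v a * g⁻¹ = D.v a := by
  rw [mem_centralizer_singleton_iff, mul_inv_eq_iff_eq_mul]

theorem act_fix_of_cent {g : G} {a : V3} (h : g ∈ centralizer ({D.v a} : Set G)) :
    D.act g a = a := D.act_eq (D.mem_cent_v.1 h)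

theorem cent_orb_le {a : V3} (ho : D.Orb a) : centralizer ({D.v a} : Set G) ≤ D.N := by
  obtain ⟨n, hn, h⟩ := ho
  intro g hg
  rw [mem_centralizer_singleton_iff] at hg
  have hgx : g * (n * D.x * n⁻¹) = n * D.x * n⁻¹ * g := by
    rcases h with e | e <;> rw [e]
    exacts [hg, (Commute.inv_right hg).eq]
  have h2 : n⁻¹ * g * n ∈ D.N := D.cent_x_le (mem_centralizer_singleton_iff.2 (by
    calc n⁻¹ * g * n * D.x = n⁻¹ * (g * (n * D.x * n⁻¹)) * n := by group
      _ = _ := by rw [hgx]; group))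
  have h3 := mul_mem (mul_mem hn h2) (inv_mem hn)
  simpa [mul_assoc] using h3

/-- Outside the orbit, an element of the normalizer whose cube acts trivially lies in the core. -/
theorem mem_J_of_cube {a : V3} (ha : a ≠ 0) (ho : ¬ D.Orb a) {g : G} (hgN : g ∈ D.N)
    (hga : g ∈ centralizer ({D.v a} : Set G))
    (h3 : ∀ b, D.act g (D.act g (D.act g b)) = b) : g ∈ D.J := by
  haveI : Fact (Nat.Prime 3) := ⟨Nat.prime_three⟩
  have hg3 : g * g * g ∈ D.J := (D.act_J_iff (mul_mem (mul_mem hgN hgN) hgN)).2 fun b => by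
    rw [D.act_mul (mul_mem hgN hgN) hgN, D.act_mul hgN hgN, h3]
  have hp : IsPGroup 3 (zpowers g) := by
    obtain ⟨b, hb⟩ := D.mem_J.1 hg3
    obtain ⟨k, -, hk⟩ := (Nat.dvd_prime_pow Nat.prime_three).1 (show orderOf g ∣ 3 ^ 2 from
      orderOf_dvd_of_pow_eq_one (by
        rw [show 3 ^ 2 = 3 * 3 by norm_num, pow_mul, pow_three' g, ← hb, pow_three', D.cube]))
    exact IsPGroup.of_card (n := k) (by rw [Nat.card_zpowers, hk])
  have hQ : IsPGroup 3 (D.J ⊔ zpowers g : Subgroup G) :=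
    D.isPGroup_J.to_sup_of_normal_left' hp (zpowers_le.2 hgN)
  have h := D.eq_J_of_le ha ho hQ le_sup_left (sup_le (D.J_le_cent_v a) (zpowers_le.2 hga))
  exact h.le ((le_sup_right : zpowers g ≤ D.J ⊔ zpowers g) (mem_zpowers g))

/-- A map fixing a subgroup and trivial modulo it has trivial cube. -/
theorem cube_of_unipotent {g : G} (hgN : g ∈ D.N) {S : Set V3} (hfix : ∀ b ∈ S, D.act g b = b)
    (hd : ∀ b, ∃ d ∈ S, D.act g b = b + d) : ∀ b, D.act g (D.act g (D.act g b)) = b := fun b => by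
  obtain ⟨d, hdS, hb⟩ := hd b
  rw [hb, D.act_add hgN, hb, hfix d hdS, D.act_add hgN, D.act_add hgN, hb, hfix d hdS]
  funext i
  simp only [Pi.add_apply]
  have h3 : (3 : ZMod 3) = 0 := by decide
  linear_combination (d i) * h3

/-- The subgroup spanned by two elements of the core. -/
def span2 (a b : V3) : Subgroup G where
  carrier := {g | ∃ i j : ZMod 3, g = D.v (i • a + j • b)}
  one_mem' := ⟨0, 0, by simp [D.v_zero]⟩
  mul_mem' := by
    rintro _ _ ⟨i, j, rfl⟩ ⟨i', j', rfl⟩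
    exact ⟨i + i', j + j', by rw [← D.v_add, add_smul, add_smul]; congr 1; abel⟩
  inv_mem' := by
    rintro _ ⟨i, j, rfl⟩
    exact ⟨-i, -j, by rw [← D.v_neg, neg_smul, neg_smul]; congr 1; abel⟩

theorem span2_le (a b : V3) : D.span2 a b ≤ D.J := by
  rintro _ ⟨i, j, rfl⟩
  exact D.v_mem _

theorem card_span2 {a b : V3} (hab : ∀ i j : ZMod 3, i • a + j • b = 0 → i = 0 ∧ j = 0) :
    Nat.card (D.span2 a b) = 9 := by
  let f : ZMod 3 × ZMod 3 → D.span2 a b := fun p => ⟨D.v (p.1 • a + p.2 • b), p.1, p.2, rfl⟩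
  have hf : Function.Bijective f := by
    refine ⟨fun p q h => ?_, ?_⟩
    · have h1 := D.v_inj (congrArg Subtype.val h)
      obtain ⟨h2, h3⟩ := hab (p.1 - q.1) (p.2 - q.2) (by
        rw [sub_smul, sub_smul, ← sub_eq_zero.2 h1]
        abel)
      exact Prod.ext (sub_eq_zero.1 h2) (sub_eq_zero.1 h3)
    · rintro ⟨g, i, j, rfl⟩
      exact ⟨(i, j), rfl⟩
  rw [← Nat.card_eq_of_bijective f hf, Nat.card_prod, Nat.card_zmod]

theorem span2_central (a b : V3) {g : G} (hga : g ∈ centralizer ({D.v a} : Set G))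
    (hgb : g ∈ centralizer ({D.v b} : Set G)) {y : G} (hy : y ∈ D.span2 a b) : y * g = g * y := by
  obtain ⟨i, j, rfl⟩ := hy
  rw [mem_centralizer_singleton_iff] at hga hgb
  have h : ∀ (k : ZMod 3) (c : V3), g * D.v c = D.v c * g → Commute (D.v (k • c)) g := by
    intro k c hc
    have hk : k = 0 ∨ k = 1 ∨ k = -1 := by revert k; decide
    rcases hk with rfl | rfl | rfl
    · rw [zero_smul, D.v_zero]; exact Commute.one_left g
    · rw [one_smul]; exact hc.symm
    · rw [neg_one_smul, D.v_neg]; exact (Commute.inv_left hc.symm)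
  rw [D.v_add]
  exact ((h i a hga).mul_left (h j b hgb)).eq

/-- A subgroup of order prime to three of the quotient, normalized by the core, is trivial. -/
theorem quot_sig {Y : Subgroup G} (hJY : D.J ≤ Y) (E : Subgroup Y) [E.Normal]
    (hEc : ∀ z ∈ E, ∀ y : Y, z * y = y * z) (hE : IsPGroup 3 E) (K : Subgroup (Y ⧸ E))
    (hK : (Nat.card K).Coprime 3)
    (hn : (D.J.subgroupOf Y).map (QuotientGroup.mk' E) ≤ normalizer (K : Set (Y ⧸ E))) :
    K = ⊥ := by
  obtain ⟨K0, hc, hmap, hinv⟩ := lift_split E hEc hE K hK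
  have hbot : K0.map Y.subtype = ⊥ := by
    refine D.sig _ (by rwa [card_map_of_injective Y.subtype_injective]) fun a => ?_
    have hj : (⟨D.j a, hJY ⟨a, rfl⟩⟩ : Y) ∈ D.J.subgroupOf Y := ⟨a, rfl⟩
    conv_rhs => rw [← hinv _ (hn ⟨_, hj, rfl⟩)]
    rw [Subgroup.map_map, Subgroup.map_map]
    rfl
  rw [map_eq_bot_iff_of_injective _ Y.subtype_injective] at hbot
  rw [← hmap, hbot, Subgroup.map_bot]

/-- Elements whose image centralizes the image of the core. -/
theorem mem_J_of_quot {a : V3} (ha : a ≠ 0) (ho : ¬ D.Orb a) {g : G}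
    (hga : g ∈ centralizer ({D.v a} : Set G)) {E : Subgroup G} (hEJ : E ≤ D.J)
    (hEg : ∀ y ∈ E, y * g = g * y)
    (h : ∀ b, g * D.v b * g⁻¹ * (D.v b)⁻¹ ∈ E) : g ∈ D.J := by
  have hgN : g ∈ D.N := mem_normalizer_fintype fun y hy => by
    obtain ⟨b, rfl⟩ := D.mem_J.1 hy
    have := mul_mem (hEJ (h b)) (D.v_mem b)
    rwa [inv_mul_cancel_right] at this
  refine D.mem_J_of_cube ha ho hgN hga (D.cube_of_unipotent hgN (S := {d | D.v d ∈ E}) ?_ ?_)
  · exact fun d hd => D.act_eq (by rw [← hEg _ hd, mul_inv_cancel_right])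
  · intro b
    obtain ⟨d, hd⟩ := D.mem_J.1 (hEJ (h b))
    refine ⟨d, show D.v d ∈ E from hd ▸ h b, D.act_eq ?_⟩
    rw [add_comm, D.v_add, hd, inv_mul_cancel_right]

/-- Two independent elements of the core. -/
theorem cent_two_le {a b : V3} (hab : ∀ i j : ZMod 3, i • a + j • b = 0 → i = 0 ∧ j = 0) :
    centralizer ({D.v a} : Set G) ⊓ centralizer ({D.v b} : Set G) ≤ D.N := by
  classical
  haveI : Fact (Nat.Prime 3) := ⟨Nat.prime_three⟩
  set Y := centralizer ({D.v a} : Set G) ⊓ centralizer ({D.v b} : Set G) with hY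
  have hcentral : ∀ y ∈ D.span2 a b, ∀ g ∈ Y, y * g = g * y :=
    fun y hy g hg => D.span2_central a b hg.1 hg.2 hy
  by_cases horb : ∃ i j : ZMod 3, D.Orb (i • a + j • b)
  · obtain ⟨i, j, ho⟩ := horb
    intro g hg
    exact D.cent_orb_le ho (mem_centralizer_singleton_iff.2 (hcentral _ ⟨i, j, rfl⟩ g hg).symm)
  push Not at horb
  have ha : a ≠ 0 := fun e => one_ne_zero (hab 1 0 (by simp [e])).1
  have hoa : ¬ D.Orb a := by simpa using horb 1 0
  have hJY : D.J ≤ Y := le_inf (D.J_le_cent_v a) (D.J_le_cent_v b)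
  have hEJ := D.span2_le a b
  set E := (D.span2 a b).subgroupOf Y with hEdef
  have hEc : ∀ z ∈ E, ∀ y : Y, z * y = y * z := fun z hz y =>
    Subtype.ext (hcentral _ hz y y.2)
  haveI : E.Normal := ⟨fun z hz y => by
    rw [← hEc z hz y, mul_inv_cancel_right]; exact hz⟩
  have hEp : IsPGroup 3 E := (D.isPGroup_J.to_le hEJ).comap_subtype
  set π := QuotientGroup.mk' E with hπ
  set B := (D.J.subgroupOf Y).map π with hBdef
  have hpre : ∀ g : Y, π g ∈ B → (g : G) ∈ D.J := by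
    rintro g ⟨y, hy, he⟩
    have h1 : y⁻¹ * g ∈ E := (QuotientGroup.eq).1 he
    have h2 : ((y⁻¹ * g : Y) : G) ∈ D.J := hEJ h1
    simpa using mul_mem (show (y : G) ∈ D.J from hy) h2
  have hB3 : Nat.card B = 3 := by
    set f := π.comp (D.J.subgroupOf Y).subtype
    have hr : B = f.range := by rw [MonoidHom.range_comp, Subgroup.range_subtype]
    have hle : E ≤ D.J.subgroupOf Y := fun z hz => hEJ hz
    have hk : Nat.card f.ker = 9 := by
      rw [show f.ker = E.subgroupOf (D.J.subgroupOf Y) by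
        rw [← MonoidHom.comap_ker, hπ, QuotientGroup.ker_mk']; rfl,
        Nat.card_congr (subgroupOfEquivOfLe hle).toEquiv, hEdef,
        Nat.card_congr (subgroupOfEquivOfLe (hEJ.trans hJY)).toEquiv, D.card_span2 hab]
    have := f.ker.index_mul_card
    rw [hk, Subgroup.index_ker, Nat.card_congr (subgroupOfEquivOfLe hJY).toEquiv, D.card_J] at this
    rw [hr]
    omega
  have hn := normal_of_self_cent (M := (⊤ : Subgroup (Y ⧸ E))) (A := B) (B := B)
    (IsPGroup.of_card (n := 1) (by rw [hB3, pow_one])) le_top hB3 ?_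
    (fun K _ hK hK' => D.quot_sig hJY E hEc hEp K hK hK')
  · haveI hBn : B.Normal := ⟨fun q hq r => hn.conj_mem ⟨q, mem_top q⟩ hq ⟨r, mem_top r⟩⟩
    intro g hg
    refine mem_normalizer_fintype fun y hy => ?_
    have h1 : π (⟨g, hg⟩ * ⟨y, hJY hy⟩ * (⟨g, hg⟩ : Y)⁻¹) ∈ B := by
      rw [map_mul, map_mul, map_inv]
      exact hBn.conj_mem _ ⟨_, hy, rfl⟩ _
    exact hpre _ h1
  · intro q _ hc
    obtain ⟨g, rfl⟩ := QuotientGroup.mk'_surjective E q
    refine ⟨g, ?_, rfl⟩
    refine D.mem_J_of_quot ha hoa g.2.1 hEJ (fun y hy => hcentral y hy g g.2) fun c => ?_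
    have h1 : π (g * ⟨D.v c, hJY (D.v_mem c)⟩ * g⁻¹ * (⟨D.v c, hJY (D.v_mem c)⟩ : Y)⁻¹) = 1 := by
      rw [map_mul, map_mul, map_mul, map_inv, map_inv,
        show π g * π ⟨D.v c, hJY (D.v_mem c)⟩ = π ⟨D.v c, hJY (D.v_mem c)⟩ * π g from
          hc _ ⟨_, D.v_mem c, rfl⟩]
      group
    have h2 : g * ⟨D.v c, hJY (D.v_mem c)⟩ * g⁻¹ * (⟨D.v c, hJY (D.v_mem c)⟩ : Y)⁻¹ ∈ E :=
      (QuotientGroup.eq_one_iff _).1 h1
    exact h2

end Data

end Cfsg.Agent.Recog.SymNine
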