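import Cfsg.Agent.Lib.Recog.SymNine.Mon

/-!
Stabilizers of vectors in the monomial groups.
-/

set_option autoImplicit false
set_option synthInstance.maxSize 4096
set_option maxRecDepth 100000

namespace Cfsg.Agent.Recog.SymNine

/-- The monomial maps with signs in a given set fixing a vector. -/
def stab (E : Finset V3) (a : V3) : Finset (V3 × S3) :=
  (E ×ˢ Finset.univ).filter fun p => mon p.1 p.2 a = a

/-- Codes of the six permutations. -/
def pc : Fin 6 → S3 := ![1, cyc, cyc * cyc, tr, tr * cyc, tr * (cyc * cyc)]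

/-- Triples. -/
abbrev T3 := Fin 3 × Fin 3 × Fin 3

/-- The vector of a triple. -/
def toV (t : T3) : V3 := ![(t.1 : ZMod 3), (t.2.1 : ZMod 3), (t.2.2 : ZMod 3)]

/-- A permutation code acting on triples. -/
def pa (k : Fin 6) : T3 → T3
  | (x, y, z) =>
    match k with
    | 0 => (x, y, z)
    | 1 => (z, x, y)
    | 2 => (y, z, x)
    | 3 => (x, z, y)
    | 4 => (z, y, x)
    | 5 => (y, x, z)

/-- Componentwise product. -/
def tmul (s t : T3) : T3 := (s.1 * t.1, s.2.1 * t.2.1, s.2.2 * t.2.2)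

/-- Componentwise negation. -/
def tneg (t : T3) : T3 := (-t.1, -t.2.1, -t.2.2)

/-- The four sign groups on triples. -/
def signGroups : List (List T3) :=
  [[(1, 1, 1)], [(1, 1, 1), (2, 2, 2)], [(1, 1, 1), (1, 2, 2), (2, 1, 2), (2, 2, 1)],
    [(1, 1, 1), (1, 1, 2), (1, 2, 1), (1, 2, 2), (2, 1, 1), (2, 1, 2), (2, 2, 1), (2, 2, 2)]]

/-- All triples. -/
def allT : List T3 :=
  (List.finRange 3).flatMap fun x => (List.finRange 3).flatMap fun y =>
    (List.finRange 3).map fun z => (x, y, z)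

/-- The stabilizer on codes. -/
def stabT (E : List T3) (a : T3) : List (T3 × Fin 6) :=
  (E.flatMap fun e => (List.finRange 6).map fun k => (e, k)).filter fun p => tmul p.1 (pa p.2 a) == a

/-- The axes. -/
def axesT : List T3 := [(1, 0, 0), (0, 1, 0), (0, 0, 1), (2, 0, 0), (0, 2, 0), (0, 0, 2)]

/-- The check for one sign group and one triple. -/
def checkT (E : List T3) (a : T3) : Bool :=
  a == (0, 0, 0) || E.contains a || E.contains (tneg a) ||
    (let l := stabT E a
     decide (l.length ≤ 2) ||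
       (l.length == 4 && l.all fun p => tmul p.1 (pa p.2 p.1) == (1, 1, 1) &&
          pa p.2 (pa p.2 (0, 1, 2)) == (0, 1, 2)) ||
       (E.length == 8 && axesT.contains a))

theorem checkT_all : (signGroups.all fun E => allT.all fun a => checkT E a) = true := by
  decide +kernel

theorem code_facts : Function.Injective pc ∧ (∀ σ : S3, ∃ k, pc k = σ) ∧
    (∀ k, ∀ t : T3, ∀ i, toV t ((pc k)⁻¹ i) = toV (pa k t) i) ∧
    (∀ k, pa k (pa k (0, 1, 2)) = (0, 1, 2) → pc k * pc k = 1) ∧
    (∀ t : T3, t ∈ allT) := by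
  decide +kernel

theorem toV_facts : Function.Injective toV ∧ (∀ a : V3, ∃ t, toV t = a) ∧
    (∀ s t : T3, ∀ i, toV (tmul s t) i = toV s i * toV t i) ∧
    (∀ t : T3, ∀ i, toV (tneg t) i = -toV t i) := by
  decide +kernel

theorem group_facts :
    (({one3} : Finset V3) = ([(1, 1, 1)] : List T3).toFinset.image toV) ∧
    (({one3, -one3} : Finset V3) = ([(1, 1, 1), (2, 2, 2)] : List T3).toFinset.image toV) ∧
    (evens = ([(1, 1, 1), (1, 2, 2), (2, 1, 2), (2, 2, 1)] : List T3).toFinset.image toV) ∧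
    (cubeL.toFinset = ([(1, 1, 1), (1, 1, 2), (1, 2, 1), (1, 2, 2), (2, 1, 1), (2, 1, 2), (2, 2, 1),
      (2, 2, 2)] : List T3).toFinset.image toV) ∧
    (∀ E ∈ signGroups, E.Nodup) := by
  decide +kernel

theorem axes_facts : ∀ t ∈ axesT,
    ∃ i : Fin 3, toV t = Pi.single i 1 ∨ toV t = -Pi.single i 1 := by decide +kernel

theorem stab_cases : ∀ E ∈ [({one3} : Finset V3), {one3, -one3}, evens, cubeL.toFinset],
    ∀ a : V3, a ≠ 0 → a ∉ E → -a ∉ E →
      (stab E a).card ≤ 2 ∨
      ((stab E a).card = 4 ∧ ∀ p ∈ stab E a, p.1 * pm p.2 p.1 = one3 ∧ p.2 * p.2 = 1) ∨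
      (E = cubeL.toFinset ∧ ∃ i : Fin 3, a = Pi.single i 1 ∨ a = -Pi.single i 1) := by
  intro E hE a ha h1 h2
  obtain ⟨hinj, hsurj, hpa, hsq, hall⟩ := code_facts
  obtain ⟨hvinj, hvsurj, hvmul, hvneg⟩ := toV_facts
  obtain ⟨g1, g2, g3, g4, hnd⟩ := group_facts
  obtain ⟨L, hL, rfl, hlen⟩ : ∃ L ∈ signGroups, E = L.toFinset.image toV ∧
      (L.length = 8 → E = cubeL.toFinset) := by
    simp only [List.mem_cons, List.not_mem_nil, or_false] at hE
    rcases hE with rfl | rfl | rfl | rfl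
    · exact ⟨_, by simp [signGroups], g1, fun h => by simp at h⟩
    · exact ⟨_, by simp [signGroups], g2, fun h => by simp at h⟩
    · exact ⟨_, by simp [signGroups], g3, fun h => by simp at h⟩
    · exact ⟨_, by simp [signGroups], g4, fun _ => rfl⟩
  obtain ⟨t, rfl⟩ := hvsurj a
  have hmem : ∀ s, s ∈ L → toV s ∈ L.toFinset.image toV := fun s hs =>
    Finset.mem_image_of_mem _ (List.mem_toFinset.2 hs)
  have hneg : toV (tneg t) = -toV t := funext (hvneg t)
  have hst : stab (L.toFinset.image toV) (toV t) =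
      (stabT L t).toFinset.image fun p => (toV p.1, pc p.2) := by
    ext ⟨e, σ⟩
    simp only [stab, stabT, Finset.mem_filter, Finset.mem_product, Finset.mem_univ, and_true,
      Finset.mem_image, List.mem_toFinset, List.mem_filter, List.mem_flatMap, List.mem_map,
      List.mem_finRange, true_and, beq_iff_eq, Prod.mk.injEq]
    constructor
    · rintro ⟨⟨s, hs, rfl⟩, h⟩
      obtain ⟨k, rfl⟩ := hsurj σ
      refine ⟨(s, k), ⟨by simpa using hs, hvinj (funext fun i => ?_)⟩, rfl, rfl⟩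
      rw [hvmul, ← hpa]
      exact congrFun h i
    · rintro ⟨⟨s, k⟩, ⟨hs', h⟩, rfl, rfl⟩
      refine ⟨⟨_, by simpa using hs', rfl⟩, funext fun i => ?_⟩
      show toV s i * toV t ((pc k)⁻¹ i) = toV t i
      rw [hpa, ← hvmul, h]
  have hndT : (stabT L t).Nodup := by
    refine List.Nodup.filter _ ?_
    refine List.nodup_flatMap.2 ⟨fun e _ => (List.nodup_finRange 6).map fun k k' h => (Prod.mk.inj h).2,
      (hnd L hL).imp fun {x y} hxy => ?_⟩
    intro p hp hp'
    obtain ⟨k, -, rfl⟩ := List.mem_map.1 hp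
    obtain ⟨k', -, he⟩ := List.mem_map.1 hp'
    exact hxy (Prod.mk.inj he).1.symm
  have hcard : (stab (L.toFinset.image toV) (toV t)).card = (stabT L t).length := by
    rw [hst, Finset.card_image_of_injective _ (fun p q h =>
      Prod.ext (hvinj (Prod.mk.inj h).1) (hinj (Prod.mk.inj h).2)), List.toFinset_card_of_nodup hndT]
  have hchk := checkT_all
  rw [List.all_eq_true] at hchk
  have hc := hchk L hL
  rw [List.all_eq_true] at hc
  have := hc t (hall t)
  simp only [checkT, Bool.or_eq_true, Bool.and_eq_true, beq_iff_eq, decide_eq_true_eq,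
    List.contains_iff_mem] at this
  rcases this with ((h | h) | h) | ((h | ⟨h4, hs⟩) | ⟨h8, hax⟩)
  · exact absurd (h ▸ (by decide +kernel : toV (0, 0, 0) = 0)) ha
  · exact absurd (hmem _ h) h1
  · exact absurd (hneg ▸ hmem _ h) h2
  · exact Or.inl (hcard ▸ h)
  · refine Or.inr (Or.inl ⟨hcard.trans h4, fun p hp => ?_⟩)
    rw [hst, Finset.mem_image] at hp
    obtain ⟨⟨e, k⟩, hq, rfl⟩ := hp
    rw [List.all_eq_true] at hs
    have h' := hs _ (List.mem_toFinset.1 hq)
    simp only [Bool.and_eq_true, beq_iff_eq] at h'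
    refine ⟨funext fun i => ?_, hsq k h'.2⟩
    show toV e i * toV e ((pc k)⁻¹ i) = one3 i
    rw [hpa, ← hvmul, h'.1]
    exact (show ∀ i, toV (1, 1, 1) i = one3 i by decide +kernel) i
  · exact Or.inr (Or.inr ⟨hlen h8, axes_facts t hax⟩)

/-- The product of monomial maps on codes. -/
def pmul (p q : V3 × S3) : V3 × S3 := (p.1 * pm p.2 q.1, p.2 * q.2)

/-- The dihedral stabilizer of the first axis. -/
def dih0 : DihedralGroup 4 → V3 × S3
  | .r k => (![(one3, 1), (![1, 1, -1], tr), (![1, -1, -1], 1), (![1, -1, 1], tr)] : Fin 4 → V3 × S3)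
      ⟨k.val, ZMod.val_lt k⟩
  | .sr k => pmul (one3, tr)
      ((![(one3, 1), (![1, 1, -1], tr), (![1, -1, -1], 1), (![1, -1, 1], tr)] : Fin 4 → V3 × S3)
        ⟨k.val, ZMod.val_lt k⟩)

/-- The dihedral stabilizer of an axis. -/
def dih (i : Fin 3) (d : DihedralGroup 4) : V3 × S3 :=
  (pm (cyc ^ (i : ℕ)) (dih0 d).1, cyc ^ (i : ℕ) * (dih0 d).2 * (cyc ^ (i : ℕ))⁻¹)

theorem dih_facts : ∀ i : Fin 3, (∀ d d', dih i (d * d') = pmul (dih i d) (dih i d')) ∧
    (∀ d d', dih i d = dih i d' → d = d') ∧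
    stab cubeL.toFinset (Pi.single i 1) = Finset.univ.image (dih i) ∧
    dih i 1 = (one3, 1) := by decide +kernel

end Cfsg.Agent.Recog.SymNine
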