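import Cfsg.Agent.S3333
import Cfsg.Agent.Lib.Recog.SymNine.RankTwo
import Cfsg.Agent.Lib.Recog.SymNine.StabData

/-!
The centralizer of an element of the core lies in the normalizer, or, in the full monomial case with
an element of weight one, is three times the symmetric group of degree six.
-/

set_option autoImplicit false
set_option linter.style.haveILetI false
set_option linter.unusedSectionVars false
set_option synthInstance.maxSize 4096
set_option maxRecDepth 100000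

namespace Cfsg.Agent.Recog.SymNine

open Subgroup

universe u

theorem zmod3_facts : (∀ j : ZMod 3, j ≠ 0 → j * j = 1) ∧
    ∀ j : ZMod 3, j = 0 ∨ j = 1 ∨ j = -1 := by decide

theorem mon_pmul (p q : V3 × S3) (a : V3) :
    mon p.1 p.2 (mon q.1 q.2 a) = mon (pmul p q).1 (pmul p q).2 a := mon_comp _ _ _ _ a

namespace Data

variable {G : Type u} [Group G] [Finite G] (D : Data G)

/-- The centralizer of an element of the core. -/
abbrev Cv (a : V3) : Subgroup G := centralizer ({D.v a} : Set G)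

/-- The line inside the centralizer. -/
def Zv (a : V3) : Subgroup (D.Cv a) where
  carrier := {g | ∃ k : ZMod 3, (g : G) = D.v (k • a)}
  one_mem' := ⟨0, by simp [D.v_zero]⟩
  mul_mem' := fun {g h} ⟨i, hi⟩ ⟨j, hj⟩ =>
    ⟨i + j, by rw [Subgroup.coe_mul, hi, hj, ← D.v_add, add_smul]⟩
  inv_mem' := fun {g} ⟨i, hi⟩ => ⟨-i, by rw [InvMemClass.coe_inv, hi, ← D.v_neg, neg_smul]⟩

theorem smul_cases (k : ZMod 3) (a : V3) : k • a = 0 ∨ k • a = a ∨ k • a = -a := by
  have hk : k = 0 ∨ k = 1 ∨ k = -1 := by revert k; decide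
  rcases hk with rfl | rfl | rfl
  exacts [Or.inl (zero_smul _ a), Or.inr (Or.inl (one_smul _ a)), Or.inr (Or.inr (neg_one_smul _ a))]

theorem Zv_central (a : V3) : ∀ z ∈ D.Zv a, ∀ g : D.Cv a, z * g = g * z := by
  rintro z ⟨k, hk⟩ g
  refine Subtype.ext ?_
  have hg : Commute (g : G) (D.v a) := mem_centralizer_singleton_iff.1 g.2
  rw [Subgroup.coe_mul, Subgroup.coe_mul, hk]
  rcases smul_cases k a with e | e | e <;> rw [e]
  · rw [D.v_zero, one_mul, mul_one]
  · exact hg.eq.symm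
  · rw [D.v_neg]; exact hg.inv_right.eq.symm

instance (a : V3) : (D.Zv a).Normal :=
  ⟨fun z hz g => by rw [← D.Zv_central a z hz g, mul_inv_cancel_right]; exact hz⟩

theorem Zv_le (a : V3) {g : D.Cv a} (hg : g ∈ D.Zv a) : (g : G) ∈ D.J := by
  obtain ⟨k, hk⟩ := hg
  exact hk ▸ D.v_mem _

/-- The image of the core in the quotient of the centralizer. -/
noncomputable def Tq (a : V3) : Subgroup (D.Cv a ⧸ D.Zv a) :=
  (D.J.subgroupOf (D.Cv a)).map (QuotientGroup.mk' (D.Zv a))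

theorem Tq_iff (a : V3) (g : D.Cv a) :
    QuotientGroup.mk' (D.Zv a) g ∈ D.Tq a ↔ (g : G) ∈ D.J := by
  refine ⟨?_, fun h => ⟨g, h, rfl⟩⟩
  rintro ⟨y, hy, he⟩
  have h1 : y⁻¹ * g ∈ D.Zv a := (QuotientGroup.eq).1 he
  simpa using mul_mem (show (y : G) ∈ D.J from hy) (D.Zv_le a h1)

theorem Tq_normalizer (a : V3) (g : D.Cv a) :
    QuotientGroup.mk' (D.Zv a) g ∈ normalizer (D.Tq a : Set (D.Cv a ⧸ D.Zv a)) ↔ (g : G) ∈ D.N := by
  constructor
  · intro h
    refine mem_normalizer_fintype fun y hy => ?_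
    have h1 := (mem_normalizer_iff.1 h _).1 ((D.Tq_iff a ⟨y, D.J_le_cent_v a hy⟩).2 hy)
    rw [← map_inv, ← map_mul, ← map_mul, D.Tq_iff] at h1
    exact h1
  · intro h
    refine mem_normalizer_fintype ?_
    rintro q ⟨y, hy, rfl⟩
    rw [SetLike.mem_coe, ← map_inv, ← map_mul, ← map_mul, D.Tq_iff]
    exact (mem_normalizer_iff.1 h _).1 hy

/-- Cosets commuting in the quotient of the centralizer. -/
theorem quot_commute_le {a b : V3} (ha : a ≠ 0) (ho : ¬ D.Orb a)
    (hb : ∀ k : ZMod 3, b ≠ k • a) {g : D.Cv a} {k : ZMod 3}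
    (hk : (g : G) * D.v b * (g : G)⁻¹ = D.v (b + k • a)) : (g : G) ∈ D.N := by
  haveI : Fact (Nat.Prime 3) := ⟨Nat.prime_three⟩
  have hab : ∀ i j : ZMod 3, i • a + j • b = 0 → i = 0 ∧ j = 0 := by
    intro i j h
    by_cases hj : j = 0
    · subst hj
      rw [zero_smul, add_zero, smul_eq_zero] at h
      exact ⟨h.resolve_right ha, rfl⟩
    · exfalso
      refine hb (-(j * i)) ?_
      have h1 : j • (i • a + j • b) = 0 := by rw [h, smul_zero]
      rw [smul_add, smul_smul, smul_smul,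
        zmod3_facts.1 j hj, one_smul] at h1
      rw [neg_smul]
      exact eq_neg_of_add_eq_zero_right h1
  by_cases hk0 : k = 0
  · subst hk0
    rw [zero_smul, add_zero] at hk
    exact D.cent_two_le hab ⟨g.2, D.mem_cent_v.2 hk⟩
  exfalso
  have hga : ∀ c : ZMod 3, (g : G) * D.v (c • a) * (g : G)⁻¹ = D.v (c • a) := fun c => by
    have hg : Commute (g : G) (D.v a) := mem_centralizer_singleton_iff.1 g.2
    rcases smul_cases c a with e | e | e <;> rw [e]
    · rw [D.v_zero, mul_one, mul_inv_cancel]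
    · rw [hg.eq, mul_inv_cancel_right]
    · rw [D.v_neg, hg.inv_right.eq, mul_inv_cancel_right]
  have hpow : ∀ (r : ℕ) (i j : ZMod 3), (g : G) ^ r * D.v (i • a + j • b) * ((g : G) ^ r)⁻¹ =
      D.v ((i + j * k * r) • a + j • b) := by
    intro r
    induction r with
    | zero => intro i j; simp
    | succ r ih =>
      intro i j
      have h1 : (g : G) * D.v (i • a + j • b) * (g : G)⁻¹ = D.v ((i + j * k) • a + j • b) := by
        rw [D.v_add, show (g : G) * (D.v (i • a) * D.v (j • b)) * (g : G)⁻¹ =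
          (g : G) * D.v (i • a) * (g : G)⁻¹ * ((g : G) * D.v (j • b) * (g : G)⁻¹) by group, hga]
        have hj' := zmod3_facts.2 j
        rcases hj' with rfl | rfl | rfl
        · simp [D.v_zero]
        · rw [one_smul, hk, ← D.v_add, one_mul, add_smul]
          congr 1; abel
        · rw [neg_one_smul, D.v_neg, show (g : G) * (D.v b)⁻¹ * (g : G)⁻¹ =
            ((g : G) * D.v b * (g : G)⁻¹)⁻¹ by group, hk, ← D.v_neg, ← D.v_add, add_smul,
            show (-1 : ZMod 3) * k = -k by ring, neg_smul]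
          congr 1; abel
      rw [pow_succ, show (g : G) ^ r * g * D.v (i • a + j • b) * ((g : G) ^ r * g)⁻¹ =
        (g : G) ^ r * ((g : G) * D.v (i • a + j • b) * (g : G)⁻¹) * ((g : G) ^ r)⁻¹ by group, h1, ih]
      congr 2
      push_cast
      ring
  obtain ⟨s, m, hm3, hn⟩ := Nat.exists_eq_pow_mul_and_not_dvd (orderOf_pos (g : G)).ne' 3 (by norm_num)
  set g3 := (g : G) ^ m with hg3
  have hp : IsPGroup 3 (zpowers g3) := by
    obtain ⟨t, -, ht⟩ := (Nat.dvd_prime_pow Nat.prime_three).1 (show orderOf g3 ∣ 3 ^ s from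
      orderOf_dvd_of_pow_eq_one (by rw [hg3, ← pow_mul, mul_comm m, ← hn, pow_orderOf_eq_one]))
    exact IsPGroup.of_card (n := t) (by rw [Nat.card_zpowers, ht])
  have hnorm : zpowers g3 ≤ normalizer (D.span2 a b : Set G) := zpowers_le.2
    (mem_normalizer_fintype fun y hy => by
      obtain ⟨i, j, rfl⟩ := hy
      exact ⟨_, _, hpow m i j⟩)
  have hQ : IsPGroup 3 (D.span2 a b ⊔ zpowers g3 : Subgroup G) :=
    (D.isPGroup_J.to_le (D.span2_le a b)).to_sup_of_normal_left' hp hnorm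
  obtain ⟨c, -, hcJ⟩ := D.conj_into_J ha ho (D.J_le_cent_v a) le_rfl hQ
    (sup_le ((D.span2_le a b).trans (D.J_le_cent_v a)) (zpowers_le.2 (pow_mem g.2 m)))
  have hbQ : D.v b ∈ D.span2 a b ⊔ zpowers g3 :=
    (le_sup_left : D.span2 a b ≤ _) ⟨0, 1, by rw [zero_smul, zero_add, one_smul]⟩
  have hcomm : g3 * D.v b = D.v b * g3 := by
    have h := D.J_comm (hcJ g3 ((le_sup_right : zpowers g3 ≤ _) (mem_zpowers g3))) (hcJ _ hbQ)
    calc g3 * D.v b = c⁻¹ * (c * g3 * c⁻¹ * (c * D.v b * c⁻¹)) * c := by group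
      _ = _ := by rw [h]; group
  have h1 := hpow m 0 1
  rw [zero_smul, zero_add, one_smul, ← hg3, hcomm, mul_inv_cancel_right, zero_add, one_mul] at h1
  have h2 : (k * (m : ZMod 3)) • a = 0 := by
    have h3 := D.v_inj h1
    exact right_eq_add.1 h3
  rw [smul_eq_zero, mul_eq_zero, ZMod.natCast_eq_zero_iff] at h2
  rcases h2 with (h | h) | h
  exacts [hk0 h, hm3 h, ha h]

variable {D}

/-- The quotient of the centralizer of an element outside the orbit. -/
theorem quot_facts (hm : D.Monomial) {a : V3} (ha : a ≠ 0) (ho : ¬ D.Orb a) :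
    ∃ T : Sylow 3 (D.Cv a ⧸ D.Zv a), (T : Subgroup (D.Cv a ⧸ D.Zv a)) = D.Tq a ∧ NineHyp T ∧
      Nat.card (normalizer ((T : Subgroup (D.Cv a ⧸ D.Zv a)) : Set (D.Cv a ⧸ D.Zv a))) =
        9 * (stab D.orbit a).card := by
  classical
  haveI : Fact (Nat.Prime 3) := ⟨Nat.prime_three⟩
  set π := QuotientGroup.mk' (D.Zv a) with hπdef
  have hπ : Function.Surjective π := QuotientGroup.mk'_surjective _
  obtain ⟨S, hS⟩ := D.sylow_J ha ho (D.J_le_cent_v a) le_rfl
  refine ⟨S.mapSurjective hπ, ?_⟩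
  have hT : ((S.mapSurjective hπ : Sylow 3 (D.Cv a ⧸ D.Zv a)) : Subgroup (D.Cv a ⧸ D.Zv a)) = D.Tq a := by
    rw [Sylow.coe_mapSurjective, hS]; rfl
  have hline : Nat.card (D.Zv a) = 3 := by
    let f : ZMod 3 → D.Zv a := fun k => ⟨⟨D.v (k • a), D.J_le_cent_v a (D.v_mem _)⟩, k, rfl⟩
    have hf : Function.Bijective f := by
      refine ⟨fun i j h => ?_, ?_⟩
      · have h1 := D.v_inj (congrArg (fun z : D.Zv a => ((z : D.Cv a) : G)) h)
        exact smul_left_injective (ZMod 3) ha h1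
      · rintro ⟨g, k, hk⟩
        exact ⟨k, Subtype.ext (Subtype.ext hk.symm)⟩
    rw [← Nat.card_eq_of_bijective f hf, Nat.card_zmod]
  have hcover : ∀ {H : Subgroup (D.Cv a)}, D.Zv a ≤ H → Nat.card H = 3 * Nat.card (H.map π) := by
    intro H hle
    set f := π.comp H.subtype
    have hr : H.map π = f.range := by rw [MonoidHom.range_comp, Subgroup.range_subtype]
    have hk : Nat.card f.ker = 3 := by
      rw [show f.ker = (D.Zv a).subgroupOf H by
        rw [← MonoidHom.comap_ker, hπdef, QuotientGroup.ker_mk']; rfl,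
        Nat.card_congr (subgroupOfEquivOfLe hle).toEquiv, hline]
    rw [hr, ← f.ker.index_mul_card, hk, Subgroup.index_ker, mul_comm]
  have hTmem : ∀ q ∈ D.Tq a, ∃ b, q = π ⟨D.v b, D.J_le_cent_v a (D.v_mem b)⟩ := by
    rintro _ ⟨y, hy, rfl⟩
    obtain ⟨b, hb⟩ := D.mem_J.1 hy
    exact ⟨b, congrArg π (Subtype.ext hb.symm)⟩
  have hcard : Nat.card (D.Tq a) = 9 := by
    have := hcover (H := D.J.subgroupOf (D.Cv a)) fun z hz => D.Zv_le a hz
    rw [Nat.card_congr (subgroupOfEquivOfLe (D.J_le_cent_v a)).toEquiv, D.card_J] at this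
    show Nat.card ((D.J.subgroupOf (D.Cv a)).map π) = 9
    omega
  have hhyp : NineHyp (S.mapSurjective hπ) := by
    refine ⟨by rw [hT, hcard], ?_, ?_, ?_, ?_, ?_⟩
    · intro t ht
      rw [hT] at ht
      obtain ⟨b, rfl⟩ := hTmem t ht
      rw [← map_pow, show (⟨D.v b, D.J_le_cent_v a (D.v_mem b)⟩ : D.Cv a) ^ 3 = 1 from
        Subtype.ext (by rw [Subgroup.coe_pow, pow_three', D.cube]; rfl), map_one]
    · intro s hs t ht
      rw [hT] at hs ht
      obtain ⟨b, rfl⟩ := hTmem s hs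
      obtain ⟨c, rfl⟩ := hTmem t ht
      rw [← map_mul, ← map_mul]
      exact congrArg π (Subtype.ext (D.v_comm b c).eq)
    · rw [hT]
      refine le_antisymm (fun q hq => ?_) fun q hq => mem_centralizer_iff.2 fun t ht => ?_
      · obtain ⟨g, rfl⟩ := hπ q
        refine (D.Tq_iff a g).2 (D.mem_J_of_quot ha ho g.2 (E := (D.Zv a).map (D.Cv a).subtype) ?_ ?_ ?_)
        · rintro _ ⟨z, hz, rfl⟩
          exact D.Zv_le a hz
        · rintro _ ⟨z, hz, rfl⟩
          exact congrArg Subtype.val (D.Zv_central a z hz g)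
        · intro c
          have hc := mem_centralizer_iff.1 hq _
            ((D.Tq_iff a ⟨D.v c, D.J_le_cent_v a (D.v_mem c)⟩).2 (D.v_mem c))
          refine ⟨g * ⟨D.v c, D.J_le_cent_v a (D.v_mem c)⟩ * g⁻¹ *
            (⟨D.v c, D.J_le_cent_v a (D.v_mem c)⟩ : D.Cv a)⁻¹, (QuotientGroup.eq_one_iff _).1 ?_, rfl⟩
          show π _ = 1
          rw [map_mul, map_mul, map_mul, map_inv, map_inv,
            show π g * π ⟨D.v c, D.J_le_cent_v a (D.v_mem c)⟩ =
              π ⟨D.v c, D.J_le_cent_v a (D.v_mem c)⟩ * π g from hc.symm]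
          group
      · obtain ⟨b, rfl⟩ := hTmem q hq
        obtain ⟨c, rfl⟩ := hTmem t ht
        rw [← map_mul, ← map_mul]
        exact congrArg π (Subtype.ext (D.v_comm c b).eq)
    · intro t ht ht1 q hq
      rw [hT] at ht ⊢
      obtain ⟨b, rfl⟩ := hTmem t ht
      obtain ⟨g, rfl⟩ := hπ q
      rw [D.Tq_normalizer]
      have hb : ∀ k : ZMod 3, b ≠ k • a := fun k e => ht1 ((QuotientGroup.eq_one_iff _).2
        ⟨k, by rw [e]⟩)
      have h1 : π (g * ⟨D.v b, D.J_le_cent_v a (D.v_mem b)⟩ * g⁻¹ *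
          (⟨D.v b, D.J_le_cent_v a (D.v_mem b)⟩ : D.Cv a)⁻¹) = 1 := by
        rw [map_mul, map_mul, map_mul, map_inv, map_inv, mem_centralizer_singleton_iff.1 hq]
        group
      obtain ⟨k, hk⟩ := (QuotientGroup.eq_one_iff _).1 h1
      refine D.quot_commute_le ha ho hb (k := k) ?_
      have hk' : (g : G) * D.v b * (g : G)⁻¹ * (D.v b)⁻¹ = D.v (k • a) := hk
      rw [D.v_add, (D.v_comm b (k • a)).eq, ← hk', inv_mul_cancel_right]
    · intro K hK hn
      rw [hT] at hn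
      exact D.quot_sig (D.J_le_cent_v a) (D.Zv a) (D.Zv_central a)
        ((D.isPGroup_J.comap_subtype (K := D.Cv a)).to_le fun z hz => D.Zv_le a hz) K hK hn
  refine ⟨hT, hhyp, ?_⟩
  rw [hT]
  have hmapN : (D.N.subgroupOf (D.Cv a)).map π = normalizer (D.Tq a : Set (D.Cv a ⧸ D.Zv a)) := by
    refine le_antisymm ?_ fun q hq => ?_
    · rintro _ ⟨g, hg, rfl⟩
      exact (D.Tq_normalizer a g).2 hg
    · obtain ⟨g, rfl⟩ := hπ q
      exact ⟨g, (D.Tq_normalizer a g).1 hq, rfl⟩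
  rw [← hmapN]
  have h3 := hcover (H := D.N.subgroupOf (D.Cv a)) fun z hz => D.J_le_N (D.Zv_le a hz)
  have hN' : Nat.card (D.N.subgroupOf (D.Cv a)) = Nat.card (D.N ⊓ D.Cv a : Subgroup G) := by
    rw [← card_map_of_injective (D.Cv a).subtype_injective, subgroupOf_map_subtype]
  set ψ := D.perm.comp (Subgroup.inclusion (inf_le_left : D.N ⊓ D.Cv a ≤ D.N)) with hψ
  have hker : Nat.card ψ.ker = 27 := by
    rw [← D.card_J]
    refine (Nat.card_congr ?_)
    refine
      { toFun := fun g => ⟨((g : (D.N ⊓ D.Cv a : Subgroup G)) : G), (D.act_J_iff g.1.2.1).2 fun b =>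
          congrArg (fun f : Equiv.Perm V3 => f b) g.2⟩
        invFun := fun j => ⟨⟨j, D.J_le_N j.2, D.J_le_cent_v a j.2⟩, Equiv.ext fun b => D.act_J j.2 b⟩
        left_inv := fun _ => rfl
        right_inv := fun _ => rfl }
  have hrange : Nat.card ψ.range = (stab D.orbit a).card := by
    rw [← Nat.card_eq_finsetCard]
    have hex : ∀ p : {p // p ∈ stab D.orbit a}, ∃ f : ψ.range, ∀ b, (f : Equiv.Perm V3) b = mon p.1.1 p.1.2 b := by
      rintro ⟨⟨e, σ⟩, hp⟩
      simp only [stab, Finset.mem_filter, Finset.mem_product, Finset.mem_univ, and_true] at hp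
      obtain ⟨n, hn, hna⟩ := hm.realise hp.1 σ
      refine ⟨⟨_, ⟨⟨n, hn, D.mem_cent_v.2 (by rw [D.act_spec hn, hna, hp.2])⟩, rfl⟩⟩, fun b => hna b⟩
    choose f hf using hex
    refine (Nat.card_eq_of_bijective f ⟨fun p q h => ?_, ?_⟩).symm
    · obtain ⟨⟨e, σ⟩, hp⟩ := p
      obtain ⟨⟨e', σ'⟩, hq⟩ := q
      have he : e ∈ cubeL := hm.orbit_cube (Finset.mem_product.1 (Finset.mem_filter.1 hp).1).1
      obtain ⟨rfl, rfl⟩ := mon_inj he fun b => ((hf ⟨_, hp⟩ b).symm.trans
        (by rw [h])).trans (hf ⟨_, hq⟩ b)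
      rfl
    · rintro ⟨_, g, rfl⟩
      obtain ⟨e, -, σ, hg⟩ := hm _ g.2.1
      have hp : (e, σ) ∈ stab D.orbit a := Finset.mem_filter.2
        ⟨Finset.mem_product.2 ⟨hm.sign_mem g.2.1 hg, Finset.mem_univ _⟩,
          (hg a).symm.trans (D.act_fix_of_cent g.2.2)⟩
      exact ⟨⟨_, hp⟩, Subtype.ext (Equiv.ext fun b => (hf ⟨_, hp⟩ b).trans (hg b).symm)⟩
  have h4 := ψ.ker.index_mul_card
  rw [Subgroup.index_ker, hrange, hker] at h4
  rw [hN', ← h4] at h3
  omega

theorem cent_v_neg (a : V3) : D.Cv (-a) = D.Cv a := by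
  ext g
  simp only [Cv, mem_centralizer_singleton_iff, D.v_neg]
  exact ⟨fun h => by simpa using (Commute.inv_right (a := g) h).eq,
    fun h => (Commute.inv_right (a := g) h).eq⟩

theorem le_N_of_normal {a : V3} {T : Sylow 3 (D.Cv a ⧸ D.Zv a)}
    (hT : (T : Subgroup (D.Cv a ⧸ D.Zv a)) = D.Tq a)
    (hn : (T : Subgroup (D.Cv a ⧸ D.Zv a)).Normal) : D.Cv a ≤ D.N := by
  intro g hg
  have h := normalizer_eq_top_iff.2 hn
  rw [hT] at h
  exact (D.Tq_normalizer a ⟨g, hg⟩).1 (by rw [h]; exact mem_top _)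

/-- Weight one in the full case. -/
theorem cent_axis (hm : D.Monomial) (hfull : D.orbit = cubeL.toFinset) (i : Fin 3) :
    D.Cv (Pi.single i 1) ≤ D.N ∨
      Nonempty ((D.Cv (Pi.single i 1) ⧸ D.Zv (Pi.single i 1)) ≃* Equiv.Perm (Fin 6)) := by
  classical
  set a : V3 := Pi.single i 1 with hadef
  obtain ⟨hmul, hinj, himg, -⟩ := dih_facts i
  have hfacts : (∀ i : Fin 3, (Pi.single i 1 : V3) ≠ 0) ∧
      ∀ i : Fin 3, (Pi.single i 1 : V3) ∉ cubeL ∧ -(Pi.single i 1 : V3) ∉ cubeL := by decide +kernel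
  have ha : a ≠ 0 := hfacts.1 i
  have ho : ¬ D.Orb a := by
    rw [D.orb_iff, hfull, List.mem_toFinset, List.mem_toFinset]
    exact not_or.2 ⟨(hfacts.2 i).1, (hfacts.2 i).2⟩
  obtain ⟨T, hT, hh, hN⟩ := quot_facts hm ha ho
  set π := QuotientGroup.mk' (D.Zv a) with hπ
  set N := normalizer ((T : Subgroup (D.Cv a ⧸ D.Zv a)) : Set (D.Cv a ⧸ D.Zv a)) with hNdef
  let P : (D.Cv a ⧸ D.Zv a) → DihedralGroup 4 → Prop := fun q d => ∃ g : D.Cv a, π g = q ∧
    (g : G) ∈ D.N ∧ ∀ b, D.act g b = mon (dih i d).1 (dih i d).2 b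
  have hex : ∀ q : N, ∃ d, P q d := by
    rintro ⟨q, hq⟩
    obtain ⟨g, rfl⟩ := QuotientGroup.mk'_surjective (D.Zv a) q
    rw [hNdef, hT] at hq
    have hg := (D.Tq_normalizer a g).1 hq
    obtain ⟨e, -, σ, hact⟩ := hm _ hg
    have hp : (e, σ) ∈ stab cubeL.toFinset a := Finset.mem_filter.2
      ⟨Finset.mem_product.2 ⟨hfull ▸ hm.sign_mem hg hact, Finset.mem_univ _⟩,
        (hact a).symm.trans (D.act_fix_of_cent g.2)⟩
    rw [hadef, himg, Finset.mem_image] at hp
    obtain ⟨d, -, hd⟩ := hp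
    exact ⟨d, g, rfl, hg, fun b => by rw [hd]; exact hact b⟩
  have huniq : ∀ {q d d'}, P q d → P q d' → d = d' := by
    rintro q d d' ⟨g, hg, hgN, hga⟩ ⟨g', hg', hgN', hga'⟩
    have hj : g⁻¹ * g' ∈ D.Zv a := QuotientGroup.eq.1 (hg.trans hg'.symm)
    have hact : ∀ b, D.act g b = D.act g' b := fun b => by
      have h1 : (g' : G) = g * ((g⁻¹ * g' : D.Cv a) : G) := by simp
      rw [h1, D.act_mul hgN (D.J_le_N (D.Zv_le a hj)), D.act_J (D.Zv_le a hj)]
    have hmem : dih i d ∈ stab cubeL.toFinset a := by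
      rw [hadef, himg]; exact Finset.mem_image_of_mem _ (Finset.mem_univ d)
    have he : (dih i d).1 ∈ cubeL :=
      List.mem_toFinset.1 (Finset.mem_product.1 (Finset.mem_filter.1 hmem).1).1
    obtain ⟨h1, h2⟩ := mon_inj he fun b => ((hga b).symm.trans (hact b)).trans (hga' b)
    exact hinj _ _ (Prod.ext h1 h2)
  choose f hf using hex
  let φ : N →* DihedralGroup 4 := MonoidHom.mk' f fun q q' => by
    refine huniq (hf (q * q')) ?_
    obtain ⟨g, hg, hgN, hga⟩ := hf q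
    obtain ⟨g', hg', hgN', hga'⟩ := hf q'
    refine ⟨g * g', by rw [map_mul, hg, hg']; rfl, mul_mem hgN hgN', fun b => ?_⟩
    rw [Subgroup.coe_mul, D.act_mul hgN hgN', hga', hga, mon_pmul, hmul]
  have hsurj : Function.Surjective φ := fun d => by
    have hmem : dih i d ∈ stab cubeL.toFinset a := by
      rw [hadef, himg]; exact Finset.mem_image_of_mem _ (Finset.mem_univ d)
    obtain ⟨hE, hfix⟩ := Finset.mem_filter.1 hmem
    obtain ⟨n, hn, hna⟩ := hm.realise (hfull ▸ (Finset.mem_product.1 hE).1) (dih i d).2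
    have hnc : n ∈ D.Cv a := D.mem_cent_v.2 (by rw [D.act_spec hn, hna, hfix])
    have hq : π ⟨n, hnc⟩ ∈ N := by
      rw [hNdef, hT]; exact (D.Tq_normalizer a _).2 hn
    exact ⟨⟨_, hq⟩, huniq (hf _) ⟨⟨n, hnc⟩, rfl, hn, hna⟩⟩
  have hker : φ.ker = (T : Subgroup (D.Cv a ⧸ D.Zv a)).subgroupOf N := by
    refine (Subgroup.eq_of_le_of_card_ge ?_ ?_).symm
    · rintro ⟨q, hq⟩ hqT
      rw [mem_subgroupOf, hT] at hqT
      obtain ⟨y, hy, rfl⟩ := hqT
      refine huniq (hf _) ⟨y, rfl, D.J_le_N hy, fun b => ?_⟩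
      rw [(dih_facts i).2.2.2, mon_one3, pm_one]
      exact D.act_J hy b
    · have h := φ.ker.index_mul_card
      have hNc : Nat.card N = 72 := by
        show Nat.card (normalizer ((T : Subgroup (D.Cv a ⧸ D.Zv a)) : Set (D.Cv a ⧸ D.Zv a))) = 72
        rw [hN, hfull, hadef, himg, Finset.card_image_of_injective _ (fun d d' => hinj d d'),
          Finset.card_univ, DihedralGroup.card]
      rw [Subgroup.index_ker, MonoidHom.range_eq_top.2 hsurj, card_top, DihedralGroup.nat_card,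
        hNc] at h
      rw [Nat.card_congr (subgroupOfEquivOfLe (le_normalizer)).toEquiv, hh.card]
      omega
  let eN : N ⧸ (T : Subgroup (D.Cv a ⧸ D.Zv a)).subgroupOf N ≃* DihedralGroup 4 :=
    (QuotientGroup.quotientMulEquivOfEq hker.symm).trans
      (QuotientGroup.quotientKerEquivOfSurjective φ hsurj)
  rcases S3333.result T _ rfl hh.card hh.cent eN hh.loc with h | h
  · exact Or.inl (le_N_of_normal hT h)
  · exact Or.inr h

/-- The centralizers of elements of the core outside the orbit. -/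
theorem cent_cases (hm : D.Monomial) {a : V3} (ha : a ≠ 0) :
    D.Cv a ≤ D.N ∨ (D.orbit = cubeL.toFinset ∧ ∃ i : Fin 3, (a = Pi.single i 1 ∨ a = -Pi.single i 1) ∧
      Nonempty ((D.Cv (Pi.single i 1) ⧸ D.Zv (Pi.single i 1)) ≃* Equiv.Perm (Fin 6))) := by
  classical
  by_cases ho : D.Orb a
  · exact Or.inl (D.cent_orb_le ho)
  have hE : D.orbit ∈ [({one3} : Finset V3), {one3, -one3}, evens, cubeL.toFinset] := by
    rcases hm.orbit_four with h | h | h | h <;> simp [h]
  have hno := not_or.1 (fun h => ho (D.orb_iff.2 h))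
  rcases stab_cases D.orbit hE a ha hno.1 hno.2 with h | ⟨h4, hsq⟩ | ⟨hfull, i, hi⟩
  · obtain ⟨T, hT, hh, hN⟩ := quot_facts hm ha ho
    refine Or.inl (le_N_of_normal hT (hh.normal_small ?_))
    rw [hN]
    have hpos : 0 < (stab D.orbit a).card := Finset.card_pos.2 ⟨(one3, 1), Finset.mem_filter.2
      ⟨Finset.mem_product.2 ⟨D.one3_mem, Finset.mem_univ _⟩, by rw [mon_one3, pm_one]⟩⟩
    have : (stab D.orbit a).card = 1 ∨ (stab D.orbit a).card = 2 := by omega
    rcases this with e | e <;> rw [e] <;> norm_num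
  · obtain ⟨T, hT, hh, hN⟩ := quot_facts hm ha ho
    refine Or.inl (le_N_of_normal hT (hh.normal_thirtysix (by rw [hN, h4]) fun q hq => ?_))
    obtain ⟨g, rfl⟩ := QuotientGroup.mk'_surjective (D.Zv a) q
    rw [hT] at hq ⊢
    have hg := (D.Tq_normalizer a g).1 hq
    obtain ⟨e, -, σ, hact⟩ := hm _ hg
    obtain ⟨h1, h2⟩ := hsq (e, σ) (Finset.mem_filter.2
      ⟨Finset.mem_product.2 ⟨hm.sign_mem hg hact, Finset.mem_univ _⟩,
        (hact a).symm.trans (D.act_fix_of_cent g.2)⟩)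
    rw [← map_mul, D.Tq_iff, Subgroup.coe_mul, D.act_J_iff (mul_mem hg hg)]
    intro b
    rw [D.act_mul hg hg, hact, hact, mon_comp, h1, h2, mon_one3, pm_one]
  · rcases cent_axis hm hfull i with h | h
    · refine Or.inl ?_
      rcases hi with rfl | rfl
      · exact h
      · rwa [cent_v_neg]
    · exact Or.inr ⟨hfull, i, hi, h⟩

end Data

end Cfsg.Agent.Recog.SymNine
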