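import Cfsg.Agent.Lib.Recog.SymNine.Invol

/-!
When all centralizers of core elements lie in the normalizer, so does the centralizer of the
transposition of two blocks.
-/

set_option autoImplicit false
set_option linter.style.haveILetI false
set_option linter.unusedSectionVars false
set_option maxRecDepth 100000

namespace Cfsg.Agent.Recog.SymNine

open Subgroup

universe u

/-- A subgroup of coprime order of a quotient by a subgroup of coprime order. -/
theorem comap_coprime {X : Type u} [Group X] [Finite X] (Z : Subgroup X) [Z.Normal]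
    (hZ : (Nat.card Z).Coprime 3) (K : Subgroup (X ⧸ Z)) (hK : (Nat.card K).Coprime 3) :
    (Nat.card (K.comap (QuotientGroup.mk' Z))).Coprime 3 := by
  set f := (QuotientGroup.mk' Z).comp (K.comap (QuotientGroup.mk' Z)).subtype
  have hr : f.range ≤ K := by
    rintro _ ⟨y, rfl⟩
    exact y.2
  have h := f.ker.index_mul_card
  rw [Subgroup.index_ker] at h
  rw [← h]
  refine Nat.Coprime.mul_left (hK.coprime_dvd_left (Subgroup.card_dvd_of_le hr)) (hZ.coprime_dvd_left ?_)
  rw [← card_map_of_injective (K.comap (QuotientGroup.mk' Z)).subtype_injective]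
  refine Subgroup.card_dvd_of_le ?_
  rintro _ ⟨y, hy, rfl⟩
  exact (QuotientGroup.eq_one_iff _).1 hy

namespace Data

variable {G : Type u} [Group G] [Finite G] (D : Data G)

/-- The transposition of the last two blocks. -/
def tt : G := D.el 0 tr

theorem act_tt (t : T3) : D.act D.tt (toV t) = toV (am trC t) := by
  rw [tt, D.act_el, ← mon_one3, ← mon_code, show toV trC.1 = one3 from am_facts.2.2.2.2.2.1,
    show pc trC.2 = tr from am_facts.2.2.2.2.2.2.2.2]

theorem refl_tt : Refl D D.tt where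
  mem := D.el_mem_N 0 tr
  sq := by
    rw [tt, D.el_mul', show tr * tr = 1 from cyc_tr_facts.2.2.1, show pm tr (0 : V3) = 0 from rfl,
      add_zero, D.el_zero']
  plane := by
    have h := trC_refl
    rw [isRefl, Bool.and_eq_true, beq_iff_eq] at h
    rw [card_fix_code (s := D.tt) (D.el_mem_N 0 tr) D.act_tt, h.1]

theorem tt_ne : D.tt ≠ 1 := fun e => by
  have h := (D.el_inj (a := 0) (b := 0) (σ := tr) (τ := 1) (e.trans D.el_zero'.symm)).2
  exact cyc_tr_facts.2.2.2.1 h

theorem orderOf_tt : orderOf D.tt = 2 :=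
  haveI : Fact (Nat.Prime 2) := ⟨Nat.prime_two⟩
  orderOf_eq_prime (by rw [pow_two, D.refl_tt.sq]) D.tt_ne

variable {D}

/-- Elements of the normalizer fixing the plane of the transposition pointwise. -/
theorem fix_plane_tt (hm : D.Monomial) {g : G} (hg : g ∈ D.N) (hgt : Commute g D.tt)
    (hfix : ∀ y ∈ D.fixJ D.tt, Commute g y) : g ∈ D.fixJ D.tt ∨ g * D.tt ∈ D.fixJ D.tt := by
  obtain ⟨q, hq, -, hqact⟩ := code_of hm hg
  have htr : trC ∈ codes := mem_codes.2 (by decide +kernel)
  have hall : (fixT trC).all (fun t => am q t == t) = true := by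
    rw [List.all_eq_true]
    intro t ht
    rw [beq_iff_eq]
    refine toV_facts.1 ?_
    rw [← hqact]
    refine D.act_eq ?_
    rw [(hfix _ ((D.v_mem_fixJ D.refl_tt.mem).2 (by rw [D.act_tt, mem_fixT.1 ht]))).eq,
      mul_inv_cancel_right]
  have h1 := checkPair_all
  rw [List.all_eq_true] at h1
  have h2 := h1 trC htr
  rw [List.all_eq_true] at h2
  have h3 := h2 q hq
  simp only [checkPair, trC_refl, Bool.not_true, Bool.false_or, Bool.and_eq_true, Bool.or_eq_true,
    hall] at h3
  have h4 : sameT q idC = true ∨ sameT q trC = true := by tauto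
  rcases h4 with h4 | h4
  · refine Or.inl ⟨(D.act_J_iff hg).2 fun a => ?_, mem_centralizer_singleton_iff.2 hgt.eq⟩
    obtain ⟨t, rfl⟩ := toV_facts.2.1 a
    rw [hqact, sameT_iff.1 h4, am_facts.1]
  · refine Or.inr ⟨(D.act_J_iff (mul_mem hg D.refl_tt.mem)).2 fun a => ?_,
      mem_centralizer_singleton_iff.2 (hgt.mul_left (Commute.refl _)).eq⟩
    obtain ⟨t, rfl⟩ := toV_facts.2.1 a
    rw [D.act_mul hg D.refl_tt.mem, D.act_tt, hqact, sameT_iff.1 h4, ← D.act_tt, ← D.act_tt,
      ← D.act_mul D.refl_tt.mem D.refl_tt.mem, D.refl_tt.sq, D.act_one]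

/-- The order of the centralizer of the transposition in the normalizer. -/
theorem card_N_cent_tt (hm : D.Monomial) {L : List T3} (hL : L ∈ signGroups)
    (horb : D.orbit = L.toFinset.image toV) :
    Nat.card (D.N ⊓ centralizer ({D.tt} : Set G) : Subgroup G) = 9 * (commT L).length := by
  classical
  obtain ⟨hvinj, hvsurj, -⟩ := toV_facts
  set X := D.N ⊓ centralizer ({D.tt} : Set G) with hX
  set ψ := D.perm.comp (Subgroup.inclusion (inf_le_left : X ≤ D.N)) with hψ
  have hker : Nat.card ψ.ker = 9 := by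
    rw [← D.refl_tt.plane]
    exact Nat.card_congr
      { toFun := fun g => ⟨((g : X) : G), (D.act_J_iff g.1.2.1).2 fun b =>
          congrArg (fun f : Equiv.Perm V3 => f b) g.2, g.1.2.2⟩
        invFun := fun j => ⟨⟨j, D.J_le_N j.2.1, j.2.2⟩, Equiv.ext fun b => D.act_J j.2.1 b⟩
        left_inv := fun _ => rfl
        right_inv := fun _ => rfl }
  have hrange : Nat.card ψ.range = (commT L).length := by
    have hnd : (commT L).Nodup := by
      refine List.Nodup.filter _ ?_
      refine List.nodup_flatMap.2 ⟨fun e _ => (List.nodup_finRange 6).map fun k k' h => (Prod.mk.inj h).2,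
        (group_facts.2.2.2.2 L hL).imp fun {x y} hxy => ?_⟩
      intro p hp hp'
      obtain ⟨k, -, rfl⟩ := List.mem_map.1 hp
      obtain ⟨k', -, he⟩ := List.mem_map.1 hp'
      exact hxy (Prod.mk.inj he).1.symm
    rw [← List.toFinset_card_of_nodup hnd, ← Nat.card_eq_finsetCard]
    have hmemL : ∀ {p : T3 × Fin 6}, p ∈ (commT L).toFinset ↔
        p.1 ∈ L ∧ ∀ t, am p (am trC t) = am trC (am p t) := by
      intro p
      simp only [List.mem_toFinset, commT, List.mem_filter, List.mem_flatMap, List.mem_map,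
        List.mem_finRange, true_and, commC_iff]
      exact ⟨fun ⟨⟨e, he, k, h⟩, h2⟩ => ⟨h ▸ he, h2⟩, fun ⟨h1, h2⟩ => ⟨⟨_, h1, p.2, rfl⟩, h2⟩⟩
    have horb' : ∀ s, s ∈ L → toV s ∈ D.orbit := fun s hs => by
      rw [horb]; exact Finset.mem_image_of_mem _ (List.mem_toFinset.2 hs)
    have hex : ∀ p : {p // p ∈ (commT L).toFinset}, ∃ f : ψ.range,
        ∀ t, (f : Equiv.Perm V3) (toV t) = toV (am p.1 t) := by
      rintro ⟨⟨e, k⟩, hp⟩
      obtain ⟨heL, hcom⟩ := hmemL.1 hp
      obtain ⟨n, hn, hna⟩ := hm.realise (horb' e heL) (pc k)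
      have hact : ∀ t, D.act n (toV t) = toV (am (e, k) t) := fun t => (hna _).trans (mon_code (e, k) t)
      have htN := D.refl_tt.mem
      have hti : D.tt⁻¹ = D.tt := inv_eq_of_mul_eq_one_right D.refl_tt.sq
      have hj : D.tt * n * D.tt * n⁻¹ ∈ D.J := by
        refine (D.act_J_iff (mul_mem (mul_mem (mul_mem htN hn) htN) (inv_mem hn))).2 fun a => ?_
        obtain ⟨b, rfl⟩ : ∃ b, D.act n b = a := ⟨D.act n⁻¹ a, by
          have := D.act_inv_cancel (inv_mem hn) a
          rwa [inv_inv] at this⟩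
        obtain ⟨t, rfl⟩ := hvsurj b
        rw [D.act_mul (mul_mem (mul_mem htN hn) htN) (inv_mem hn), D.act_inv_cancel hn,
          D.act_mul (mul_mem htN hn) htN, D.act_tt, D.act_mul htN hn, hact, hcom, ← D.act_tt,
          ← D.act_mul htN htN, D.refl_tt.sq, D.act_one, hact]
      obtain ⟨b, hb⟩ := D.mem_J.1 hj
      have hinv : D.act D.tt b = -b := by
        refine D.act_eq ?_
        rw [hb, D.v_neg, hb, hti]
        have h2 := D.refl_tt.sq
        calc D.tt * (D.tt * n * D.tt * n⁻¹) * D.tt = D.tt * D.tt * (n * D.tt * n⁻¹ * D.tt) := by group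
          _ = n * D.tt⁻¹ * n⁻¹ * D.tt⁻¹ := by rw [h2, one_mul, hti]
          _ = _ := by group
      have htb : D.tt * D.v b * D.tt = (D.v b)⁻¹ := by
        have := D.act_spec htN b
        rwa [hti, hinv, D.v_neg] at this
      have hn' : D.tt * n * D.tt = D.v b * n := by rw [hb]; group
      refine ⟨⟨_, ⟨⟨D.v (-b) * n, mul_mem (D.J_le_N (D.v_mem _)) hn, ?_⟩, rfl⟩⟩, fun t => ?_⟩
      · show D.v (-b) * n ∈ centralizer ({D.tt} : Set G)
        rw [mem_centralizer_singleton_iff]
        have h2 := D.refl_tt.sq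
        have hbb : D.v b * D.v b = (D.v b)⁻¹ := (inv_eq_of_mul_eq_one_left (D.cube b)).symm
        have h4 : D.tt * (D.v b)⁻¹ * D.tt = D.v b := by
          rw [← htb, show D.tt * (D.tt * D.v b * D.tt) * D.tt =
            D.tt * D.tt * D.v b * (D.tt * D.tt) by group, h2, one_mul, mul_one]
        have h3 : D.tt * (D.v (-b) * n) * D.tt = D.v (-b) * n := by
          rw [D.v_neg]
          calc D.tt * ((D.v b)⁻¹ * n) * D.tt = D.tt * (D.v b)⁻¹ * (D.tt * D.tt) * n * D.tt := by
                rw [h2, mul_one]; group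
            _ = (D.tt * (D.v b)⁻¹ * D.tt) * (D.tt * n * D.tt) := by group
            _ = _ := by rw [h4, hn', ← mul_assoc, hbb]
        calc D.v (-b) * n * D.tt = D.tt * D.tt * (D.v (-b) * n * D.tt) := by rw [h2, one_mul]
          _ = D.tt * (D.tt * (D.v (-b) * n) * D.tt) := by group
          _ = D.tt * (D.v (-b) * n) := by rw [h3]
      · show D.act (D.v (-b) * n) (toV t) = _
        rw [D.act_mul (D.J_le_N (D.v_mem _)) hn, D.act_J (D.v_mem _), hact]
    choose f hf using hex
    refine (Nat.card_eq_of_bijective f ⟨fun p q h => ?_, ?_⟩).symm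
    · obtain ⟨⟨e, k⟩, hp⟩ := p
      obtain ⟨⟨e', k'⟩, hq⟩ := q
      have hec : toV e ∈ cubeL := hm.orbit_cube (horb' e (hmemL.1 hp).1)
      obtain ⟨h1, h2⟩ := mon_inj (σ := pc k) (σ' := pc k') (e' := toV e') hec fun a => by
        obtain ⟨t, rfl⟩ := hvsurj a
        rw [mon_code (e, k), mon_code (e', k'), ← hf ⟨_, hp⟩, h, hf ⟨_, hq⟩]
      obtain rfl := hvinj h1
      obtain rfl := code_facts.1 h2
      rfl
    · rintro ⟨_, g, rfl⟩
      obtain ⟨p, -, hpo, hg⟩ := code_of hm g.2.1
      have hpL : p.1 ∈ L := by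
        rw [horb, Finset.mem_image] at hpo
        obtain ⟨s, hs, hse⟩ := hpo
        exact hvinj hse ▸ List.mem_toFinset.1 hs
      have hp : p ∈ (commT L).toFinset := hmemL.2 ⟨hpL, fun t => hvinj (by
        rw [← hg, ← D.act_tt, ← D.act_tt, ← hg, ← D.act_mul g.2.1 D.refl_tt.mem,
          ← D.act_mul D.refl_tt.mem g.2.1, mem_centralizer_singleton_iff.1 g.2.2])⟩
      refine ⟨⟨p, hp⟩, Subtype.ext (Equiv.ext fun b => ?_)⟩
      obtain ⟨t, rfl⟩ := hvsurj b
      exact (hf ⟨p, hp⟩ t).trans (hg t).symm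
  have h4 := ψ.ker.index_mul_card
  rw [Subgroup.index_ker, hrange, hker] at h4
  rw [← h4, mul_comm]

/-- The centralizer of the transposition lies in the normalizer. -/
theorem cent_tt_le (hm : D.Monomial) (hTI : D.TI) : centralizer ({D.tt} : Set G) ≤ D.N := by
  classical
  haveI : Fact (Nat.Prime 3) := ⟨Nat.prime_three⟩
  set X := centralizer ({D.tt} : Set G) with hX
  have hR := D.refl_tt
  have ht2 := hR.sq
  have htX : D.tt ∈ X := mem_centralizer_singleton_iff.2 rfl
  set Z : Subgroup X := zpowers ⟨D.tt, htX⟩ with hZdef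
  have hZc : ∀ z ∈ Z, ∀ g : X, z * g = g * z := by
    rintro _ ⟨n, rfl⟩ g
    exact (Commute.zpow_left (Subtype.ext (mem_centralizer_singleton_iff.1 g.2).symm :
      Commute (⟨D.tt, htX⟩ : X) g) n).eq
  haveI : Z.Normal := ⟨fun z hz g => by rw [← hZc z hz g, mul_inv_cancel_right]; exact hz⟩
  have hZ2 : Nat.card Z = 2 := by
    rw [Nat.card_zpowers, Subgroup.orderOf_mk, D.orderOf_tt]
  have hZm : ∀ {z : X}, z ∈ Z → (z : G) = 1 ∨ (z : G) = D.tt := by
    rintro _ ⟨n, rfl⟩
    show (((⟨D.tt, htX⟩ : X) ^ n : X) : G) = 1 ∨ _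
    rw [SubgroupClass.coe_zpow]
    rcases Int.even_or_odd n with ⟨m, hm⟩ | ⟨m, hm⟩
    · left
      rw [hm, ← two_mul, zpow_mul, zpow_two, ht2, one_zpow]
    · right
      rw [hm, zpow_add, zpow_mul, zpow_two, ht2, one_zpow, one_mul, zpow_one]
  set π := QuotientGroup.mk' Z with hπdef
  have hπ : Function.Surjective π := QuotientGroup.mk'_surjective Z
  set F := (D.fixJ D.tt).subgroupOf X with hFdef
  have hFX : D.fixJ D.tt ≤ X := inf_le_right
  let S : Sylow 3 X := ⟨F, hR.isPGroup.comap_subtype, fun {Q} hQ hle => by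
    have h1 : D.fixJ D.tt ≤ Q.map X.subtype := fun y hy => ⟨⟨y, hy.2⟩, hle hy, rfl⟩
    refine le_antisymm (fun r hr => ?_) hle
    show (r : G) ∈ D.fixJ D.tt
    rw [← hR.eq_fixJ hm (hQ.map _) h1 (map_subtype_le Q)]
    exact ⟨r, hr, rfl⟩⟩
  set T := S.mapSurjective hπ with hTdef
  have hT : (T : Subgroup (X ⧸ Z)) = F.map π := Sylow.coe_mapSurjective hπ S
  have hord : ∀ y ∈ D.fixJ D.tt, y * y * y = 1 := fun y hy => by
    obtain ⟨b, rfl⟩ := D.mem_J.1 hy.1
    exact D.cube b
  have hpre : ∀ g : X, π g ∈ F.map π → (g : G) ∈ D.fixJ D.tt ∨ (g : G) * D.tt ∈ D.fixJ D.tt := by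
    rintro g ⟨y, hy, he⟩
    have h1 : y⁻¹ * g ∈ Z := QuotientGroup.eq.1 he
    rcases hZm h1 with e | e
    · left
      rw [Subgroup.coe_mul, InvMemClass.coe_inv, inv_mul_eq_one] at e
      exact e ▸ hy
    · right
      rw [Subgroup.coe_mul, InvMemClass.coe_inv, inv_mul_eq_iff_eq_mul] at e
      rw [e, mul_assoc, ht2, mul_one]
      exact hy
  -- elements with image commuting with the image of an element of the plane
  have hlift : ∀ (g : X) (y : G) (hy : y ∈ D.fixJ D.tt),
      π g * π ⟨y, hFX hy⟩ = π ⟨y, hFX hy⟩ * π g → Commute (g : G) y := by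
    intro g y hy he
    have h1 : π (g * ⟨y, hFX hy⟩ * g⁻¹ * (⟨y, hFX hy⟩ : X)⁻¹) = 1 := by
      rw [map_mul, map_mul, map_mul, map_inv, map_inv, he]; group
    rcases hZm ((QuotientGroup.eq_one_iff _).1 h1) with e | e
    · exact mul_inv_eq_iff_eq_mul.1 (mul_inv_eq_one.1 e)
    · exfalso
      have e' : (g : G) * y * (g : G)⁻¹ = D.tt * y := mul_inv_eq_iff_eq_mul.1 e
      have hty : Commute D.tt y := (mem_centralizer_singleton_iff.1 (hFX hy)).symm
      have h3 : (g : G) * (y * y * y) * (g : G)⁻¹ = D.tt := by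
        calc (g : G) * (y * y * y) * (g : G)⁻¹ =
            (g : G) * y * (g : G)⁻¹ * ((g : G) * y * (g : G)⁻¹) * ((g : G) * y * (g : G)⁻¹) := by group
          _ = D.tt * D.tt * D.tt * (y * y * y) := by
            rw [e', show D.tt * y * (D.tt * y) = D.tt * (y * D.tt) * y by group, ← hty.eq,
              show D.tt * (D.tt * y) * y * (D.tt * y) = D.tt * D.tt * (y * y * D.tt) * y by group,
              ← (hty.mul_right hty).eq]
            group
          _ = D.tt := by rw [hord y hy, ht2, one_mul, mul_one]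
      rw [hord y hy, mul_one, mul_inv_cancel] at h3
      exact D.tt_ne h3.symm
  have hcardT : Nat.card (T : Subgroup (X ⧸ Z)) = 9 := by
    rw [hT]
    set f := π.comp F.subtype
    have hr : F.map π = f.range := by rw [MonoidHom.range_comp, Subgroup.range_subtype]
    have hk : f.ker = ⊥ := (Subgroup.eq_bot_iff_forall _).2 fun y hy => by
      rcases hZm ((QuotientGroup.eq_one_iff _).1 hy) with e | e
      · exact Subtype.ext (Subtype.ext e)
      · exfalso
        have hyF : ((y : X) : G) ∈ D.fixJ D.tt := y.2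
        have e' : ((y : X) : G) = D.tt := e
        rw [e'] at hyF
        have h3 := hord _ hyF
        rw [ht2, one_mul] at h3
        exact D.tt_ne h3
    have h := f.ker.index_mul_card
    rw [Subgroup.index_ker, hk, card_bot, mul_one] at h
    rw [hr, h, Nat.card_congr (subgroupOfEquivOfLe hFX).toEquiv, hR.plane]
  have hnine : NineHyp T := by
    refine ⟨hcardT, ?_, ?_, ?_, ?_, ?_⟩
    · intro q hq
      rw [hT] at hq
      obtain ⟨y, hy, rfl⟩ := hq
      rw [← map_pow, show y ^ 3 = 1 from Subtype.ext (by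
        rw [Subgroup.coe_pow, pow_three']; exact hord (y : G) hy), map_one]
    · intro q hq r hr
      rw [hT] at hq hr
      obtain ⟨y, hy, rfl⟩ := hq
      obtain ⟨z, hz, rfl⟩ := hr
      rw [← map_mul, ← map_mul]
      exact congrArg π (Subtype.ext (D.J_comm hy.1 hz.1))
    · rw [hT]
      refine le_antisymm (fun q hq => ?_) fun q hq => mem_centralizer_iff.2 fun r hr => ?_
      · obtain ⟨g, rfl⟩ := hπ q
        have hfix : ∀ y ∈ D.fixJ D.tt, Commute (g : G) y := fun y hy =>
          hlift g y hy (mem_centralizer_iff.1 hq _ ⟨⟨y, hFX hy⟩, hy, rfl⟩).symm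
        obtain ⟨a, ha, -, haf⟩ := hR.exists_off hm
        have hgN : (g : G) ∈ D.N := hTI a ha (mem_centralizer_singleton_iff.2 (hfix _ haf).eq)
        rcases fix_plane_tt hm hgN (mem_centralizer_singleton_iff.1 g.2) hfix with e | e
        · exact ⟨g, e, rfl⟩
        · refine ⟨g * ⟨D.tt, htX⟩, e, ?_⟩
          rw [map_mul, show π ⟨D.tt, htX⟩ = 1 from (QuotientGroup.eq_one_iff _).2 (mem_zpowers _),
            mul_one]
      · obtain ⟨y, hy, rfl⟩ := hq
        obtain ⟨z, hz, rfl⟩ := hr
        rw [← map_mul, ← map_mul]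
        exact congrArg π (Subtype.ext (D.J_comm hz.1 hy.1))
    · intro q hq hq1 r hr
      rw [hT] at hq ⊢
      obtain ⟨y, hy, rfl⟩ := hq
      obtain ⟨g, rfl⟩ := hπ r
      obtain ⟨b, hb⟩ := D.mem_J.1 hy.1
      have hb0 : b ≠ 0 := fun e => hq1 (by
        rw [show y = 1 from Subtype.ext (by rw [← show D.v b = (y : G) from hb, e, D.v_zero]; rfl),
          map_one])
      have hc := hlift g y hy (mem_centralizer_singleton_iff.1 hr)
      have hgN : (g : G) ∈ D.N := hTI b hb0 (mem_centralizer_singleton_iff.2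
        (by rw [show D.v b = (y : G) from hb]; exact hc.eq))
      refine mem_normalizer_fintype ?_
      rintro _ ⟨z, hz, rfl⟩
      refine ⟨g * z * g⁻¹, ⟨(mem_normalizer_iff.1 hgN _).1 hz.1, (g * z * g⁻¹).2⟩, ?_⟩
      rw [map_mul, map_mul, map_inv]
    · intro K hK hn
      rw [hT] at hn
      set K1 := (K.comap π).map X.subtype with hK1
      have hcopK1 : (Nat.card K1).Coprime 3 := by
        rw [hK1, card_map_of_injective X.subtype_injective]
        exact comap_coprime Z (by rw [hZ2]; norm_num) K hK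
      have hAK : D.fixJ D.tt ≤ normalizer (K1 : Set G) := fun y hy => mem_normalizer_fintype (by
        rintro _ ⟨k, hk, rfl⟩
        refine ⟨⟨y, hFX hy⟩ * k * (⟨y, hFX hy⟩ : X)⁻¹, ?_, rfl⟩
        show π _ ∈ K
        rw [map_mul, map_mul, map_inv]
        exact (mem_normalizer_iff.1 (hn ⟨⟨y, hFX hy⟩, hy, rfl⟩) _).1 hk)
      haveI : IsMulCommutative (D.fixJ D.tt) :=
        ⟨⟨fun a b => Subtype.ext (D.J_comm a.2.1 b.2.1)⟩⟩
      have hncyc : ¬ IsCyclic (D.fixJ D.tt) := fun hc => by
        obtain ⟨g, hg⟩ := hc.exists_ofOrder_eq_natCard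
        rw [hR.plane] at hg
        have h3 : g ^ 3 = 1 := Subtype.ext (by rw [Subgroup.coe_pow, pow_three', hord _ g.2]; rfl)
        have h4 := orderOf_dvd_of_pow_eq_one h3
        rw [hg] at h4
        norm_num at h4
      have hcop : (Nat.card (D.fixJ D.tt)).Coprime (Nat.card K1) := by
        rw [hR.plane, show 9 = 3 ^ 2 by norm_num]
        exact Nat.Coprime.pow_left _ hcopK1.symm
      have hle : K1 ≤ zpowers D.tt := by
        rw [← Grp.generated_by_centralizers (D.fixJ D.tt) K1 hncyc hAK hcop]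
        refine iSup₂_le fun y hy k hk => ?_
        obtain ⟨b, hb⟩ := D.mem_J.1 hy.1.1
        have hb0 : b ≠ 0 := fun e => hy.2 (by rw [← hb, e, D.v_zero])
        have hkN : k ∈ D.N := hTI b hb0 (by show k ∈ centralizer ({D.v b} : Set G); rw [hb]; exact hk.2)
        have hkX : k ∈ X := map_subtype_le _ hk.1
        have hfix : ∀ z ∈ D.fixJ D.tt, Commute k z := fun z hz => by
          have h1 : k * z * k⁻¹ * z⁻¹ ∈ D.J :=
            mul_mem ((mem_normalizer_iff.1 hkN _).1 hz.1) (inv_mem hz.1)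
          have h2 : k * z * k⁻¹ * z⁻¹ ∈ K1 := by
            rw [mul_assoc k z, mul_assoc k (z * k⁻¹)]
            exact mul_mem hk.1 ((mem_normalizer_iff.1 (hAK hz) _).1 (inv_mem hk.1))
          have h3 : k * z * k⁻¹ * z⁻¹ = 1 := by
            obtain ⟨c, hc⟩ := D.mem_J.1 h1
            refine orderOf_eq_one_iff.1 (Nat.eq_one_of_dvd_coprimes hcopK1
              (Subgroup.orderOf_dvd_natCard _ h2) (orderOf_dvd_of_pow_eq_one ?_))
            rw [← hc, pow_three', D.cube]
          exact mul_inv_eq_iff_eq_mul.1 (mul_inv_eq_one.1 h3)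
        have key : ∀ j, j ∈ D.J → j ∈ K1 → j = 1 := fun j hj hjK => by
          obtain ⟨c, rfl⟩ := D.mem_J.1 hj
          refine orderOf_eq_one_iff.1 (Nat.eq_one_of_dvd_coprimes hcopK1
            (Subgroup.orderOf_dvd_natCard _ hjK) (orderOf_dvd_of_pow_eq_one ?_))
          rw [pow_three', D.cube]
        rcases fix_plane_tt hm hkN (mem_centralizer_singleton_iff.1 hkX) hfix with e | e
        · rw [key k e.1 hk.1]; exact one_mem _
        · have htK : D.tt ∈ K1 := ⟨⟨D.tt, htX⟩, by
            show π _ ∈ K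
            rw [show π ⟨D.tt, htX⟩ = 1 from (QuotientGroup.eq_one_iff _).2 (mem_zpowers _)]
            exact one_mem _, rfl⟩
          have h1 := key _ e.1 (mul_mem hk.1 htK)
          rw [mul_eq_one_iff_eq_inv.1 h1]
          exact inv_mem (mem_zpowers _)
      refine (Subgroup.eq_bot_iff_forall _).2 fun q hq => ?_
      obtain ⟨g, rfl⟩ := hπ q
      obtain ⟨n, hn⟩ := hle ⟨g, hq, rfl⟩
      exact (QuotientGroup.eq_one_iff _).2 ⟨n, Subtype.ext (by rw [SubgroupClass.coe_zpow]; exact hn)⟩
  have hnorm : ∀ g : X, π g ∈ normalizer ((T : Subgroup (X ⧸ Z)) : Set (X ⧸ Z)) → (g : G) ∈ D.N := by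
    intro g hg
    rw [hT] at hg
    refine hR.norm_plane hm fun y hy => ?_
    have h1 := (mem_normalizer_iff.1 hg _).1 (⟨⟨y, hFX hy⟩, hy, rfl⟩ : π ⟨y, hFX hy⟩ ∈ F.map π)
    rw [← map_inv, ← map_mul, ← map_mul] at h1
    rcases hpre _ h1 with e | e
    · exact e
    · exfalso
      have h3 := hord _ e
      have hgt : Commute (g : G) D.tt := mem_centralizer_singleton_iff.1 g.2
      have hyt : Commute y D.tt := mem_centralizer_singleton_iff.1 hy.2
      have hc : Commute ((g : G) * y * (g : G)⁻¹) D.tt := (hgt.mul_left hyt).mul_left hgt.inv_left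
      have h4 : ((g : G) * y * (g : G)⁻¹ * D.tt) ^ 3 = 1 := by rw [pow_three']; exact h3
      rw [hc.mul_pow, show ((g : G) * y * (g : G)⁻¹) ^ 3 = 1 by
        rw [conj_pow, pow_three' y, hord y hy]; group, one_mul, pow_three', ht2, one_mul] at h4
      exact D.tt_ne h4
  have hNimg : normalizer ((T : Subgroup (X ⧸ Z)) : Set (X ⧸ Z)) = (D.N.subgroupOf X).map π := by
    refine le_antisymm (fun q hq => ?_) ?_
    · obtain ⟨g, rfl⟩ := hπ q
      exact ⟨g, hnorm g hq, rfl⟩
    · rintro _ ⟨g, hg, rfl⟩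
      rw [hT]
      refine mem_normalizer_fintype ?_
      rintro _ ⟨z, hz, rfl⟩
      refine ⟨g * z * g⁻¹, ⟨(mem_normalizer_iff.1 hg _).1 hz.1, (g * z * g⁻¹).2⟩, ?_⟩
      rw [map_mul, map_mul, map_inv]
  obtain ⟨L, hL, horb⟩ := orbit_groups hm
  have hcN : 2 * Nat.card (normalizer ((T : Subgroup (X ⧸ Z)) : Set (X ⧸ Z))) =
      9 * (commT L).length := by
    rw [← card_N_cent_tt hm hL horb, hNimg]
    set H := D.N.subgroupOf X
    have hle : Z ≤ H := zpowers_le.2 hR.mem
    set f := π.comp H.subtype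
    have hr : H.map π = f.range := by rw [MonoidHom.range_comp, Subgroup.range_subtype]
    have hk : Nat.card f.ker = 2 := by
      rw [show f.ker = Z.subgroupOf H by
        rw [← MonoidHom.comap_ker, hπdef, QuotientGroup.ker_mk']; rfl,
        Nat.card_congr (subgroupOfEquivOfLe hle).toEquiv, hZ2]
    rw [← subgroupOf_map_subtype D.N X, card_map_of_injective X.subtype_injective, hr,
      ← f.ker.index_mul_card, hk, Subgroup.index_ker, mul_comm]
  have hall := commT_all
  rw [List.all_eq_true] at hall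
  have hlen := hall L hL
  simp only [Bool.and_eq_true, Bool.or_eq_true, beq_iff_eq, List.all_eq_true] at hlen
  obtain ⟨hlen, hsq⟩ := hlen
  have hnormal : (T : Subgroup (X ⧸ Z)).Normal := by
    rcases hlen with (e | e) | e <;> rw [e] at hcN
    · exact hnine.normal_small ⟨2, by omega⟩
    · exact hnine.normal_small ⟨1, by omega⟩
    · refine hnine.normal_thirtysix (by omega) fun q hq => ?_
      obtain ⟨g, rfl⟩ := hπ q
      have hgN := hnorm g hq
      obtain ⟨p, -, hpo, hg⟩ := code_of hm hgN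
      have hpL : p.1 ∈ L := by
        rw [horb, Finset.mem_image] at hpo
        obtain ⟨s, hs, hse⟩ := hpo
        exact toV_facts.1 hse ▸ List.mem_toFinset.1 hs
      have hp : p ∈ commT L := by
        simp only [commT, List.mem_filter, List.mem_flatMap, List.mem_map, List.mem_finRange,
          true_and, commC_iff]
        refine ⟨⟨_, hpL, p.2, rfl⟩, fun t => toV_facts.1 ?_⟩
        rw [← hg, ← D.act_tt, ← D.act_tt, ← hg, ← D.act_mul hgN hR.mem,
          ← D.act_mul hR.mem hgN, mem_centralizer_singleton_iff.1 g.2]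
      rw [hT, ← map_mul]
      refine ⟨g * g, ⟨(D.act_J_iff (mul_mem hgN hgN)).2 fun a => ?_, (g * g).2⟩, rfl⟩
      obtain ⟨t, rfl⟩ := toV_facts.2.1 a
      rw [D.act_mul hgN hgN, hg, hg, sqC_iff.1 (hsq p hp)]
  intro g hg
  exact hnorm ⟨g, hg⟩ (by rw [normalizer_eq_top_iff.2 hnormal]; exact mem_top _)

end Data

end Cfsg.Agent.Recog.SymNine
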