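import Cfsg.Agent.Lib.Recog.SymNine.Mon
import Cfsg.Agent.Lib.Transfer.HallWielandt

/-!
Ways to see that the core is normal, passage to a subgroup, and complements of the core.
-/

set_option autoImplicit false
set_option linter.style.haveILetI false
set_option linter.unusedSectionVars false

namespace Cfsg.Agent.Recog.SymNine

open Cfsg Subgroup

universe u

namespace Data

variable {G : Type u} [Group G] [Finite G] (D : Data G)

theorem el_zero_v (σ : S3) : D.el 0 σ = D.τ σ := by rw [el, D.v_zero, one_mul]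

/-- The data seen in a subgroup. -/
def restrict (H : Subgroup G) (hJ : D.J ≤ H) (hτ : ∀ σ, D.τ σ ∈ H) : Data H where
  j := D.j.codRestrict H fun a => hJ ⟨a, rfl⟩
  τ := D.τ.codRestrict H hτ
  conj σ a := Subtype.ext (D.conj σ a)
  inj a σ h := D.inj a σ (congrArg Subtype.val h)
  cent g hg := by
    obtain ⟨a, σ, h⟩ := D.cent g (congrArg Subtype.val hg)
    exact ⟨a, σ, Subtype.ext h⟩
  sig K hK hn := by
    rw [← map_eq_bot_iff_of_injective K H.subtype_injective]
    refine D.sig _ (by rwa [card_map_of_injective H.subtype_injective]) fun a => ?_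
    conv_rhs => rw [← hn a]
    rw [Subgroup.map_map, Subgroup.map_map]
    rfl

theorem restrict_v (H : Subgroup G) (hJ : D.J ≤ H) (hτ : ∀ σ, D.τ σ ∈ H) (a : V3) :
    (((D.restrict H hJ hτ).v a : H) : G) = D.v a := rfl

theorem restrict_J (H : Subgroup G) (hJ : D.J ≤ H) (hτ : ∀ σ, D.τ σ ∈ H) :
    (D.restrict H hJ hτ).J = D.J.subgroupOf H := by
  ext g
  rw [(D.restrict H hJ hτ).mem_J, mem_subgroupOf, D.mem_J]
  exact exists_congr fun a => ⟨fun h => h ▸ rfl, fun h => Subtype.ext h⟩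

theorem restrict_N (H : Subgroup G) (hJ : D.J ≤ H) (hτ : ∀ σ, D.τ σ ∈ H) :
    (D.restrict H hJ hτ).N = D.N.subgroupOf H := by
  have hJeq := D.restrict_J H hJ hτ
  ext g
  rw [Data.N, hJeq, mem_subgroupOf]
  refine ⟨fun hg => mem_normalizer_fintype fun y hy => ?_, fun hg => mem_normalizer_fintype fun y hy => ?_⟩
  · exact (mem_normalizer_iff.1 hg ⟨y, hJ hy⟩).1 hy
  · exact (mem_normalizer_iff.1 hg _).1 hy

theorem restrict_act (H : Subgroup G) (hJ : D.J ≤ H) (hτ : ∀ σ, D.τ σ ∈ H) {g : H}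
    (hg : (g : G) ∈ D.N) (a : V3) : (D.restrict H hJ hτ).act g a = D.act g a :=
  (D.restrict H hJ hτ).act_eq (Subtype.ext (D.act_spec hg a))

theorem normal_of_N_top (h : D.N = ⊤) : D.J.Normal := normalizer_eq_top_iff.1 h

theorem normal_of_P_normal (hP : D.P.Normal) : D.J.Normal := by
  refine D.normal_of_N_top (eq_top_iff.2 fun g _ => ?_)
  have hxP : D.x ∈ D.P := D.J_le_P (D.v_mem one3)
  rcases D.center_P (hP.conj_mem _ hxP g) (fun y hy => by
    have h := mem_centralizer_singleton_iff.1 (D.P_le_cent (hP.conj_mem _ hy g⁻¹))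
    rw [inv_inv] at h
    calc g * D.x * g⁻¹ * y = g * (D.x * (g⁻¹ * y * g)) * g⁻¹ := by group
      _ = _ := by rw [← h]; group) with e | e | e
  · exact absurd (conj_eq_one_iff.1 e) D.x_ne
  · exact D.mem_N_of_conj_x (Or.inl e)
  · exact D.mem_N_of_conj_x (Or.inr e)

theorem eq_J_in_P {A : Subgroup G} (hA : A ≤ D.P) (hcard : Nat.card A = 27)
    (hcomm : ∀ y ∈ A, ∀ z ∈ A, y * z = z * y) (hexp : ∀ y ∈ A, y * y * y = 1) : A = D.J :=
  D.eq_J (hA.trans D.P_le_cent) hcard hcomm hexp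

theorem eq_J_conj (g : G) (hg : D.J.map (MulAut.conj g).toMonoidHom ≤ D.P) :
    D.J.map (MulAut.conj g).toMonoidHom = D.J := by
  refine D.eq_J_in_P hg (by rw [card_map_of_injective (MulAut.conj g).injective, D.card_J]) ?_ ?_
  · rintro _ ⟨y, hy, rfl⟩ _ ⟨z, hz, rfl⟩
    rw [← map_mul, ← map_mul, D.J_comm hy hz]
  · rintro _ ⟨y, hy, rfl⟩
    obtain ⟨a, rfl⟩ := D.mem_J.1 hy
    rw [← map_mul, ← map_mul, D.cube, map_one]

/-- A normal subgroup whose intersection with the normalizer is the Sylow subgroup. -/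
theorem normal_of_meet {M : Subgroup G} [M.Normal] (hP : D.P ≤ M) (hMN : M ⊓ D.N ≤ D.P) :
    D.J.Normal := by
  haveI : Fact (Nat.Prime 3) := ⟨Nat.prime_three⟩
  let T : Sylow 3 M := ⟨D.P.subgroupOf M, D.isPGroup_P.comap_subtype, fun {Q} hQ hle => by
    have h1 : D.P ≤ Q.map M.subtype := fun x hx => ⟨⟨x, hP hx⟩, hle hx, rfl⟩
    refine le_antisymm (fun q hq => ?_) hle
    show (q : G) ∈ D.P
    rw [← D.eq_P_of_le (hQ.map _) h1]
    exact ⟨q, hq, rfl⟩⟩
  set Q := D.J.subgroupOf M with hQdef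
  have hJM : D.J ≤ M := D.J_le_P.trans hP
  have hwc : IsWeaklyClosed Q (T : Subgroup M) := by
    refine ⟨fun y hy => D.J_le_P hy, fun g hg => ?_⟩
    have hmap : (Q.map (MulAut.conj g).toMonoidHom).map M.subtype =
        D.J.map (MulAut.conj (g : G)).toMonoidHom := by
      ext y
      exact ⟨fun ⟨_, ⟨q, hq, h1⟩, h2⟩ => ⟨q, hq, by rw [← h2, ← h1]; rfl⟩,
        fun ⟨q, hq, h1⟩ => ⟨_, ⟨⟨q, hJM hq⟩, hq, rfl⟩, h1⟩⟩
    refine Subgroup.map_injective M.subtype_injective ?_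
    rw [hmap, hQdef, subgroupOf_map_subtype, inf_eq_left.2 hJM]
    refine D.eq_J_conj g ?_
    rw [← hmap]
    rintro _ ⟨y, hy, rfl⟩
    exact hg hy
  have hstep : ∀ y ∈ (T : Subgroup M), ∀ z ∈ Q, (Transfer.HallWielandt.step z)^[3 - 1] y = 1 := by
    intro y hy z hz
    have h1 : (y : G)⁻¹ * (z : G)⁻¹ * y * z ∈ D.J := by
      refine mul_mem ?_ hz
      have h := (mem_normalizer_iff.1 (D.P_le_N (inv_mem hy : (y : G)⁻¹ ∈ D.P)) _).1 (inv_mem hz)
      rwa [inv_inv] at h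
    have h3 := D.J_comm h1 (show (z : G) ∈ D.J from hz)
    refine Subtype.ext ?_
    show ((y : G)⁻¹ * (z : G)⁻¹ * y * z)⁻¹ * (z : G)⁻¹ * ((y : G)⁻¹ * (z : G)⁻¹ * y * z) * z = 1
    rw [mul_assoc _ _ (z : G), h3]
    group
  have hres := Transfer.HallWielandt.pResidual_inf_le T Q hwc hstep
  set N := normalizer (Q : Set M)
  have hNP : N ≤ (T : Subgroup M) := fun g hg => hMN ⟨g.2, mem_normalizer_fintype fun n hn =>
    (mem_normalizer_iff.1 hg ⟨n, hJM hn⟩).1 hn⟩
  have hbot : pResidual 3 N = ⊥ :=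
    Transfer.pResidual_eq_bot_of_isPGroup (T.isPGroup'.to_le hNP)
  rw [hbot, Subgroup.map_bot] at hres
  haveI := Transfer.pResidual_characteristic 3 M
  haveI : ((pResidual 3 M).map M.subtype).Normal := ConjAct.normal_of_characteristic_of_normal
  have hcop : (Nat.card (pResidual 3 M)).Coprime 3 := by
    rw [Nat.coprime_comm, Nat.Prime.coprime_iff_not_dvd Nat.prime_three]
    intro hd
    obtain ⟨m, hm⟩ := exists_prime_orderOf_dvd_card' 3 hd
    obtain ⟨R, hR⟩ := (IsPGroup.of_card (n := 1) (by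
      rw [Nat.card_zpowers, Subgroup.orderOf_coe, hm, pow_one]) :
      IsPGroup 3 (zpowers (m : M))).exists_le_sylow
    obtain ⟨c, hc⟩ := MulAction.exists_smul_eq M R T
    have h1 : c * (m : M) * c⁻¹ ∈ (T : Subgroup M) := by
      rw [← hc, Sylow.coe_subgroup_smul]
      exact Subgroup.smul_mem_pointwise_smul _ (MulAut.conj c) _ (hR (mem_zpowers _))
    have h2 := hres ⟨Subgroup.Normal.conj_mem inferInstance _ m.2 c, h1⟩
    rw [mem_bot, conj_eq_one_iff, OneMemClass.coe_eq_one] at h2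
    rw [h2, orderOf_one] at hm
    omega
  have hres1 : pResidual 3 M = ⊥ := by
    rw [← map_eq_bot_iff_of_injective _ M.subtype_injective]
    exact D.sig _ (by rwa [card_map_of_injective M.subtype_injective]) fun a => by
      ext g
      exact ⟨fun ⟨y, hy, h⟩ => h ▸ Subgroup.Normal.conj_mem inferInstance y hy _,
        fun hg => ⟨_, Subgroup.Normal.conj_mem inferInstance g hg (D.j a)⁻¹, by
          show D.j a * ((D.j a)⁻¹ * g * (D.j a)⁻¹⁻¹) * (D.j a)⁻¹ = g
          group⟩⟩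
  refine D.normal_of_P_normal ?_
  have htop : (⊤ : Subgroup M) = T := by
    rw [← Transfer.sylow_sup_pResidual T, hres1, sup_bot_eq]
  have hMP : M = D.P := le_antisymm (fun g hg =>
    (show (⟨g, hg⟩ : M) ∈ (T : Subgroup M) from htop ▸ mem_top _)) hP
  rw [← hMP]; infer_instance

/-- Descent from a normal subgroup containing the Sylow subgroup. -/
theorem normal_of_normal_sub {H : Subgroup G} [H.Normal] (hP : D.P ≤ H)
    (h : (D.J.subgroupOf H).Normal) : D.J.Normal := by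
  haveI : Fact (Nat.Prime 3) := ⟨Nat.prime_three⟩
  refine ⟨fun y hy g => ?_⟩
  set A := D.J.map (MulAut.conj g).toMonoidHom
  have hJH : D.J ≤ H := D.J_le_P.trans hP
  have hAH : A ≤ H := by
    rintro _ ⟨z, hz, rfl⟩
    exact Subgroup.Normal.conj_mem inferInstance z (hJH hz) g
  have hAn : D.P ≤ normalizer (A : Set G) := fun p hp => mem_normalizer_fintype fun a ha => by
    obtain ⟨z, hz, rfl⟩ := ha
    have hm : (⟨g⁻¹ * p * g, by
        have h1 := Subgroup.Normal.conj_mem ‹H.Normal› p (hP hp) g⁻¹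
        rwa [inv_inv] at h1⟩ : H) * ⟨z, hJH hz⟩ *
        (⟨g⁻¹ * p * g, by
          have h1 := Subgroup.Normal.conj_mem ‹H.Normal› p (hP hp) g⁻¹
          rwa [inv_inv] at h1⟩ : H)⁻¹ ∈ D.J.subgroupOf H := h.conj_mem _ hz _
    refine ⟨g⁻¹ * p * g * z * (g⁻¹ * p * g)⁻¹, hm, ?_⟩
    show g * (g⁻¹ * p * g * z * (g⁻¹ * p * g)⁻¹) * g⁻¹ = p * (g * z * g⁻¹) * p⁻¹
    group
  have hsup : IsPGroup 3 (A ⊔ D.P : Subgroup G) :=
    (D.isPGroup_J.map _).to_sup_of_normal_left' D.isPGroup_P hAn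
  have hle : A ≤ D.P := le_sup_left.trans (D.eq_P_of_le hsup le_sup_right).le
  have hA := D.eq_J_conj g hle
  exact hA ▸ ⟨y, hy, rfl⟩

variable {D}

namespace Monomial

variable (hm : D.Monomial)

include hm

/-- An involution acting as minus one. -/
theorem exists_neg (hA : -one3 ∈ D.orbit) :
    ∃ z ∈ D.N, z * z = 1 ∧ ∀ a, D.act z a = -a := by
  obtain ⟨n, hn, h⟩ := hm.realise hA 1
  have hneg : ∀ a, D.act n a = -a := fun a => by
    rw [h]; funext i; simp [mon, one3]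
  have h2 : n * n ∈ D.J := (D.act_J_iff (mul_mem hn hn)).2 fun a => by
    rw [D.act_mul hn hn, hneg, hneg, neg_neg]
  refine ⟨n * n * n, mul_mem (mul_mem hn hn) hn, ?_, fun a => ?_⟩
  · obtain ⟨b, hb⟩ := D.mem_J.1 h2
    calc n * n * n * (n * n * n) = n * n * (n * n) * (n * n) := by group
      _ = 1 := by rw [← hb, D.cube]
  · rw [D.act_mul (mul_mem hn hn) hn, D.act_J h2, hneg]

/-- The centralizer of an involution acting as minus one is a complement of the core. -/
theorem exists_complement {z : G} (hz : z ∈ D.N) (hz2 : z * z = 1) (hza : ∀ a, D.act z a = -a) :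
    ∃ κ : V3 → S3 → G, (∀ e ∈ D.orbit, ∀ σ, κ e σ ∈ D.N ∧ Commute (κ e σ) z ∧
        ∀ a, D.act (κ e σ) a = mon e σ a) ∧
      (∀ e ∈ D.orbit, ∀ σ, ∀ e' ∈ D.orbit, ∀ σ', κ e σ * κ e' σ' = κ (e * pm σ e') (σ * σ')) ∧
      (∀ g ∈ D.N, Commute g z → ∃ e ∈ D.orbit, ∃ σ, g = κ e σ) := by
  classical
  have huniq : ∀ g ∈ D.N, ∀ g' ∈ D.N, Commute g z → Commute g' z →
      (∀ a, D.act g a = D.act g' a) → g = g' := fun g hg g' hg' hc hc' hact => by
    obtain ⟨b, hb⟩ := D.mem_J.1 (hm.inv_mul_mem_J hg hg' hact)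
    have hcb : Commute (D.v b) z := hb ▸ (hc.inv_left.mul_left hc')
    have h0 : -b = b := by
      rw [← hza]
      refine D.act_eq ?_
      rw [← hcb.eq, mul_inv_cancel_right]
    have : b = 0 := (show ∀ b : V3, -b = b → b = 0 by decide +kernel) b h0
    rw [this, D.v_zero] at hb
    exact inv_mul_eq_one.1 hb.symm
  have hex : ∀ e : V3, ∀ σ : S3, ∃ g : G, e ∈ D.orbit →
      g ∈ D.N ∧ Commute g z ∧ ∀ a, D.act g a = mon e σ a := fun e σ => by
    by_cases he : e ∈ D.orbit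
    swap
    · exact ⟨1, fun h => absurd h he⟩
    obtain ⟨n, hn, h⟩ := hm.realise he σ
    have hzn : z⁻¹ = z := inv_eq_of_mul_eq_one_right hz2
    have hj : n⁻¹ * (z * n * z) ∈ D.J := by
      refine hm.inv_mul_mem_J hn (mul_mem (mul_mem hz hn) hz) fun a => ?_
      rw [D.act_mul (mul_mem hz hn) hz, D.act_mul hz hn, hza, hza, D.act_neg hn, neg_neg]
    obtain ⟨b, hb⟩ := D.mem_J.1 hj
    refine ⟨n * D.v (-b), fun _ => ⟨mul_mem hn (D.J_le_N (D.v_mem _)), ?_, fun a => ?_⟩⟩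
    · have hzb : z * D.v (-b) * z = D.v b := by
        have := D.act_spec hz (-b)
        rwa [hzn, hza, neg_neg] at this
      have hzn' : z * n * z = n * D.v b := by rw [hb]; group
      have hbb : D.v b * D.v b = D.v (-b) := by
        rw [D.v_neg, eq_comm]
        exact inv_eq_of_mul_eq_one_left (D.cube b)
      show n * D.v (-b) * z = z * (n * D.v (-b))
      calc n * D.v (-b) * z = n * (D.v b * D.v b) * z := by rw [hbb]
        _ = z * n * z * (z * D.v (-b) * z) * z := by rw [hzn', hzb]; group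
        _ = z * n * (z * z) * D.v (-b) * (z * z) := by group
        _ = z * (n * D.v (-b)) := by rw [hz2]; group
    · rw [D.act_mul hn (D.J_le_N (D.v_mem _)), D.act_J (D.v_mem _), h]
  choose κ hκ using hex
  refine ⟨κ, fun e he σ => hκ e σ he, fun e he σ e' he' σ' => ?_, fun g hg hc => ?_⟩
  · obtain ⟨h1, h2, h3⟩ := hκ e σ he
    obtain ⟨h4, h5, h6⟩ := hκ e' σ' he'
    obtain ⟨h7, h8, h9⟩ := hκ (e * pm σ e') (σ * σ') (hm.orbit_mul he (D.pm_orbit σ he'))
    exact huniq _ (mul_mem h1 h4) _ h7 (h2.mul_left h5) h8 fun a => by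
      rw [D.act_mul h1 h4, h6, h3, h9, mon_comp]
  · obtain ⟨e, -, σ, h⟩ := hm g hg
    have he := hm.sign_mem hg h
    obtain ⟨h1, h2, h3⟩ := hκ e σ he
    exact ⟨e, he, σ, huniq g hg _ h1 hc h2 fun a => by rw [h, h3]⟩

end Monomial

end Data

end Cfsg.Agent.Recog.SymNine
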