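import Cfsg.Agent.Lib.Recog.SymNine.Kappa
import Cfsg.Agent.Lib.Invol.ThompsonTransferDihedral

/-!
Involutions in the full case: the inversions of one block, the sign involution, the transposition of
two blocks and the involutions with a line of fixed points.
-/

set_option autoImplicit false
set_option linter.style.haveILetI false
set_option linter.unusedSectionVars false
set_option maxRecDepth 100000
set_option synthInstance.maxSize 4096

namespace Cfsg.Agent.Recog.SymNine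

open Cfsg Subgroup

universe u

theorem fv0_code : toV (2, 1, 1) = fv0 ∧ pc 0 = 1 ∧ pc 3 = tr ∧
    (fixT (((2, 1, 1), 0) : T3 × Fin 6)).length = 9 ∧
    (∀ b : V3, mon fv0 1 b = b → b ∉ cubeL ∧ -b ∉ cubeL) ∧
    pm cyc one3 = one3 ∧ pm cyc (-one3) = -one3 ∧ cyc ≠ 1 ∧ Equiv.Perm.sign cyc = 1 := by decide +kernel

/-- The five codes with a line of fixed points, with a vector on the line. -/
def roList : List ((T3 × Fin 6) × T3) :=
  [(((1, 2, 2), 0), (1, 0, 0)), (((2, 1, 2), 0), (0, 1, 0)), (((2, 2, 1), 0), (0, 0, 1)),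
    (((2, 1, 1), 3), (0, 1, 1)), (((2, 2, 2), 3), (0, 1, 2))]

theorem ro_facts : ∀ p ∈ roList, toV p.1.1 ∈ cubeL ∧ (fixT p.1).length = 3 ∧ am p.1 p.2 = p.2 ∧
    toV p.2 ≠ 0 ∧ toV p.2 ∉ cubeL ∧ -toV p.2 ∉ cubeL := by decide +kernel

theorem two_set : ∀ σ σ' : S3, (σ = 1 ∨ σ = tr) → (σ' = 1 ∨ σ' = tr) →
    (σ * σ' = 1 ∨ σ * σ' = tr) ∧ (σ⁻¹ = 1 ∨ σ⁻¹ = tr) := by decide +kernel

namespace Data

variable {G : Type u} [Group G] [Finite G] {D : Data G}

theorem not_orb_of_full (h : D.orbit = cubeL.toFinset) {b : V3} (h1 : b ∉ cubeL) (h2 : -b ∉ cubeL) :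
    ¬ D.Orb b := by
  rw [D.orb_iff, h, List.mem_toFinset, List.mem_toFinset]
  exact not_or.2 ⟨h1, h2⟩

/-- A reflection whose plane avoids the orbit is not fused to an involution centralizing the central
element. -/
theorem Refl.not_conj_x {s y g : G} (h : Refl D s) (hm : D.Monomial)
    (hs : ∀ b, D.v b ∈ D.fixJ s → ¬ D.Orb b) (hy : Commute (D.v one3) y) : g * y * g⁻¹ ≠ s := fun e => by
  have hc : g * D.v one3 * g⁻¹ ∈ centralizer ({s} : Set G) := by
    rw [mem_centralizer_singleton_iff, ← e]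
    calc g * D.v one3 * g⁻¹ * (g * y * g⁻¹) = g * (D.v one3 * y) * g⁻¹ := by group
      _ = _ := by rw [hy.eq]; group
  have hp : IsPGroup 3 (zpowers (g * D.v one3 * g⁻¹)) := IsPGroup.of_card (n := 1) (by
    rw [Nat.card_zpowers, show g * D.v one3 * g⁻¹ = MulAut.conj g (D.v one3) from rfl,
      MulEquiv.orderOf_eq, D.orderOf_v one3_ne, pow_one])
  obtain ⟨d, -, hd⟩ := h.conj_into hm hp (zpowers_le.2 hc)
  have hd' := hd _ (mem_zpowers _)
  obtain ⟨b, hb⟩ := D.mem_J.1 hd'.1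
  obtain ⟨n, hn, hnb⟩ := D.fusion (a := one3) (b := b) one3_ne (g := d * g) (by rw [hb]; group)
  exact hs b (hb ▸ hd') ⟨n, hn, Or.inl hnb⟩

namespace Kappa

variable {κ : V3 → S3 → G} (K : Kappa D κ)

include K

theorem tt_eq : κ one3 tr = D.tt := K.perm tr

theorem commute {e e' : V3} (he : e ∈ cubeL) (he' : e' ∈ cubeL) {σ σ' : S3}
    (h1 : e * pm σ e' = e' * pm σ' e) (h2 : σ * σ' = σ' * σ) : Commute (κ e σ) (κ e' σ') := by
  show κ e σ * κ e' σ' = κ e' σ' * κ e σ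
  rw [K.mul e he σ e' he' σ', K.mul e' he' σ' e he σ, h1, h2]

theorem sq {e : V3} (he : e ∈ cubeL) {σ : S3} (h1 : e * pm σ e = one3) (h2 : σ * σ = 1) :
    κ e σ * κ e σ = 1 := by
  rw [K.mul e he σ e he σ, h1, h2, K.one]

theorem inj {e e' : V3} (he : e ∈ cubeL) (he' : e' ∈ cubeL) {σ σ' : S3} (h : κ e σ = κ e' σ') :
    e = e' ∧ σ = σ' := (K.pair_inj he he' (a := 0) (a' := 0) (by rw [D.v_zero, h])).2

theorem refl_f0 : Refl D (κ fv0 1) where
  mem := K.mem _ fv_facts.1 _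
  sq := K.sq fv_facts.1 (by rw [pm_one]; exact cubeL_sq _ fv_facts.1) (one_mul 1)
  plane := by
    rw [card_fix_code (K.mem _ fv_facts.1 _) (p := ((2, 1, 1), 0)) fun t => ?_, fv0_code.2.2.2.1]
    rw [K.act _ fv_facts.1, ← mon_code, fv0_code.1, fv0_code.2.1]

theorem plane_f0 (h : D.orbit = cubeL.toFinset) (b : V3) (hb : D.v b ∈ D.fixJ (κ fv0 1)) :
    ¬ D.Orb b := by
  have h1 := (D.v_mem_fixJ (K.mem _ fv_facts.1 _)).1 hb
  rw [K.act _ fv_facts.1] at h1
  obtain ⟨n1, n2⟩ := fv0_code.2.2.2.2.1 b h1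
  exact not_orb_of_full h n1 n2

/-- The inversion of one block is not fused to minus one. -/
theorem not_conj_neg (hm : D.Monomial) (h : D.orbit = cubeL.toFinset) (g : G) :
    g * κ (-one3) 1 * g⁻¹ ≠ κ fv0 1 := by
  obtain ⟨-, -, -, -, -, hc1, hc2, hcyc, hsign⟩ := fv0_code
  refine K.refl_f0.not_conj_outside hm (K.plane_f0 h) (c := D.el 0 cyc) ⟨0, cyc, hsign, rfl⟩
    (fun hJ => hcyc (pm_faithful fun b => ?_)) ?_
  · rw [← D.act_el 0, D.act_J hJ]
  · rw [← K.perm]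
    refine K.commute one3_cube.1 one3_cube.2 ?_ (by rw [mul_one, one_mul])
    rw [hc2, pm_one, show one3 * -one3 = -one3 * one3 from mul_comm _ _]

/-- The transposition is not fused to the inversion of one block. -/
theorem not_conj_tt (hm : D.Monomial) (h : D.orbit = cubeL.toFinset) (g : G) :
    g * D.tt * g⁻¹ ≠ κ fv0 1 := by
  refine K.refl_f0.not_conj_x hm (K.plane_f0 h) ?_
  show D.v one3 * D.tt = D.tt * D.v one3
  exact (D.el_comm_x 0 tr).symm

/-- A reflection is not fused to an involution with a line of fixed points. -/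
theorem not_conj_ro (h : D.orbit = cubeL.toFinset) {s : G} (hs : Refl D s) {p : (T3 × Fin 6) × T3}
    (hp : p ∈ roList) (hle : D.Cv (toV p.2) ≤ D.N) (g : G) :
    g * s * g⁻¹ ≠ κ (toV p.1.1) (pc p.1.2) := by
  obtain ⟨he, hlen, hfix, hne, n1, n2⟩ := ro_facts p hp
  have hN := K.mem _ he (pc p.1.2)
  have hact : ∀ t, D.act (κ (toV p.1.1) (pc p.1.2)) (toV t) = toV (am p.1 t) := fun t => by
    rw [K.act _ he, mon_code]
  exact hs.not_conj hne (not_orb_of_full h n1 n2) hle ((D.v_mem_fixJ hN).2 (by rw [hact, hfix]))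
    (by rw [card_fix_code hN hact, hlen])

/-- The monomial part of a Sylow two-subgroup. -/
def twoS : Subgroup G where
  carrier := {g | ∃ e ∈ cubeL, ∃ σ, (σ = 1 ∨ σ = tr) ∧ g = κ e σ}
  one_mem' := ⟨one3, one3_cube.1, 1, Or.inl rfl, K.one.symm⟩
  mul_mem' := by
    rintro _ _ ⟨e, he, σ, hσ, rfl⟩ ⟨e', he', σ', hσ', rfl⟩
    exact ⟨_, cubeL_mul he (cubeL_pm he' σ), _, (two_set σ σ' hσ hσ').1, K.mul e he σ e' he' σ'⟩
  inv_mem' := by
    rintro _ ⟨e, he, σ, hσ, rfl⟩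
    refine ⟨_, cubeL_pm he σ⁻¹, σ⁻¹, (two_set σ σ hσ hσ).2, inv_eq_of_mul_eq_one_right ?_⟩
    rw [K.mul e he σ _ (cubeL_pm he σ⁻¹), ← pm_mul, mul_inv_cancel, pm_one, cubeL_sq e he, K.one]

theorem mem_twoS {g : G} : g ∈ K.twoS ↔ ∃ e ∈ cubeL, ∃ σ, (σ = 1 ∨ σ = tr) ∧ g = κ e σ := Iff.rfl

theorem twoS_mem {e : V3} (he : e ∈ cubeL) {σ : S3} (hσ : σ = 1 ∨ σ = tr) : κ e σ ∈ K.twoS :=
  ⟨e, he, σ, hσ, rfl⟩

theorem twoS_le : K.twoS ≤ D.N := by
  rintro _ ⟨e, he, σ, -, rfl⟩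
  exact K.mem e he σ

theorem card_twoS : Nat.card K.twoS = 16 := by
  classical
  let s : Finset (V3 × S3) := cubeL.toFinset ×ˢ {1, tr}
  have hs : ∀ p : s, (p : V3 × S3).1 ∈ cubeL ∧ ((p : V3 × S3).2 = 1 ∨ (p : V3 × S3).2 = tr) := by
    rintro ⟨⟨e, σ⟩, hp⟩
    obtain ⟨h1, h2⟩ := Finset.mem_product.1 hp
    rw [Finset.mem_insert, Finset.mem_singleton] at h2
    exact ⟨List.mem_toFinset.1 h1, h2⟩
  let f : s → K.twoS := fun p => ⟨κ (p : V3 × S3).1 (p : V3 × S3).2, K.twoS_mem (hs p).1 (hs p).2⟩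
  have hb : Function.Bijective f := by
    refine ⟨fun p q e => ?_, ?_⟩
    · obtain ⟨h1, h2⟩ := K.inj (hs p).1 (hs q).1 (congrArg Subtype.val e)
      exact Subtype.ext (Prod.ext h1 h2)
    · rintro ⟨_, e, he, σ, hσ, rfl⟩
      exact ⟨⟨(e, σ), Finset.mem_product.2 ⟨List.mem_toFinset.2 he, by
        rw [Finset.mem_insert, Finset.mem_singleton]; exact hσ⟩⟩, rfl⟩
  rw [← Nat.card_eq_of_bijective f hb, Nat.card_eq_finsetCard, Finset.card_product,
    show ({1, tr} : Finset S3).card = 2 by decide +kernel,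
    show cubeL.toFinset.card = 8 by decide +kernel]

theorem isPGroup_twoS : IsPGroup 2 K.twoS := IsPGroup.of_card (n := 4) (by rw [K.card_twoS]; rfl)

theorem twoS_max (h : D.orbit = cubeL.toFinset) (R : Subgroup G) (hR : IsPGroup 2 R)
    (hle : K.twoS ≤ R) (hRN : R ≤ D.N) : R = K.twoS := by
  haveI : Fact (Nat.Prime 2) := ⟨Nat.prime_two⟩
  refine (Subgroup.eq_of_le_of_card_ge hle ?_).symm
  obtain ⟨n, hn⟩ := IsPGroup.iff_card.1 hR
  have hd : Nat.card R ∣ 16 * 81 := by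
    have h1 := Subgroup.card_dvd_of_le hRN
    rwa [D.card_N, h, show cubeL.toFinset.card * 162 = 16 * 81 by decide +kernel] at h1
  rw [hn] at hd
  rw [K.card_twoS, hn]
  exact Nat.le_of_dvd (by norm_num)
    ((Nat.Coprime.pow_left n (by norm_num : Nat.Coprime 2 81)).dvd_of_dvd_mul_right hd)

end Kappa

end Data

end Cfsg.Agent.Recog.SymNine
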