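import Cfsg.Agent.Lib.Recog.SymNine.Glue

/-!
In the copy of degree nine, the conjugates of the inversion of one block are the transpositions; a
Sylow two-subgroup of the copy is one of the group.
-/

set_option autoImplicit false
set_option linter.style.haveILetI false
set_option linter.unusedSectionVars false
set_option maxRecDepth 100000
set_option synthInstance.maxSize 4096

namespace Cfsg.Agent.Recog.SymNine

open Cfsg Subgroup Equiv

universe u

/-- Elements of the same prime order moving the same number of points are conjugate. -/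
theorem prime_conj {n p : ℕ} (hp : p.Prime) {a b : Perm (Fin n)} (ha : orderOf a = p)
    (hb : orderOf b = p) (h : a.support.card = b.support.card) : IsConj a b := by
  have key : ∀ c : Perm (Fin n), orderOf c = p →
      c.cycleType = Multiset.replicate (c.support.card / p) p := fun c hc => by
    obtain ⟨k, hk⟩ := Perm.cycleType_prime_order (σ := c) (by rw [hc]; exact hp)
    rw [hc] at hk
    have hsum := Perm.sum_cycleType c
    rw [hk, Multiset.sum_replicate, smul_eq_mul] at hsum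
    rw [hk, ← hsum, Nat.mul_div_cancel _ hp.pos]
  exact Perm.isConj_iff_cycleType_eq.2 (by rw [key a ha, key b hb, h])

/-- The four transpositions. -/
def fourSwaps : Fin 4 → Perm (Fin 9) := ![swap 1 2, swap 4 5, swap 7 8, swap 3 6]

/-- The involution with the four transpositions as cycles. -/
def mate : Perm (Fin 9) := swap 1 2 * swap 4 5 * swap 7 8 * swap 3 6

theorem mate_sq : ∀ t, mate (mate t) = t := by decide +kernel

/-- The permutations preserving each of the four pairs. -/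
def pairs : Subgroup (Perm (Fin 9)) where
  carrier := {x | ∀ t, x t = t ∨ x t = mate t}
  one_mem' _ := Or.inl rfl
  mul_mem' {x y} hx hy t := by
    rw [Perm.mul_apply]
    rcases hy t with e | e <;> rw [e]
    · exact hx t
    · rcases hx (mate t) with e' | e' <;> rw [e']
      · exact Or.inr rfl
      · exact Or.inl (mate_sq t)
  inv_mem' {x} hx t := by
    rcases hx (x⁻¹ t) with e | e <;> rw [show x (x⁻¹ t) = t from x.apply_symm_apply t] at e
    · exact Or.inl e.symm
    · exact Or.inr (by conv_rhs => rw [e, mate_sq])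

theorem mem_pairs {x : Perm (Fin 9)} : x ∈ pairs ↔ ∀ t, x t = t ∨ x t = mate t := Iff.rfl

theorem pairs_sq {x : Perm (Fin 9)} (hx : x ∈ pairs) : x * x = 1 := by
  ext t
  rw [Perm.mul_apply, Perm.one_apply]
  rcases hx t with e | e
  · rw [e, e]
  · rcases hx (mate t) with e' | e'
    · rw [e, e']
      exact congrArg Fin.val (x.injective (e'.trans e.symm))
    · rw [e, e', mate_sq]

theorem pairs_gens : (∀ i, ∀ t, fourSwaps i t = t ∨ fourSwaps i t = mate t) ∧
    (∀ e ∈ cubeL, ∀ t, sgn e t = t ∨ sgn e t = mate t) := by decide +kernel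

theorem swap_forced : ∀ a b : Fin 9, a ≠ b → (∃ i, swap a b = fourSwaps i) ∨
    ∃ i, swap a b * fourSwaps i * (swap a b * fourSwaps i) * (swap a b * fourSwaps i) = 1 ∧
      swap a b * fourSwaps i ≠ 1 := by decide +kernel

theorem fused_data :
    (eA (pF * pG)).support.card = 4 ∧ eA (pF * pG) * eA (pF * pG) = 1 ∧
    (swap 1 2 * eA (pF * pG)).support.card = 6 ∧
    swap 1 2 * eA (pF * pG) * (swap 1 2 * eA (pF * pG)) = 1 ∧
    (swap 1 2 * eA pT).support.card = 8 ∧ swap 1 2 * eA pT * (swap 1 2 * eA pT) = 1 ∧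
    eA (pF * pG) ≠ 1 ∧ swap 1 2 * eA (pF * pG) ≠ 1 ∧ swap 1 2 * eA pT ≠ 1 ∧
    eA pF = fourSwaps 1 ∧ eA pG = fourSwaps 2 ∧ eA pR = fourSwaps 3 ∧ fourSwaps 0 = swap 1 2 ∧
    md 0 fv0 1 = swap 1 2 ∧ Function.Injective fourSwaps ∧ (∀ i, Perm.sign (fourSwaps i) = -1) := by
  decide +kernel

namespace Data

variable {G : Type u} [Group G] [Finite G] {D : Data G}

/-- A copy of the symmetric group of degree nine. -/
structure Glue (D : Data G) (κ : V3 → S3 → G) (ι : S6 →* G) (Φ : Perm (Fin 9) →* G) : Prop where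
  six : Six D κ ι
  inj : Function.Injective Φ
  model : ∀ a, ∀ e ∈ cubeL, ∀ σ, Φ (md a e σ) = D.v a * κ e σ
  last : ∀ τ, Φ (eA τ) = ι τ

namespace Glue

variable {κ : V3 → S3 → G} {ι : S6 →* G} {Φ : Perm (Fin 9) →* G} (H : Glue D κ ι Φ)

include H

theorem flip : Φ (swap 1 2) = κ fv0 1 := by
  rw [← fused_data.2.2.2.2.2.2.2.2.2.2.2.2.2.1, H.model 0 fv0 fv_facts.1 1, D.v_zero, one_mul]

/-- The conjugates of the inversion of one block in the copy are the transpositions. -/
theorem fused_swap {y : Perm (Fin 9)} {g : G} (h : g * κ fv0 1 * g⁻¹ = Φ y) : y.IsSwap := by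
  haveI : Fact (Nat.Prime 2) := ⟨Nat.prime_two⟩
  obtain ⟨d4, d4s, d6, d6s, d8, d8s, n4, n6, n8, -⟩ := fused_data
  have hy2 : y * y = 1 := H.inj (by
    rw [map_mul, map_one, ← h,
      show g * κ fv0 1 * g⁻¹ * (g * κ fv0 1 * g⁻¹) = g * (κ fv0 1 * κ fv0 1) * g⁻¹ by group,
      H.six.kappa.refl_f0.sq, mul_one, mul_inv_cancel])
  have hy1 : y ≠ 1 := fun e => by
    rw [e, map_one, conj_eq_one_iff, ← H.six.kappa.one] at h
    exact absurd (H.six.kappa.inj fv_facts.1 one3_cube.1 h).1 (by decide +kernel)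
  have ho : ∀ {x : Perm (Fin 9)}, x * x = 1 → x ≠ 1 → orderOf x = 2 := fun hx hx1 =>
    orderOf_eq_prime (by rw [pow_two, hx]) hx1
  have hkill : ∀ {x : Perm (Fin 9)}, x * x = 1 → x ≠ 1 → Off κ (Φ x) →
      y.support.card ≠ x.support.card := fun {x} hx hx1 hoff he => by
    obtain ⟨c, hc⟩ := isConj_iff.1 (prime_conj Nat.prime_two (ho hy2 hy1) (ho hx hx1) he)
    refine hoff.of_conj (c := Φ c) ?_ g h
    rw [← map_inv, ← map_mul, ← map_mul, hc]
  obtain ⟨k, hk⟩ := Perm.cycleType_prime_order (σ := y) (by rw [ho hy2 hy1]; exact Nat.prime_two)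
  have hsum := Perm.sum_cycleType y
  rw [hk, ho hy2 hy1, Multiset.sum_replicate, smul_eq_mul] at hsum
  have hle : y.support.card ≤ 9 := (Finset.card_le_univ _).trans (le_of_eq (by simp))
  rw [← Perm.card_support_eq_two]
  have k4 := hkill d4s n4 (by rw [H.last]; exact H.six.off_double)
  have k6 := hkill d6s n6 (by rw [map_mul, H.last, H.flip]; exact H.six.off_neg)
  have k8 := hkill d8s n8 (by rw [map_mul, H.last, H.flip]; exact H.six.off_flip_tt)
  rw [d4] at k4
  rw [d6] at k6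
  rw [d8] at k8
  omega

theorem swap_fused {y : Perm (Fin 9)} (hy : y.IsSwap) : ∃ g, g * κ fv0 1 * g⁻¹ = Φ y := by
  obtain ⟨a, b, hab, rfl⟩ := hy
  obtain ⟨c, hc⟩ := isConj_iff.1 (Perm.isConj_swap (show (1 : Fin 9) ≠ 2 by decide) hab)
  exact ⟨Φ c, by rw [← H.flip, ← map_inv, ← map_mul, ← map_mul, hc]⟩

/-- A Sylow two-subgroup of the copy containing the four transpositions is one of the group. -/
theorem exists_sylow : ∃ P : Sylow 2 (Perm (Fin 9)), (∀ i, fourSwaps i ∈ (P : Subgroup (Perm (Fin 9)))) ∧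
    ∃ T : Sylow 2 G, (T : Subgroup G) = (P : Subgroup (Perm (Fin 9))).map Φ := by
  classical
  haveI : Fact (Nat.Prime 2) := ⟨Nat.prime_two⟩
  obtain ⟨-, -, -, -, -, -, -, -, -, e1, e2, e3, e0, -, hfinj, hfsgn⟩ := fused_data
  obtain ⟨P, hP⟩ := (show IsPGroup 2 pairs from fun x =>
    ⟨1, Subtype.ext (by rw [pow_one, pow_two]; exact pairs_sq x.2)⟩).exists_le_sylow
  have hmem : ∀ i, fourSwaps i ∈ (P : Subgroup (Perm (Fin 9))) := fun i => hP (pairs_gens.1 i)
  refine ⟨P, hmem, ?_⟩
  have hcardP : Nat.card (P : Subgroup (Perm (Fin 9))) = 128 := by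
    obtain ⟨k, hk⟩ := IsPGroup.iff_card.1 P.isPGroup'
    have hG : Nat.card (Perm (Fin 9)) = 2 ^ 7 * 2835 := by
      rw [Nat.card_eq_fintype_card, Fintype.card_perm, Fintype.card_fin]; rfl
    have h1 := P.pow_dvd_card_of_pow_dvd_card (n := 7) (hG ▸ dvd_mul_right _ _)
    have h2 := (Subgroup.card_subgroup_dvd_card (P : Subgroup (Perm (Fin 9))))
    rw [hk, hG] at h2
    have h3 : 2 ^ k ∣ 2 ^ 7 := (Nat.Coprime.pow_left k (by norm_num)).dvd_of_dvd_mul_right h2
    rw [hk] at h1 ⊢
    exact Nat.dvd_antisymm h3 h1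
  set T := (P : Subgroup (Perm (Fin 9))).map Φ with hT
  have hTp : IsPGroup 2 T := P.isPGroup'.map Φ
  have hTcard : Nat.card T = 128 := by rw [hT, card_map_of_injective H.inj, hcardP]
  refine sylow_two_of T hTp fun n hn2 hn => ?_
  have hnN : n ∈ normalizer (T : Set G) := mem_normalizer_fintype hn
  have hQp : IsPGroup 2 (zpowers n ⊔ T : Subgroup G) := by
    obtain ⟨k, hk⟩ := hn2
    obtain ⟨i, -, hi⟩ := (Nat.dvd_prime_pow Nat.prime_two).1 (orderOf_dvd_of_pow_eq_one hk)
    exact (IsPGroup.of_card (n := i) (by rw [Nat.card_zpowers, hi])).to_sup_of_normal_right' hTp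
      (zpowers_le.2 hnN)
  set Q := zpowers n ⊔ T with hQ
  have hQN : Q ≤ normalizer (T : Set G) := sup_le (zpowers_le.2 hnN) le_normalizer
  -- the action on the four transpositions
  have hex : ∀ q : Q, ∀ i, ∃ j, (q : G) * Φ (fourSwaps i) * (q : G)⁻¹ = Φ (fourSwaps j) := fun q i => by
    obtain ⟨y, hy, hye⟩ := (mem_normalizer_iff.1 (hQN q.2) _).1
      (show Φ (fourSwaps i) ∈ T from ⟨_, hmem i, rfl⟩)
    obtain ⟨g, hg⟩ := H.swap_fused (y := fourSwaps i) (by
      obtain ⟨a, b, hab, he⟩ : ∃ a b : Fin 9, a ≠ b ∧ fourSwaps i = swap a b := by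
        fin_cases i
        exacts [⟨1, 2, by decide, rfl⟩, ⟨4, 5, by decide, rfl⟩, ⟨7, 8, by decide, rfl⟩,
          ⟨3, 6, by decide, rfl⟩]
      exact ⟨a, b, hab, he⟩)
    obtain ⟨a, b, hab, rfl⟩ := H.fused_swap (g := (q : G) * g) (y := y) (by
      rw [hye, ← hg]; group)
    rcases swap_forced a b hab with ⟨j, hj⟩ | ⟨j, h3, h1⟩
    · exact ⟨j, by rw [← hye, hj]⟩
    · exfalso
      obtain ⟨k, hk⟩ := P.isPGroup' ⟨_, mul_mem hy (hmem j)⟩
      exact h1 (eq_one_of_two_three (k := k) (m := 1) (by simpa using congrArg Subtype.val hk)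
        (by rw [pow_one, pow_three', h3]))
  choose π hπ using hex
  have huniq : ∀ {i j}, Φ (fourSwaps i) = Φ (fourSwaps j) → i = j := fun h => hfinj (H.inj h)
  have hπmul : ∀ q q' : Q, ∀ i, π (q * q') i = π q (π q' i) := fun q q' i => huniq (by
    rw [← hπ, ← hπ, ← hπ, Subgroup.coe_mul]; group)
  have hπone : ∀ i, π 1 i = i := fun i => huniq (by rw [← hπ]; simp)
  let ψ : Q →* Perm (Fin 4) :=
    MonoidHom.mk' (fun q => ⟨π q, π q⁻¹, fun i => by rw [← hπmul, inv_mul_cancel, hπone],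
      fun i => by rw [← hπmul, mul_inv_cancel, hπone]⟩) fun q q' => Equiv.ext (hπmul q q')
  have hker : Nat.card ψ.ker ≤ 16 := by
    have hk : ∀ q : ψ.ker, ∃ p : {e : V3 // e ∈ cubeL.toFinset} × Bool,
        ((q : Q) : G) = if p.2 then ι pR * κ p.1 1 else κ p.1 1 := by
      rintro ⟨q, hq⟩
      have hc : ∀ i, Commute (q : G) (Φ (fourSwaps i)) := fun i => by
        have h1 := hπ q i
        rw [show π q i = i from congrArg (fun f : Perm (Fin 4) => f i) hq, mul_inv_eq_iff_eq_mul] at h1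
        exact h1
      obtain ⟨e, he, h1 | h1⟩ := H.six.four_cent (H.flip ▸ e0 ▸ hc 0) (H.last pF ▸ e1 ▸ hc 1)
        (H.last pG ▸ e2 ▸ hc 2) (H.last pR ▸ e3 ▸ hc 3)
      · exact ⟨(⟨e, List.mem_toFinset.2 he⟩, false), h1⟩
      · exact ⟨(⟨e, List.mem_toFinset.2 he⟩, true), h1⟩
    choose p hp using hk
    refine (Nat.card_le_card_of_injective p fun q q' e => ?_).trans_eq ?_
    · exact Subtype.ext (Subtype.ext (by rw [hp q, hp q', e]))
    · rw [Nat.card_prod, Nat.card_eq_finsetCard, show cubeL.toFinset.card = 8 by decide +kernel]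
      simp
  have hrange : Nat.card ψ.range ≤ 8 := by
    obtain ⟨k, hk⟩ := IsPGroup.iff_card.1 (hQp.of_surjective ψ.rangeRestrict ψ.rangeRestrict_surjective)
    have h24 := Subgroup.card_subgroup_dvd_card ψ.range
    rw [hk, Nat.card_eq_fintype_card, Fintype.card_perm, Fintype.card_fin,
      show Nat.factorial 4 = 2 ^ 3 * 3 from rfl] at h24
    have h3 : 2 ^ k ∣ 2 ^ 3 := (Nat.Coprime.pow_left k (by norm_num)).dvd_of_dvd_mul_right h24
    rw [hk]
    exact Nat.le_of_dvd (by norm_num) h3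
  have hQcard : Nat.card Q ≤ 128 := by
    rw [← ψ.ker.index_mul_card, Subgroup.index_ker]
    exact (Nat.mul_le_mul hrange hker).trans (by norm_num)
  rw [← hTcard] at hQcard
  rw [Subgroup.eq_of_le_of_card_ge (le_sup_right : T ≤ Q) hQcard]
  exact mem_sup_left (mem_zpowers n)

/-- The sign of the copy extends to the group. -/
theorem exists_sign : ∃ ε : G →* ℤˣ, ∀ y, ε (Φ y) = Perm.sign y := by
  classical
  haveI : Fact (Nat.Prime 2) := ⟨Nat.prime_two⟩
  obtain ⟨P, hmem, T, hT⟩ := H.exists_sylow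
  set P0 := (P : Subgroup (Perm (Fin 9))) ⊓ alternatingGroup (Fin 9) with hP0
  set M := P0.map Φ with hM
  have hMT : M ≤ (T : Subgroup G) := hT ▸ map_mono inf_le_left
  have hrel : M.relIndex (T : Subgroup G) = 2 := by
    rw [hM, hT, relIndex_map_map_of_injective _ _ H.inj, relIndex, index_eq_two_iff]
    refine ⟨⟨fourSwaps 0, hmem 0⟩, ?_⟩
    rintro ⟨y, hy⟩
    simp only [mem_subgroupOf, Subgroup.coe_mul, hP0, mem_inf, Perm.mem_alternatingGroup, map_mul,
      fused_data.2.2.2.2.2.2.2.2.2.2.2.2.2.2.2 0]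
    rcases Int.units_eq_one_or (Perm.sign y) with e | e <;> rw [e]
    · exact Or.inr ⟨⟨hy, rfl⟩, fun h => absurd h.2 (by decide)⟩
    · exact Or.inl ⟨⟨mul_mem hy (hmem 0), by decide⟩, fun h => absurd h.2 (by decide)⟩
  have hidx : M.index = 2 ^ (0 + 1) * (T : Subgroup G).index := by
    rw [← relIndex_mul_index hMT, hrel]; norm_num
  have hodd : Odd (T : Subgroup G).index := Nat.not_even_iff_odd.1 fun he =>
    T.not_dvd_index (even_iff_two_dvd.1 he)
  have hεf : Invol.TransferDihedral.cosetSign M (κ fv0 1) = -1 :=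
    Invol.TransferDihedral.cosetSign_eq_neg_one M (j := 0)
    (by
      rw [orderOf_eq_prime (p := 2) (by rw [pow_two]; exact H.six.kappa.refl_f0.sq) fun e => ?_]
      · norm_num
      · rw [← H.six.kappa.one] at e
        exact absurd (H.six.kappa.inj fv_facts.1 one3_cube.1 e).1 (by decide +kernel))
    hidx hodd fun g hg => by
      rw [pow_zero, pow_one] at hg
      obtain ⟨y, hy, hye⟩ := hg
      obtain ⟨a, b, hab, rfl⟩ := H.fused_swap hye.symm
      have h2 := Perm.mem_alternatingGroup.1 hy.2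
      rw [Perm.sign_swap hab] at h2
      exact absurd h2 (by decide)
  set ε := Invol.TransferDihedral.cosetSign M
  refine ⟨ε, fun y => ?_⟩
  induction y using Perm.swap_induction_on with
  | one => rw [map_one, map_one, map_one]
  | swap_mul f a b hab ih =>
    obtain ⟨g, hg⟩ := H.swap_fused (y := swap a b) ⟨a, b, hab, rfl⟩
    rw [map_mul, map_mul, map_mul, ih, Perm.sign_swap hab]
    congr 1
    rw [← hg, map_mul, map_mul, map_inv, mul_comm (ε g), mul_inv_cancel_right, hεf]

end Glue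

end Data

end Cfsg.Agent.Recog.SymNine
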