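import Cfsg.Agent.Lib.Recog.SymNine.Braid

/-!
A copy of the symmetric group of degree nine containing the normalizer of the core and the
centralizer of the first cycle.
-/

set_option autoImplicit false
set_option linter.style.haveILetI false
set_option linter.unusedSectionVars false
set_option maxRecDepth 100000
set_option maxHeartbeats 1600000
set_option synthInstance.maxSize 4096

namespace Cfsg.Agent.Recog.SymNine

open Cfsg Subgroup Equiv

universe u

/-- The sign changes on the nine points. -/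
def sgn (e : V3) : Perm (Fin 9) :=
  (if e 0 = -1 then swap 1 2 else 1) * (if e 1 = -1 then swap 4 5 else 1) *
    (if e 2 = -1 then swap 7 8 else 1)

theorem sgn_apply : ∀ e ∈ cubeL, ∀ c : Fin 3, ∀ i : ZMod 3, sgn e (pts (c, i)) = pts (c, e c * i) := by
  decide +kernel

/-- The element of the monomial model with given coordinates. -/
def md (a e : V3) (σ : S3) : Perm (Fin 9) := el a 1 * sgn e * el 0 σ

theorem md_apply (a : V3) {e : V3} (he : e ∈ cubeL) (σ : S3) (b : Fin 3) (i : ZMod 3) :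
    md a e σ (pts (b, i)) = pts (σ b, e (σ b) * i + a (σ b)) := by
  rw [md, Perm.mul_apply, Perm.mul_apply, el_apply, sgn_apply e he, el_apply]
  simp

theorem toPerm_eq_md (w : MonoCube.W) :
    MonoCube.W.toPerm w = md (blkA w) (blkE w) (blkS w) := by
  ext t
  obtain ⟨⟨b, i⟩, rfl⟩ := pts.surjective t
  rw [md_apply _ (blk_cube w), ← act_blk]
  refine congrArg Fin.val ?_
  show finProdFinEquiv (MonoCube.W.act w (finProdFinEquiv.symm (finProdFinEquiv (b, i)))) = _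
  rw [Equiv.symm_apply_apply]
  rfl

/-- The embedding on the last six points. -/
def eA : S6 →* Perm (Fin 9) :=
  (finSumFinEquiv (m := 3) (n := 6)).permCongrHom.toMonoidHom.comp
    ((Perm.sumCongrHom (Fin 3) (Fin 6)).comp (MonoidHom.inr (Perm (Fin 3)) S6))

/-- The embedding on the first six points. -/
def eB : S6 →* Perm (Fin 9) :=
  (finSumFinEquiv (m := 6) (n := 3)).permCongrHom.toMonoidHom.comp
    ((Perm.sumCongrHom (Fin 6) (Fin 3)).comp (MonoidHom.inl S6 (Perm (Fin 3))))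

/-- The transpositions of the path in the first six points. -/
def tauSeq : ℕ → S6
  | 0 => swap 1 2
  | 1 => swap 2 0
  | 2 => swap 0 3
  | 3 => swap 3 4
  | _ => swap 4 5

/-- The order of the points along the path. -/
def pathPerm : Perm (Fin 9) := swap 0 1 * swap 1 2

/-- The order of the first six points along the path. -/
def pathSix : S6 := swap 0 1 * swap 1 2

theorem tau_facts :
    (∀ i : Fin 5, tauSeq i * tauSeq i = 1) ∧
    (∀ i j : Fin 5, (i : ℕ) + 2 ≤ j → tauSeq i * tauSeq j = tauSeq j * tauSeq i) ∧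
    (∀ i : Fin 4, tauSeq i * tauSeq ((i : ℕ) + 1) * tauSeq i =
      tauSeq ((i : ℕ) + 1) * tauSeq i * tauSeq ((i : ℕ) + 1)) ∧
    tauSeq 0 = pF ∧ tauSeq 1 = pA * pF * pA⁻¹ ∧ tauSeq 2 = pR ∧ tauSeq 3 = pB⁻¹ * pG * pB ∧
    tauSeq 4 = pG ∧
    Fus.SymPath.adj 5 0 = pA⁻¹ * pF * pA ∧ Fus.SymPath.adj 5 1 = pF ∧
    Fus.SymPath.adj 5 2 = pA⁻¹ * pR * pA ∧ Fus.SymPath.adj 5 3 = pB⁻¹ * pG * pB ∧
    Fus.SymPath.adj 5 4 = pG ∧
    pR * (pB⁻¹ * pR * pB) * pR = pB * pG * pB⁻¹ ∧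
    pA * pF * pA⁻¹ * pR * (pA * pF * pA⁻¹) = pA⁻¹ * pR * pA ∧
    (∀ i : Fin 5, pathPerm⁻¹ * eA (Fus.SymPath.adj 5 i) * pathPerm = Fus.SymPath.adj 8 ((i : ℕ) + 3)) ∧
    (∀ i : Fin 5, pathPerm⁻¹ * eB (tauSeq i) * pathPerm = Fus.SymPath.adj 8 i) ∧
    (∀ i : Fin 5, pathSix * Fus.SymPath.adj 5 i * pathSix⁻¹ = tauSeq i) := by decide +kernel

theorem nine_facts :
    eA pA = el u1 1 ∧ eA pB = el u2 1 ∧ eB pA = el u0 1 ∧
    eA pF = sgn fv1 ∧ eA pG = sgn fv2 ∧ eB pF = sgn fv0 ∧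
    eA pT = el 0 tr ∧ eB pT = el 0 (cyc * cyc * tr * cyc) ∧
    sgn one3 = 1 ∧ (∀ e ∈ cubeL, ∀ e' ∈ cubeL, sgn (e * e') = sgn e * sgn e') ∧
    cyc * cyc * tr * cyc * tr = cyc ∧ Perm.sign (el u1 1) = 1 ∧
    pm (cyc * cyc) fv2 = fv1 ∧ pm (cyc * cyc) fv1 = fv0 ∧ pm (cyc * cyc) fv0 = fv2 ∧
    pm (cyc * cyc) u2 = u1 ∧ pm (cyc * cyc) u1 = u0 ∧ pm (cyc * cyc) u0 = u2 := by
  decide +kernel

theorem cyc_undo : cyc * cyc * tr * cyc * (cyc * cyc) = cyc * cyc * tr := by decide +kernel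

/-- A homomorphism from the symmetric group of degree six is known from the adjacent transpositions. -/
theorem six_hom_ext {H : Type*} [Group H] {φ ψ : S6 →* H}
    (h : ∀ i : Fin 5, φ (Fus.SymPath.adj 5 i) = ψ (Fus.SymPath.adj 5 i)) : φ = ψ := by
  ext x
  have hle : Submonoid.closure (Set.range fun i : Fin 5 => swap i.castSucc i.succ) ≤ φ.eqLocusM ψ := by
    refine Submonoid.closure_le.2 ?_
    rintro _ ⟨i, rfl⟩
    have hi := h i
    simp only [Fus.SymPath.adj, dif_pos i.2] at hi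
    exact hi
  rw [Perm.mclosure_swap_castSucc_succ] at hle
  exact hle (Submonoid.mem_top x)

/-- A permutation commuting with all even permutations is trivial. -/
theorem eq_one_of_comm_even {x : Perm (Fin 9)} (h : ∀ a, Perm.sign a = 1 → x * a = a * x) : x = 1 := by
  ext t
  by_contra hne
  have hne' : x t ≠ t := fun e => hne (by rw [e]; rfl)
  obtain ⟨c, hct, hcx⟩ : ∃ c : Fin 9, c ≠ t ∧ c ≠ x t := by
    have : ({t, x t} : Finset (Fin 9))ᶜ.Nonempty := by
      rw [← Finset.card_pos, Finset.card_compl, Fintype.card_fin]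
      have := Finset.card_le_two (a := t) (b := x t)
      omega
    obtain ⟨c, hc⟩ := this
    rw [Finset.mem_compl, Finset.mem_insert, Finset.mem_singleton, not_or] at hc
    exact ⟨c, hc.1, hc.2⟩
  obtain ⟨d, hdt, hdx, hdc⟩ : ∃ d : Fin 9, d ≠ t ∧ d ≠ x t ∧ d ≠ c := by
    have : ({t, x t, c} : Finset (Fin 9))ᶜ.Nonempty := by
      rw [← Finset.card_pos, Finset.card_compl, Fintype.card_fin]
      have := Finset.card_le_three (a := t) (b := x t) (c := c)
      omega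
    obtain ⟨d, hd⟩ := this
    simp only [Finset.mem_compl, Finset.mem_insert, Finset.mem_singleton, not_or] at hd
    exact ⟨d, hd.1, hd.2.1, hd.2.2⟩
  have hs : Perm.sign (swap t c * swap c d) = 1 := by
    rw [map_mul, Perm.sign_swap hct.symm, Perm.sign_swap hdc.symm]; rfl
  have h1 := congrArg (fun p : Perm (Fin 9) => p t) (h _ hs)
  simp only [Perm.mul_apply] at h1
  rw [swap_apply_of_ne_of_ne hct.symm hdt.symm, swap_apply_left,
    swap_apply_of_ne_of_ne hcx.symm hdx.symm, swap_apply_of_ne_of_ne hne' hcx.symm] at h1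
  exact hct (x.injective h1)

namespace Data

variable {G : Type u} [Group G] [Finite G] {D : Data G}

namespace Six

variable {κ : V3 → S3 → G} {ι : S6 →* G} (S : Six D κ ι)

include S

/-- The symmetric group of degree nine. -/
theorem exists_glue : ∃ Φ : Perm (Fin 9) →* G, Function.Injective Φ ∧
    (∀ a, ∀ e ∈ cubeL, ∀ σ, Φ (md a e σ) = D.v a * κ e σ) ∧ ∀ τ, Φ (eA τ) = ι τ := by
  classical
  obtain ⟨tsq, tcm, tbr, t0, t1, t2, t3, t4, a0, a1, a2, a3, a4, b35, b23, hA, hB, h6⟩ := tau_facts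
  obtain ⟨nA, nB, nC, nF, nG, nH, nT, nU, ns1, nsm, ncyc, nsgn, p2, p1, p0, q2, q1, q0⟩ := nine_facts
  obtain ⟨hf0, hf1, hf2, -⟩ := fv_facts
  set m := κ one3 cyc with hm
  have hmm : m * m = κ one3 (cyc * cyc) := by
    rw [hm, S.kappa.mul _ one3_cube.1 _ _ one3_cube.1, pm_one3, show one3 * one3 = one3 from one_mul one3]
  set c2 := MulAut.conj (m * m) with hc2
  have hcv : ∀ a, c2 (D.v a) = D.v (pm (cyc * cyc) a) := fun a => by
    rw [hc2, MulAut.conj_apply, hmm, S.kappa.conj_v one3_cube.1, mon_one3]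
  have hcf : ∀ e ∈ cubeL, c2 (κ e 1) = κ (pm (cyc * cyc) e) 1 := fun e he => by
    rw [hc2, MulAut.conj_apply, hmm, S.kappa.conj_perm he]
  have hι : ∀ x p : S6, ι (x * p * x⁻¹) = ι x * ι p * (ι x)⁻¹ ∧ ι (x⁻¹ * p * x) = (ι x)⁻¹ * ι p * ι x :=
    fun x p => by simp [map_mul]
  have o4 : c2 (ι (tauSeq 4)) = ι (Fus.SymPath.adj 5 1) := by
    rw [t4, a1, S.valG, S.valF, hcf _ hf2, p2]
  have o3 : c2 (ι (tauSeq 3)) = ι (Fus.SymPath.adj 5 0) := by
    rw [t3, a0, (hι pB pG).2, (hι pA pF).2, map_mul, map_mul, map_inv, S.valB, S.valA, S.valG, S.valF,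
      hcv, hcf _ hf2, p2, q2]
  have v0 : c2 (ι (tauSeq 0)) = κ fv0 1 := by rw [t0, S.valF, hcf _ hf1, p1]
  have v1 : c2 (ι (tauSeq 1)) = D.v u0 * κ fv0 1 * (D.v u0)⁻¹ := by
    rw [t1, (hι pA pF).1, map_mul, map_mul, map_inv, S.valA, S.valF, hcv, hcf _ hf1, p1, q1]
  let s : ℕ → G := fun j => if j ≤ 4 then c2 (ι (tauSeq j)) else ι (Fus.SymPath.adj 5 (j - 3))
  have hlo : ∀ j, j ≤ 4 → s j = c2 (ι (tauSeq j)) := fun j hj => if_pos hj
  have hhi : ∀ j, 3 ≤ j → s j = ι (Fus.SymPath.adj 5 (j - 3)) := fun j hj => by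
    by_cases h4 : j ≤ 4
    · rw [hlo j h4]
      interval_cases j
      exacts [o3, o4]
    · exact if_neg h4
  have hadj := Fus.SymPath.adj_path 5
  have hpath : Fus.SymPath.Path 8 s := by
    refine ⟨fun i hi => ?_, fun i j hij hj => ?_, fun i hi => ?_⟩
    · by_cases h4 : i ≤ 4
      · rw [hlo i h4, ← map_mul, ← map_mul, tsq ⟨i, by omega⟩, map_one, map_one]
      · rw [hhi i (by omega), ← map_mul, hadj.sq _ (by omega), map_one]
    · by_cases hj4 : j ≤ 4
      · rw [hlo i (by omega), hlo j hj4, ← map_mul, ← map_mul, ← map_mul, ← map_mul,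
          tcm ⟨i, by omega⟩ ⟨j, by omega⟩ hij]
      by_cases hi3 : 3 ≤ i
      · rw [hhi i hi3, hhi j (by omega), ← map_mul, ← map_mul, hadj.comm _ _ (by omega) (by omega)]
      rw [hlo i (by omega), hhi j (by omega)]
      have k0 : ∀ τ, Commute (c2 (ι (tauSeq 0))) (ι τ) := fun τ => v0 ▸ (S.cen0 τ).symm
      have k1 : ∀ τ, Commute (c2 (ι (tauSeq 1))) (ι τ) := fun τ => v1 ▸
        ((S.cen τ).symm.mul_left (S.cen0 τ).symm).mul_left (S.cen τ).symm.inv_left
      have k7 : ∀ τ, Commute (c2 (ι τ)) (κ fv2 1) := fun τ => by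
        have h1 := (S.cen0 τ).map c2.toMonoidHom
        rwa [MulEquiv.coe_toMonoidHom, hcf _ hf0, p0] at h1
      have k6 : ∀ τ, Commute (c2 (ι τ)) (D.v u2) := fun τ => by
        have h1 := (S.cen τ).map c2.toMonoidHom
        rwa [MulEquiv.coe_toMonoidHom, hcv, q0] at h1
      have k5 : Commute (c2 (ι pR)) (ι (pA⁻¹ * pR * pA)) := by
        set r0 := ι pR with hr0
        set r2 := c2 r0 with hr2
        set r1 := m * r0 * m⁻¹ with hr1
        have hT : r2 * r1 * r2 = r0 := S.triangle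
        have hsq : r2 * r2 = 1 := by
          rw [hr2, hr0, ← map_mul, ← map_mul, six_swap_val.2.2.2.2.1, map_one, map_one]
        have hc1 : Commute r1 (D.v u1) := by
          have h1 : Commute (m * r0 * m⁻¹) (m * D.v u0 * m⁻¹) := (S.cen pR).map (MulAut.conj m).toMonoidHom
          rwa [show m * D.v u0 * m⁻¹ = D.v u1 from S.shift_u.1] at h1
        set r5 := (D.v u1)⁻¹ * r2 * D.v u1 with hr5
        have h56 : ι (pA⁻¹ * pR * pA) = r5 * r1 * r5 := by
          rw [(hι pA pR).2, S.valA, ← hr0, ← hT, hr5]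
          calc (D.v u1)⁻¹ * (r2 * r1 * r2) * D.v u1
              = (D.v u1)⁻¹ * r2 * (r1 * D.v u1) * ((D.v u1)⁻¹ * r2 * D.v u1) := by group
            _ = (D.v u1)⁻¹ * r2 * (D.v u1 * r1) * ((D.v u1)⁻¹ * r2 * D.v u1) := by rw [hc1.eq]
            _ = _ := by group
        have h35 : r2 * r5 * r2 = ι (pA * pF * pA⁻¹) := by
          rw [hr5, hr2, hr0, ← q2, ← hcv, ← S.valB, ← map_inv, ← map_mul, ← map_mul, ← map_mul,
            ← map_mul, ← map_inv, ← map_mul, ← map_mul, ← map_mul, ← map_mul, b35, (hι pB pG).1,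
            map_mul, map_mul, map_inv, S.valB, S.valG, hcv, hcf _ hf2, p2, q2, (hι pA pF).1, S.valA,
            S.valF]
        have h1 : r2 * ι (pA⁻¹ * pR * pA) * r2 = ι (pA⁻¹ * pR * pA) := by
          calc r2 * ι (pA⁻¹ * pR * pA) * r2 = r2 * r5 * (r2 * r2) * r1 * (r2 * r2) * r5 * r2 := by
                rw [h56, hsq]; group
            _ = r2 * r5 * r2 * (r2 * r1 * r2) * (r2 * r5 * r2) := by group
            _ = _ := by rw [h35, hT, hr0, ← map_mul, ← map_mul, b23]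
        show r2 * ι (pA⁻¹ * pR * pA) = ι (pA⁻¹ * pR * pA) * r2
        nth_rewrite 2 [← h1]
        rw [mul_assoc _ r2 r2, hsq, mul_one]
      obtain h | h | h : i = 0 ∨ i = 1 ∨ i = 2 := by omega
      · subst h; exact (k0 _).eq
      · subst h; exact (k1 _).eq
      · subst h
        obtain h | h | h : j = 5 ∨ j = 6 ∨ j = 7 := by omega
        · subst h; rw [t2, show 5 - 3 = 2 from rfl, a2]; exact k5.eq
        · subst h; rw [show 6 - 3 = 3 from rfl, a3, (hι pB pG).2, S.valB, S.valG]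
          exact (((k6 _).inv_right.mul_right (k7 _)).mul_right (k6 _)).eq
        · subst h; rw [show 7 - 3 = 4 from rfl, a4, S.valG]; exact (k7 _).eq
    · by_cases h4 : i + 1 ≤ 4
      · rw [hlo i (by omega), hlo _ h4, ← map_mul, ← map_mul, ← map_mul, ← map_mul, ← map_mul,
          ← map_mul, ← map_mul, ← map_mul, tbr ⟨i, by omega⟩]
      · rw [hhi i (by omega), hhi _ (by omega), show i + 1 - 3 = i - 3 + 1 by omega, ← map_mul, ← map_mul,
          ← map_mul, ← map_mul, hadj.braid _ (by omega)]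
  obtain ⟨f, -, hf⟩ := Fus.SymPath.exists_hom hpath
  let Φ : Perm (Fin 9) →* G := f.comp (MulAut.conj pathPerm⁻¹).toMonoidHom
  have hΦ : ∀ x, Φ x = f (pathPerm⁻¹ * x * pathPerm) := fun x => by
    show f (pathPerm⁻¹ * x * pathPerm⁻¹⁻¹) = _
    rw [inv_inv]
  have hΦA : ∀ τ, Φ (eA τ) = ι τ := DFunLike.congr_fun (show Φ.comp eA = ι from six_hom_ext fun i => by
    rw [MonoidHom.comp_apply, hΦ, hA i, hf _ (by omega), hhi _ (by omega), Nat.add_sub_cancel])
  have hΦB : ∀ τ, Φ (eB τ) = c2 (ι τ) := fun τ => by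
    have h := DFunLike.congr_fun (show (Φ.comp eB).comp (MulAut.conj pathSix).toMonoidHom =
      (c2.toMonoidHom.comp ι).comp (MulAut.conj pathSix).toMonoidHom from six_hom_ext fun i => by
        show Φ (eB (pathSix * Fus.SymPath.adj 5 i * pathSix⁻¹)) =
          c2 (ι (pathSix * Fus.SymPath.adj 5 i * pathSix⁻¹))
        rw [h6 i, hΦ, hB i, hf _ (by omega), hlo _ (by omega)]) ((MulAut.conj pathSix).symm τ)
    simp only [MonoidHom.comp_apply, MulEquiv.coe_toMonoidHom, MulEquiv.apply_symm_apply] at h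
    exact h
  -- the coordinates
  have wA : Φ (SymNine.el u1 1) = D.v u1 := by rw [← nA, hΦA, S.valA]
  have wB : Φ (SymNine.el u2 1) = D.v u2 := by rw [← nB, hΦA, S.valB]
  have wC : Φ (SymNine.el u0 1) = D.v u0 := by rw [← nC, hΦB, S.valA, hcv, q1]
  have hadd : ∀ a b, SymNine.el (a + b) 1 = SymNine.el a 1 * SymNine.el b 1 := fun a b => by rw [el_mul, pm_one, mul_one]
  have hshift : ∀ a, Φ (SymNine.el a 1) = D.v a := by
    intro a
    have hsm : ∀ (c : ZMod 3) {u : V3}, Φ (SymNine.el u 1) = D.v u → Φ (SymNine.el (c • u) 1) = D.v (c • u) := by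
      intro c u hu
      rcases smul_cases c u with e | e | e <;> rw [e]
      · rw [el_zero, map_one, D.v_zero]
      · exact hu
      · rw [D.v_neg, eq_inv_iff_mul_eq_one, ← hu, ← map_mul, ← hadd, neg_add_cancel, el_zero, map_one]
    have hdec : ∀ a : V3, a = a 0 • u0 + a 1 • u1 + a 2 • u2 := by decide +kernel
    rw [hdec a, hadd, hadd, map_mul, map_mul, hsm _ wC, hsm _ wA, hsm _ wB, ← D.v_add, ← D.v_add]
  have wT : Φ (SymNine.el 0 tr) = κ one3 tr := by rw [← nT, hΦA, S.valT, S.kappa.tt_eq]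
  have hperm : ∀ σ σ' : S3, SymNine.el 0 (σ * σ') = SymNine.el 0 σ * SymNine.el 0 σ' := fun σ σ' => by
    rw [el_mul]; congr 1
  have hperm' : ∀ σ σ' : S3, κ one3 (σ * σ') = κ one3 σ * κ one3 σ' := fun σ σ' => by
    rw [S.kappa.mul _ one3_cube.1 _ _ one3_cube.1, pm_one3, show one3 * one3 = one3 from one_mul one3]
  have wU : Φ (SymNine.el 0 (cyc * cyc * tr * cyc)) = κ one3 (cyc * cyc * tr * cyc) := by
    rw [← nU, hΦB, S.valT, ← S.kappa.tt_eq, hc2, MulAut.conj_apply, mul_inv_eq_iff_eq_mul, hmm,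
      ← hperm', ← hperm', cyc_undo]
  have wS : Φ (SymNine.el 0 cyc) = κ one3 cyc := by
    rw [← ncyc, hperm, map_mul, wU, wT, ← hperm']
  have hblocks : ∀ σ, Φ (SymNine.el 0 σ) = κ one3 σ := by
    intro σ
    let φ₁ : S3 →* G := Φ.comp (MonoidHom.mk' (SymNine.el 0) hperm)
    let φ₂ : S3 →* G := MonoidHom.mk' (κ one3) hperm'
    have e1 : φ₁ cyc = φ₂ cyc := wS
    have e2 : φ₁ tr = φ₂ tr := wT
    show φ₁ σ = φ₂ σ
    obtain ⟨k, rfl | rfl⟩ := s3_gen σ
    · rw [map_pow, map_pow, e1]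
    · rw [map_mul, map_mul, map_pow, map_pow, e1, e2]
  have hsigns : ∀ e ∈ cubeL, Φ (sgn e) = κ e 1 := by
    have g0 : Φ (sgn fv0) = κ fv0 1 := by rw [← nH, hΦB, S.valF, hcf _ hf1, p1]
    have g1 : Φ (sgn fv1) = κ fv1 1 := by rw [← nF, hΦA, S.valF]
    have g2 : Φ (sgn fv2) = κ fv2 1 := by rw [← nG, hΦA, S.valG]
    have hmul : ∀ e ∈ cubeL, ∀ e' ∈ cubeL, Φ (sgn e) = κ e 1 → Φ (sgn e') = κ e' 1 →
        Φ (sgn (e * e')) = κ (e * e') 1 := fun e he e' he' x y => by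
      rw [nsm e he e' he', map_mul, x, y, S.kappa.mul_one_perm he he']
    intro e he
    rcases ti_parity.2.2.2.2.1 e he with rfl | rfl | rfl | rfl | rfl | rfl | rfl | rfl
    · rw [ns1, map_one, S.kappa.one]
    · exact g0
    · exact g1
    · exact g2
    · exact hmul _ hf1 _ hf2 g1 g2
    · exact hmul _ hf0 _ hf2 g0 g2
    · exact hmul _ hf0 _ hf1 g0 g1
    · exact hmul _ (cubeL_mul hf0 hf1) _ hf2 (hmul _ hf0 _ hf1 g0 g1) g2
  refine ⟨Φ, ?_, fun a e he σ => ?_, hΦA⟩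
  · rw [← MonoidHom.ker_eq_bot_iff, Subgroup.eq_bot_iff_forall]
    haveI : IsSimpleGroup (alternatingGroup (Fin 9)) := alternatingGroup.isSimpleGroup (by simp)
    have hbot : Φ.ker.subgroupOf (alternatingGroup (Fin 9)) = ⊥ :=
      (IsSimpleGroup.eq_bot_or_eq_top_of_normal _ inferInstance).resolve_right fun e => by
        have h1 : (⟨SymNine.el u1 1, Perm.mem_alternatingGroup.2 nsgn⟩ : alternatingGroup (Fin 9)) ∈
            Φ.ker.subgroupOf (alternatingGroup (Fin 9)) := e ▸ mem_top _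
        exact u_facts.2.2.2.2.2.2.2.2.2.2.2.2.2.2.2.2.1
          (D.v_inj ((wA.symm.trans (MonoidHom.mem_ker.1 h1)).trans D.v_zero.symm))
    intro x hx
    refine eq_one_of_comm_even fun a ha => ?_
    have h2 : x * a * x⁻¹ * a⁻¹ ∈ alternatingGroup (Fin 9) :=
      mul_mem (Subgroup.Normal.conj_mem inferInstance a (Perm.mem_alternatingGroup.2 ha) x)
        (inv_mem (Perm.mem_alternatingGroup.2 ha))
    have h3 : (⟨_, h2⟩ : alternatingGroup (Fin 9)) ∈ Φ.ker.subgroupOf (alternatingGroup (Fin 9)) := by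
      rw [mem_subgroupOf, MonoidHom.mem_ker]
      simp [MonoidHom.mem_ker.1 hx]
    rw [hbot, mem_bot, Subtype.ext_iff] at h3
    exact mul_inv_eq_iff_eq_mul.1 (mul_inv_eq_one.1 h3)
  · rw [md, map_mul, map_mul, hshift, hsigns e he, hblocks, mul_assoc,
      S.kappa.mul e he 1 one3 one3_cube.1, pm_one, one_mul, show e * one3 = e from mul_one e]

end Six

end Data

end Cfsg.Agent.Recog.SymNine
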