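import Cfsg.Agent.Lib.Recog.SymNine.StabData

/-!
Finite facts about reflections in the monomial group, on codes.
-/

set_option autoImplicit false
set_option synthInstance.maxSize 4096
set_option maxRecDepth 100000

namespace Cfsg.Agent.Recog.SymNine

/-- A code acting on triples. -/
def am (p : T3 × Fin 6) (t : T3) : T3 := tmul p.1 (pa p.2 t)

/-- The eight sign triples. -/
def signT : List T3 :=
  [(1, 1, 1), (1, 1, 2), (1, 2, 1), (1, 2, 2), (2, 1, 1), (2, 1, 2), (2, 2, 1), (2, 2, 2)]

/-- All codes. -/
def codes : List (T3 × Fin 6) := signT.flatMap fun e => (List.finRange 6).map fun k => (e, k)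

/-- The fixed triples. -/
def fixT (p : T3 × Fin 6) : List T3 := allT.filter fun t => am p t == t

/-- Two codes act alike. -/
def sameT (p q : T3 × Fin 6) : Bool := allT.all fun t => am p t == am q t

/-- Two codes commute. -/
def commC (p q : T3 × Fin 6) : Bool := allT.all fun t => am p (am q t) == am q (am p t)

/-- A code of square one. -/
def sqC (p : T3 × Fin 6) : Bool := allT.all fun t => am p (am p t) == t

/-- A code of cube one. -/
def cubeC (p : T3 × Fin 6) : Bool := allT.all fun t => am p (am p (am p t)) == t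

/-- The identity code. -/
def idC : T3 × Fin 6 := ((1, 1, 1), 0)

/-- The transposition of the last two blocks as a code. -/
def trC : T3 × Fin 6 := ((1, 1, 1), 3)

/-- A reflection. -/
def isRefl (p : T3 × Fin 6) : Bool := (fixT p).length == 9 && sqC p

/-- The checks for a pair of codes, the first a reflection. -/
def checkPair (p q : T3 × Fin 6) : Bool :=
  !isRefl p ||
    ((!(commC p q && cubeC q) || sameT q idC) &&
      (!((fixT p).all fun t => am q t == t) || sameT q idC || sameT q p))

theorem checkPair_all : (codes.all fun p => codes.all fun q => checkPair p q) = true := by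
  decide +kernel

/-- A plane has an element off the cube. -/
def planeOff (p : T3 × Fin 6) : Bool :=
  !isRefl p || (fixT p).any fun t =>
    t != (0, 0, 0) && (t.1 == 0 || t.2.1 == 0 || t.2.2 == 0)

theorem planeOff_all : (codes.all planeOff) = true := by decide +kernel

theorem trC_refl : isRefl trC = true := by decide +kernel

/-- The commutant of the transposition in a sign group. -/
def commT (E : List T3) : List (T3 × Fin 6) :=
  (E.flatMap fun e => (List.finRange 6).map fun k => (e, k)).filter fun p =>
    commC p trC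

theorem commT_all : (signGroups.all fun E =>
    ((commT E).length == 2 || (commT E).length == 4 || (commT E).length == 8) &&
      (commT E).all fun p => sqC p) = true := by
  decide +kernel

theorem am_facts : (∀ t : T3, am idC t = t) ∧ (∀ t : T3, t ∈ allT) ∧ (∀ e ∈ signT, toV e ∈ cubeL) ∧
    (∀ a ∈ cubeL, ∃ e ∈ signT, toV e = a) ∧ toV (0, 0, 0) = 0 ∧ toV (1, 1, 1) = one3 ∧
    (∀ t : T3, (t.1 = 0 ∨ t.2.1 = 0 ∨ t.2.2 = 0) → toV t ∉ cubeL ∧ -toV t ∉ cubeL) ∧
    (∀ t : T3, t ∈ codes.map Prod.fst → t ∈ signT) ∧ pc 3 = tr := by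
  decide +kernel

theorem mem_codes {p : T3 × Fin 6} : p ∈ codes ↔ p.1 ∈ signT := by
  simp only [codes, List.mem_flatMap, List.mem_map, List.mem_finRange, true_and]
  exact ⟨fun ⟨e, he, k, h⟩ => h ▸ he, fun h => ⟨p.1, h, p.2, rfl⟩⟩

theorem sameT_iff {p q : T3 × Fin 6} : sameT p q = true ↔ ∀ t, am p t = am q t := by
  simp only [sameT, List.all_eq_true, beq_iff_eq]
  exact ⟨fun h t => h t (am_facts.2.1 t), fun h t _ => h t⟩

theorem mem_fixT {p : T3 × Fin 6} {t : T3} : t ∈ fixT p ↔ am p t = t := by
  simp [fixT, am_facts.2.1 t]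

theorem commC_iff {p q : T3 × Fin 6} :
    commC p q = true ↔ ∀ t, am p (am q t) = am q (am p t) := by
  simp only [commC, List.all_eq_true, beq_iff_eq]
  exact ⟨fun h t => h t (am_facts.2.1 t), fun h t _ => h t⟩

theorem sqC_iff {p : T3 × Fin 6} : sqC p = true ↔ ∀ t, am p (am p t) = t := by
  simp only [sqC, List.all_eq_true, beq_iff_eq]
  exact ⟨fun h t => h t (am_facts.2.1 t), fun h t _ => h t⟩

theorem cubeC_iff {p : T3 × Fin 6} : cubeC p = true ↔ ∀ t, am p (am p (am p t)) = t := by
  simp only [cubeC, List.all_eq_true, beq_iff_eq]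
  exact ⟨fun h t => h t (am_facts.2.1 t), fun h t _ => h t⟩

theorem mon_code (p : T3 × Fin 6) (t : T3) : mon (toV p.1) (pc p.2) (toV t) = toV (am p t) := by
  funext i
  show toV p.1 i * toV t ((pc p.2)⁻¹ i) = _
  rw [code_facts.2.2.1, ← toV_facts.2.2.1]
  rfl

end Cfsg.Agent.Recog.SymNine
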