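import Cfsg.Agent.Lib.Recog.SymNine.CentJ
import Cfsg.Agent.Lib.Recog.SymNine.InvolData
import Cfsg.Agent.Lib.Grp.CoprimeAbelian

/-!
Involutions of the normalizer: the three-part of their centralizers, and, when all centralizers of
core elements lie in the normalizer, the centralizer of a block transposition.
-/

set_option autoImplicit false
set_option linter.style.haveILetI false
set_option linter.unusedSectionVars false
set_option maxRecDepth 100000

namespace Cfsg.Agent.Recog.SymNine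

open Subgroup

universe u

namespace Data

variable {G : Type u} [Group G] [Finite G] (D : Data G)

/-- The part of the core centralized by an element. -/
def fixJ (s : G) : Subgroup G := D.J ⊓ centralizer ({s} : Set G)

theorem v_mem_fixJ {s : G} (hs : s ∈ D.N) {b : V3} : D.v b ∈ D.fixJ s ↔ D.act s b = b := by
  refine ⟨fun h => D.act_eq ?_, fun h => ⟨D.v_mem b, mem_centralizer_singleton_iff.2 ?_⟩⟩
  · rw [← mem_centralizer_singleton_iff.1 h.2, mul_inv_cancel_right]
  · have h1 := D.act_spec hs b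
    rw [h, mul_inv_eq_iff_eq_mul] at h1
    exact h1.symm

theorem card_fixJ {s : G} (hs : s ∈ D.N) : Nat.card (D.fixJ s) = Nat.card {b : V3 // D.act s b = b} := by
  let f : {b : V3 // D.act s b = b} → D.fixJ s := fun b => ⟨D.v b.1, (D.v_mem_fixJ hs).2 b.2⟩
  refine (Nat.card_eq_of_bijective f ⟨fun b c h => Subtype.ext (D.v_inj (congrArg Subtype.val h)), ?_⟩).symm
  rintro ⟨g, hg⟩
  obtain ⟨b, rfl⟩ := D.mem_J.1 hg.1
  exact ⟨⟨b, (D.v_mem_fixJ hs).1 hg⟩, rfl⟩

/-- All centralizers of non-trivial elements of the core lie in the normalizer. -/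
def TI : Prop := ∀ a : V3, a ≠ 0 → D.Cv a ≤ D.N

variable {D}

theorem code_of (hm : D.Monomial) {g : G} (hg : g ∈ D.N) :
    ∃ p ∈ codes, toV p.1 ∈ D.orbit ∧ ∀ t, D.act g (toV t) = toV (am p t) := by
  obtain ⟨e, he, σ, h⟩ := hm g hg
  obtain ⟨s, hs, rfl⟩ := am_facts.2.2.2.1 e he
  obtain ⟨k, rfl⟩ := code_facts.2.1 σ
  exact ⟨(s, k), mem_codes.2 hs, hm.sign_mem hg h, fun t => (h _).trans (mon_code (s, k) t)⟩

theorem card_fix_code {s : G} (hs : s ∈ D.N) {p : T3 × Fin 6}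
    (h : ∀ t, D.act s (toV t) = toV (am p t)) : Nat.card (D.fixJ s) = (fixT p).length := by
  rw [D.card_fixJ hs, ← List.toFinset_card_of_nodup (l := fixT p)
    (List.Nodup.filter _ (by decide +kernel)), ← Nat.card_eq_finsetCard]
  let f : {t // t ∈ (fixT p).toFinset} → {b : V3 // D.act s b = b} := fun t =>
    ⟨toV t.1, by rw [h, mem_fixT.1 (List.mem_toFinset.1 t.2)]⟩
  refine (Nat.card_eq_of_bijective f ⟨fun a b e => Subtype.ext (toV_facts.1 (congrArg Subtype.val e)), ?_⟩).symm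
  rintro ⟨b, hb⟩
  obtain ⟨t, rfl⟩ := toV_facts.2.1 b
  exact ⟨⟨t, List.mem_toFinset.2 (mem_fixT.2 (toV_facts.1 ((h t).symm.trans hb)))⟩, rfl⟩

/-- An involution of the normalizer with a plane of fixed points. -/
structure Refl (D : Data G) (s : G) : Prop where
  mem : s ∈ D.N
  sq : s * s = 1
  plane : Nat.card (D.fixJ s) = 9

namespace Refl

variable {s : G} (h : Refl D s)

include h

theorem exists_code (hm : D.Monomial) :
    ∃ p ∈ codes, isRefl p = true ∧ ∀ t, D.act s (toV t) = toV (am p t) := by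
  obtain ⟨p, hp, -, hact⟩ := code_of hm h.mem
  refine ⟨p, hp, ?_, hact⟩
  rw [isRefl, Bool.and_eq_true, beq_iff_eq, sqC_iff, ← card_fix_code h.mem hact]
  refine ⟨h.plane, fun t => toV_facts.1 ?_⟩
  rw [← hact, ← hact, ← D.act_mul h.mem h.mem, h.sq, D.act_one]

theorem exists_off (hm : D.Monomial) :
    ∃ a : V3, a ≠ 0 ∧ ¬ D.Orb a ∧ D.v a ∈ D.fixJ s := by
  obtain ⟨p, hp, hr, hact⟩ := h.exists_code hm
  have h1 := planeOff_all
  rw [List.all_eq_true] at h1
  have h2 := h1 p hp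
  simp only [planeOff, hr, Bool.not_true, Bool.false_or, List.any_eq_true, Bool.and_eq_true,
    bne_iff_ne, ne_eq, Bool.or_eq_true, beq_iff_eq] at h2
  obtain ⟨t, ht, ht0, htz⟩ := h2
  refine ⟨toV t, fun e => ht0 (toV_facts.1 (e.trans am_facts.2.2.2.2.1.symm)), fun ho => ?_,
    (D.v_mem_fixJ h.mem).2 (by rw [hact, mem_fixT.1 ht])⟩
  have htz' : t.1 = 0 ∨ t.2.1 = 0 ∨ t.2.2 = 0 := by tauto
  obtain ⟨n1, n2⟩ := am_facts.2.2.2.2.2.2.1 t htz'
  rcases D.orb_iff.1 ho with e | e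
  exacts [n1 (hm.orbit_cube e), n2 (hm.orbit_cube e)]

/-- An element normalizing the plane normalizes the core. -/
theorem norm_plane (hm : D.Monomial) {g : G}
    (hg : ∀ y ∈ D.fixJ s, g * y * g⁻¹ ∈ D.fixJ s) : g ∈ D.N := by
  haveI : Fact (Nat.Prime 3) := ⟨Nat.prime_three⟩
  obtain ⟨a, ha, ho, haf⟩ := h.exists_off hm
  obtain ⟨b, hb, hbni⟩ : ∃ b, D.v b ∈ D.fixJ s ∧ ∀ i : ZMod 3, b ≠ i • a := by
    by_contra hcon
    push Not at hcon
    have hle : Nat.card (D.fixJ s) ≤ Nat.card (ZMod 3) := by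
      refine Nat.card_le_card_of_surjective (fun i => (⟨D.v (i • a), ?_⟩ : D.fixJ s)) ?_
      · refine (D.v_mem_fixJ h.mem).2 ?_
        rw [D.act_smul h.mem, (D.v_mem_fixJ h.mem).1 haf]
      · rintro ⟨y, hy⟩
        obtain ⟨b, rfl⟩ := D.mem_J.1 hy.1
        obtain ⟨i, hi⟩ := hcon b hy
        exact ⟨i, Subtype.ext (congrArg D.v hi.symm)⟩
    rw [h.plane, Nat.card_zmod] at hle
    omega
  have hab : ∀ i j : ZMod 3, i • a + j • b = 0 → i = 0 ∧ j = 0 := by
    intro i j e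
    by_cases hj : j = 0
    · subst hj
      rw [zero_smul, add_zero, smul_eq_zero] at e
      exact ⟨e.resolve_right ha, rfl⟩
    · exfalso
      refine hbni (-(j * i)) ?_
      have h1 : j • (i • a + j • b) = 0 := by rw [e, smul_zero]
      rw [smul_add, smul_smul, smul_smul, zmod3_facts.1 j hj, one_smul] at h1
      rw [neg_smul]
      exact eq_neg_of_add_eq_zero_right h1
  have heq : D.span2 a b = D.fixJ s := by
    refine Subgroup.eq_of_le_of_card_ge ?_ (by rw [h.plane, D.card_span2 hab])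
    rintro _ ⟨i, j, rfl⟩
    refine (D.v_mem_fixJ h.mem).2 ?_
    rw [D.act_add h.mem, D.act_smul h.mem, D.act_smul h.mem, (D.v_mem_fixJ h.mem).1 haf,
      (D.v_mem_fixJ h.mem).1 hb]
  have himg : D.fixJ s ≤ (D.fixJ s).map (MulAut.conj g).toMonoidHom := by
    refine le_of_eq (Subgroup.eq_of_le_of_card_ge ?_ ?_).symm
    · rintro _ ⟨y, hy, rfl⟩; exact hg y hy
    · rw [card_map_of_injective (MulAut.conj g).injective]
  refine mem_normalizer_fintype fun y hy => ?_
  rw [SetLike.mem_coe] at hy ⊢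
  have hyc : ∀ w ∈ D.fixJ s, g * y * g⁻¹ * w = w * (g * y * g⁻¹) := by
    intro w hw
    obtain ⟨w', hw', rfl⟩ := himg hw
    show g * y * g⁻¹ * (g * w' * g⁻¹) = g * w' * g⁻¹ * (g * y * g⁻¹)
    calc _ = g * (y * w') * g⁻¹ := by group
      _ = _ := by rw [D.J_comm hy hw'.1]; group
  have hca : g * y * g⁻¹ ∈ D.Cv a := mem_centralizer_singleton_iff.2 (hyc _ haf)
  have hyN : g * y * g⁻¹ ∈ D.N :=
    D.cent_two_le hab ⟨hca, mem_centralizer_singleton_iff.2 (hyc _ hb)⟩
  have hcube : ∀ c, D.act (g * y * g⁻¹) (D.act (g * y * g⁻¹) (D.act (g * y * g⁻¹) c)) = c := by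
    intro c
    rw [← D.act_mul hyN hyN, ← D.act_mul (mul_mem hyN hyN) hyN]
    obtain ⟨d, rfl⟩ := D.mem_J.1 hy
    rw [show g * D.v d * g⁻¹ * (g * D.v d * g⁻¹) * (g * D.v d * g⁻¹) =
      g * (D.v d * D.v d * D.v d) * g⁻¹ by group, D.cube, mul_one, mul_inv_cancel, D.act_one]
  exact D.mem_J_of_cube ha ho hyN hca hcube

/-- A three-element of the normalizer centralizing the involution lies in the plane. -/
theorem mem_fixJ (hm : D.Monomial) {q : G} (hq : q ∈ D.N) (hqs : Commute q s) {k : ℕ}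
    (hk : q ^ 3 ^ k = 1) : q ∈ D.fixJ s := by
  refine ⟨?_, mem_centralizer_singleton_iff.2 hqs.eq⟩
  obtain ⟨p, hp, hr, hact⟩ := h.exists_code hm
  obtain ⟨c, hc, -, hqact⟩ := code_of hm hq
  haveI : Fact (Nat.Prime 3) := ⟨Nat.prime_three⟩
  have hpq : IsPGroup 3 (zpowers q) := by
    obtain ⟨i, -, hi⟩ := (Nat.dvd_prime_pow Nat.prime_three).1 (orderOf_dvd_of_pow_eq_one hk)
    exact IsPGroup.of_card (n := i) (by rw [Nat.card_zpowers, hi])
  obtain ⟨n, hn, hnq⟩ := D.conj_into_P hpq (zpowers_le.2 hq)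
  obtain ⟨b, σ, hσ, hb⟩ := hnq q (mem_zpowers q)
  have hjq : q * q * q ∈ D.J := by
    refine (mem_normalizer_iff.1 hn _).2 ?_
    rw [show n * (q * q * q) * n⁻¹ = n * q * n⁻¹ * (n * q * n⁻¹) * (n * q * n⁻¹) by
      group, ← hb, D.el_mul', D.el_mul', three_facts.1 σ hσ, D.el_one']
    exact D.v_mem _
  have hcube : ∀ t, am c (am c (am c t)) = t := fun t => toV_facts.1 (by
    rw [← hqact, ← hqact, ← hqact, ← D.act_mul hq hq, ← D.act_mul (mul_mem hq hq) hq, D.act_J hjq])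
  have hcomm : ∀ t, am p (am c t) = am c (am p t) := fun t => toV_facts.1 (by
    rw [← hact, ← hqact, ← hqact, ← hact, ← D.act_mul h.mem hq, ← D.act_mul hq h.mem, hqs.eq])
  have h1 := checkPair_all
  rw [List.all_eq_true] at h1
  have h2 := h1 p hp
  rw [List.all_eq_true] at h2
  have h3 := h2 c hc
  simp only [checkPair, hr, Bool.not_true, Bool.false_or, Bool.and_eq_true, Bool.or_eq_true,
    commC_iff.2 hcomm, cubeC_iff.2 hcube, Bool.and_true, Bool.false_eq_true, false_or] at h3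
  refine (D.act_J_iff hq).2 fun a => ?_
  obtain ⟨t, rfl⟩ := toV_facts.2.1 a
  rw [hqact, sameT_iff.1 h3.1 t, am_facts.1]

/-- The plane is the largest three-subgroup through it in the centralizer. -/
theorem eq_fixJ (hm : D.Monomial) {Q : Subgroup G} (hQ : IsPGroup 3 Q) (hle : D.fixJ s ≤ Q)
    (hc : Q ≤ centralizer ({s} : Set G)) : Q = D.fixJ s := by
  haveI : Fact (Nat.Prime 3) := ⟨Nat.prime_three⟩
  by_contra hne
  haveI : Group.IsNilpotent Q := hQ.isNilpotent
  have hlt : (D.fixJ s).subgroupOf Q < ⊤ := lt_top_iff_ne_top.2 fun e => hne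
    (le_antisymm (Subgroup.subgroupOf_eq_top.1 e) hle)
  obtain ⟨g, hg, hgF⟩ := SetLike.exists_of_lt
    (Group.normalizerCondition_of_isNilpotent ((D.fixJ s).subgroupOf Q) hlt)
  obtain ⟨k, hk⟩ := hQ g
  refine hgF (mem_subgroupOf.2 (h.mem_fixJ hm ?_ (mem_centralizer_singleton_iff.1 (hc g.2)) (k := k)
    (by simpa using congrArg Subtype.val hk)))
  exact h.norm_plane hm fun y hy => (mem_normalizer_iff.1 hg ⟨y, hle hy⟩).1 hy

theorem isPGroup : IsPGroup 3 (D.fixJ s) := D.isPGroup_J.to_le inf_le_left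

/-- Three-subgroups of the centralizer move into the plane. -/
theorem conj_into (hm : D.Monomial) {Q : Subgroup G} (hQ : IsPGroup 3 Q)
    (hc : Q ≤ centralizer ({s} : Set G)) :
    ∃ c ∈ centralizer ({s} : Set G), ∀ y ∈ Q, c * y * c⁻¹ ∈ D.fixJ s := by
  haveI : Fact (Nat.Prime 3) := ⟨Nat.prime_three⟩
  set X := centralizer ({s} : Set G)
  let T : Sylow 3 X := ⟨(D.fixJ s).subgroupOf X, h.isPGroup.comap_subtype, fun {R} hR hle => by
    have h1 : D.fixJ s ≤ R.map X.subtype := fun y hy => ⟨⟨y, hy.2⟩, hle hy, rfl⟩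
    refine le_antisymm (fun r hr => ?_) hle
    show (r : G) ∈ D.fixJ s
    rw [← h.eq_fixJ hm (hR.map _) h1 (map_subtype_le R)]
    exact ⟨r, hr, rfl⟩⟩
  obtain ⟨R, hR⟩ := (show IsPGroup 3 (Q.subgroupOf X) from hQ.comap_subtype).exists_le_sylow
  obtain ⟨c, hcT⟩ := MulAction.exists_smul_eq X R T
  refine ⟨c, c.2, fun y hy => ?_⟩
  have h1 : c * ⟨y, hc hy⟩ * c⁻¹ ∈ (T : Subgroup X) := by
    rw [← hcT, Sylow.coe_subgroup_smul]
    exact Subgroup.smul_mem_pointwise_smul _ (MulAut.conj c) _ (hR hy)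
  exact h1

theorem nine_dvd : 9 ∣ Nat.card (centralizer ({s} : Set G)) :=
  h.plane ▸ Subgroup.card_dvd_of_le inf_le_right

end Refl

theorem card_cent_conj {x y g : G} (e : g * x * g⁻¹ = y) :
    Nat.card (centralizer ({y} : Set G)) = Nat.card (centralizer ({x} : Set G)) := by
  refine Nat.card_congr ((MulAut.conj g).toEquiv.subtypeEquiv fun c => ?_).symm
  show c ∈ centralizer ({x} : Set G) ↔ g * c * g⁻¹ ∈ centralizer ({y} : Set G)
  rw [mem_centralizer_singleton_iff, mem_centralizer_singleton_iff, ← e,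
    show g * c * g⁻¹ * (g * x * g⁻¹) = g * (c * x) * g⁻¹ by group,
    show g * x * g⁻¹ * (g * c * g⁻¹) = g * (x * c) * g⁻¹ by group]
  exact ⟨fun h => by rw [h], fun h => mul_left_cancel (mul_right_cancel h)⟩

/-- An involution with a line of fixed points whose centralizer lies in the normalizer. -/
theorem not_nine_dvd {s : G} {b : V3} (hb : b ≠ 0) (ho : ¬ D.Orb b) (hle : D.Cv b ≤ D.N)
    (hbs : D.v b ∈ D.fixJ s) (h3 : Nat.card (D.fixJ s) = 3) :
    ¬ 9 ∣ Nat.card (centralizer ({s} : Set G)) := by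
  intro hd
  haveI : Fact (Nat.Prime 3) := ⟨Nat.prime_three⟩
  set X := centralizer ({s} : Set G)
  set B := zpowers (D.v b)
  have hBcard : Nat.card B = 3 := by rw [Nat.card_zpowers, D.orderOf_v hb]
  have hBF : B = D.fixJ s := Subgroup.eq_of_le_of_card_ge (zpowers_le.2 hbs) (by rw [h3, hBcard])
  obtain ⟨S, hS⟩ := ((IsPGroup.of_card (n := 1) (by rw [hBcard, pow_one]) :
    IsPGroup 3 B).comap_subtype (K := X)).exists_le_sylow
  set R := (S : Subgroup X).map X.subtype with hR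
  have hBR : B ≤ R := fun y hy => ⟨⟨y, (hBF ▸ hy : y ∈ D.fixJ s).2⟩, hS hy, rfl⟩
  have hRp : IsPGroup 3 R := S.isPGroup'.map _
  have hR0 : R ⊓ D.Cv b ≤ B := by
    have hJ : D.J ≤ D.Cv b := D.J_le_cent_v b
    have hsup : IsPGroup 3 (D.J ⊔ (R ⊓ D.Cv b) : Subgroup G) :=
      D.isPGroup_J.to_sup_of_normal_left' (hRp.to_le inf_le_left) (inf_le_right.trans hle)
    have h1 := D.eq_J_of_le hb ho hsup le_sup_left (sup_le hJ inf_le_right)
    intro y hy
    rw [hBF]
    exact ⟨h1.le ((le_sup_right : R ⊓ D.Cv b ≤ D.J ⊔ (R ⊓ D.Cv b)) hy), map_subtype_le _ hy.1⟩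
  have hcardR : Nat.card R = 3 := by
    haveI : Nontrivial R := (Subgroup.nontrivial_iff_ne_bot R).2 fun e => by
      have h0 := Subgroup.card_le_of_le (e ▸ hBR : B ≤ ⊥)
      rw [hBcard, card_bot] at h0
      omega
    have hbR : D.v b ∈ R := hBR (mem_zpowers _)
    haveI := hRp.center_nontrivial
    obtain ⟨⟨c, hc⟩, hc1⟩ := exists_ne (1 : center R)
    have hcb : (c : G) ∈ B := hR0 ⟨c.2, mem_centralizer_singleton_iff.2
      (congrArg Subtype.val (mem_center_iff.1 hc ⟨_, hbR⟩)).symm⟩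
    have hgen : zpowers (c : G) = B := by
      refine Subgroup.eq_of_le_of_card_ge (zpowers_le.2 hcb) ?_
      rw [hBcard, Nat.card_zpowers]
      have h1 : orderOf (c : G) ∣ 3 := hBcard ▸ Subgroup.orderOf_dvd_natCard B hcb
      rcases (Nat.dvd_prime Nat.prime_three).1 h1 with e | e
      · exact absurd (Subtype.ext (Subtype.ext (orderOf_eq_one_iff.1 e))) hc1
      · rw [e]
    have hall : R ≤ D.Cv b := fun y hy => by
      obtain ⟨n, hn⟩ : D.v b ∈ zpowers (c : G) := hgen.ge (mem_zpowers _)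
      rw [mem_centralizer_singleton_iff, ← hn]
      exact (Commute.zpow_right (congrArg Subtype.val (mem_center_iff.1 hc ⟨y, hy⟩)) n).eq
    rw [← hBcard, le_antisymm (le_inf le_rfl hall |>.trans hR0) hBR]
  have h9 : 9 ∣ Nat.card (S : Subgroup X) := S.pow_dvd_card_of_pow_dvd_card (n := 2) hd
  rw [hR, card_map_of_injective X.subtype_injective] at hcardR
  rw [hcardR] at h9
  norm_num at h9

theorem Refl.not_conj {s s' g : G} (h : Refl D s) {b : V3} (hb : b ≠ 0) (ho : ¬ D.Orb b)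
    (hle : D.Cv b ≤ D.N) (hbs : D.v b ∈ D.fixJ s') (h3 : Nat.card (D.fixJ s') = 3) :
    g * s * g⁻¹ ≠ s' := fun e => by
  refine not_nine_dvd hb ho hle hbs h3 ?_
  rw [card_cent_conj e]
  exact h.nine_dvd

/-- An involution centralized by an element outside the core is not fused to a reflection whose plane
avoids the orbit. -/
theorem Refl.not_conj_outside {s z g c : G} (h : Refl D s) (hm : D.Monomial)
    (hs : ∀ b, D.v b ∈ D.fixJ s → ¬ D.Orb b) (hcP : c ∈ D.P) (hcJ : c ∉ D.J) (hcz : Commute c z) :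
    g * z * g⁻¹ ≠ s := fun e => by
  have hc : g * c * g⁻¹ ∈ centralizer ({s} : Set G) := by
    rw [mem_centralizer_singleton_iff, ← e]
    calc g * c * g⁻¹ * (g * z * g⁻¹) = g * (c * z) * g⁻¹ := by group
      _ = _ := by rw [hcz.eq]; group
  obtain ⟨k, hk⟩ := D.isPGroup_P ⟨c, hcP⟩
  have hp : IsPGroup 3 (zpowers (g * c * g⁻¹)) := by
    haveI : Fact (Nat.Prime 3) := ⟨Nat.prime_three⟩
    obtain ⟨i, -, hi⟩ := (Nat.dvd_prime_pow Nat.prime_three).1 (show orderOf (g * c * g⁻¹) ∣ 3 ^ k from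
      orderOf_dvd_of_pow_eq_one (by
        rw [conj_pow, show c ^ 3 ^ k = 1 by simpa using congrArg Subtype.val hk]; group))
    exact IsPGroup.of_card (n := i) (by rw [Nat.card_zpowers, hi])
  obtain ⟨d, -, hd⟩ := h.conj_into hm hp (zpowers_le.2 hc)
  obtain ⟨b, hb⟩ := D.mem_J.1 (hd _ (mem_zpowers _)).1
  refine hs b (hb ▸ hd _ (mem_zpowers _)) (D.outside_orb hcP hcJ (g := d * g) ?_)
  rw [hb]; group

theorem orbit_groups (hm : D.Monomial) :
    ∃ L ∈ signGroups, D.orbit = L.toFinset.image toV := by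
  obtain ⟨g1, g2, g3, g4, -⟩ := group_facts
  rcases hm.orbit_four with e | e | e | e <;> rw [e]
  exacts [⟨_, by simp [signGroups], g1⟩, ⟨_, by simp [signGroups], g2⟩, ⟨_, by simp [signGroups], g3⟩,
    ⟨_, by simp [signGroups], g4⟩]

end Data

end Cfsg.Agent.Recog.SymNine
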