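import Cfsg.Agent.Lib.Recog.SymNine.Two
import Cfsg.Agent.Lib.Recog.MonoCubeModel

/-!
In the full case: a complement of the core in its normalizer extending the block permutations, and
the code group of the even part.
-/

set_option autoImplicit false
set_option linter.style.haveILetI false
set_option linter.unusedSectionVars false
set_option maxRecDepth 100000
set_option synthInstance.maxSize 4096

namespace Cfsg.Agent.Recog.SymNine

open Cfsg Subgroup

universe u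

/-- The sign vector of the first block. -/
def fv0 : V3 := ![-1, 1, 1]

/-- The sign vector of the second block. -/
def fv1 : V3 := ![1, -1, 1]

/-- The sign vector of the third block. -/
def fv2 : V3 := ![1, 1, -1]

theorem fv_facts :
    fv0 ∈ cubeL ∧ fv1 ∈ cubeL ∧ fv2 ∈ cubeL ∧ pm cyc fv0 = fv1 ∧ pm cyc fv1 = fv2 ∧ pm cyc fv2 = fv0 ∧
      pm tr fv0 = fv0 ∧ pm tr fv1 = fv2 ∧ pm tr fv2 = fv1 ∧
      fv0 * fv1 * fv2 = -one3 ∧ (∀ a : V3, -pm cyc a = pm cyc (-a)) ∧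
      cyc * cyc * cyc = 1 ∧ tr * cyc * tr = cyc * cyc := by decide +kernel

theorem fv_fixed : ∀ b : V3, mon fv0 1 b = -b → mon fv1 1 b = -b → b = 0 := by decide +kernel

theorem s3_gen : ∀ σ : S3, ∃ k : Fin 3, σ = cyc ^ (k : ℕ) ∨ σ = cyc ^ (k : ℕ) * tr := by
  decide +kernel

namespace Data

variable {G : Type u} [Group G] [Finite G]

/-- A complement of the core in its normalizer extending the block permutations. -/
structure Kappa (D : Data G) (κ : V3 → S3 → G) : Prop where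
  mem : ∀ e ∈ cubeL, ∀ σ, κ e σ ∈ D.N
  act : ∀ e ∈ cubeL, ∀ σ, ∀ a, D.act (κ e σ) a = mon e σ a
  mul : ∀ e ∈ cubeL, ∀ σ, ∀ e' ∈ cubeL, ∀ σ', κ e σ * κ e' σ' = κ (e * pm σ e') (σ * σ')
  perm : ∀ σ, κ one3 σ = D.el 0 σ
  surj : ∀ g ∈ D.N, ∃ a, ∃ e ∈ cubeL, ∃ σ, g = D.v a * κ e σ

variable {D : Data G}

/-- An involution acting as minus one and centralizing the block permutations. -/
theorem exists_central_neg (hm : D.Monomial) (h : D.orbit = cubeL.toFinset) :
    ∃ z ∈ D.N, z * z = 1 ∧ (∀ a, D.act z a = -a) ∧ ∀ σ, Commute (D.el 0 σ) z := by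
  classical
  obtain ⟨h0, h1, h2, hc0, hc1, hc2, ht0, ht1, ht2, hprod, -, hcyc3, htct⟩ := fv_facts
  obtain ⟨S, ℓ, hSN, -, htS, hl, -, huniq, -⟩ := exists_two hm
  have hmem : ∀ {e : V3}, e ∈ cubeL → e ∈ D.orbit := fun he => h ▸ List.mem_toFinset.2 he
  obtain ⟨hfS, hfact⟩ := hl fv0 (hmem h0) 1 (Or.inl rfl)
  set f0 := ℓ fv0 1
  have htact : ∀ a, D.act D.tt a = mon one3 tr a := fun a => by rw [tt, D.act_el, mon_one3]
  have hf2 : f0 * f0 = 1 := huniq _ (mul_mem hfS hfS) _ (one_mem _) fun a => by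
    rw [D.act_mul (hSN hfS) (hSN hfS), hfact, hfact, mon_comp, pm_one, one_mul, cubeL_sq _ h0,
      D.act_one, mon_one3, pm_one]
  have hft : f0 * D.tt = D.tt * f0 := huniq _ (mul_mem hfS htS) _ (mul_mem htS hfS) fun a => by
    rw [D.act_mul (hSN hfS) D.refl_tt.mem, D.act_mul D.refl_tt.mem (hSN hfS), hfact, htact, htact,
      hfact, mon_comp, mon_comp, pm_one, ht0, one_mul, mul_one, mul_comm fv0]
  set m := D.el 0 cyc with hm'
  have hmN : m ∈ D.N := D.el_mem_N _ _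
  have hτ : ∀ σ σ', D.el 0 (σ * σ') = D.el 0 σ * D.el 0 σ' := fun σ σ' => by
    rw [el_zero_v, el_zero_v, el_zero_v, map_mul]
  have hm3 : m * m * m = 1 := by rw [hm', ← hτ, ← hτ, hcyc3, D.el_zero']
  have hmi : m⁻¹ = m * m := inv_eq_of_mul_eq_one_right (by rw [← mul_assoc, hm3])
  have htm : D.tt * m * D.tt = m * m := by rw [hm', tt, ← hτ, ← hτ, ← hτ, htct]
  set f1 := m * f0 * m⁻¹ with hf1
  set f2 := m * f1 * m⁻¹ with hf2'
  have hconj : ∀ {g : G} {e : V3}, g ∈ D.N → (∀ a, D.act g a = mon e 1 a) →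
      ∀ a, D.act (m * g * m⁻¹) a = mon (pm cyc e) 1 a := fun {g e} hg hga a => by
    rw [D.act_mul (mul_mem hmN hg) (inv_mem hmN), D.act_mul hmN hg, hga, hm', D.el_inv, D.act_el,
      D.act_el, ← mon_one3 cyc⁻¹, ← mon_one3 cyc, mon_comp, mon_comp, mul_one, mul_inv_cancel]
    congr 1
    funext i; simp [one3, pm]
  have hN1 : f1 ∈ D.N := mul_mem (mul_mem hmN (hSN hfS)) (inv_mem hmN)
  have hN2 : f2 ∈ D.N := mul_mem (mul_mem hmN hN1) (inv_mem hmN)
  have hact1 : ∀ a, D.act f1 a = mon fv1 1 a := hc0 ▸ hconj (hSN hfS) hfact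
  have hact2 : ∀ a, D.act f2 a = mon fv2 1 a := hc1 ▸ hconj hN1 hact1
  have hf12 : f1 * f1 = 1 := by
    rw [hf1, show m * f0 * m⁻¹ * (m * f0 * m⁻¹) = m * (f0 * f0) * m⁻¹ by group, hf2, mul_one,
      mul_inv_cancel]
  have h01 : f0 * f1 = f1 * f0 := by
    have hc : f0 * f1 * f0 * f1 ∈ D.J :=
      (D.act_J_iff (mul_mem (mul_mem (mul_mem (hSN hfS) hN1) (hSN hfS)) hN1)).2 fun a => by
        rw [D.act_mul (mul_mem (mul_mem (hSN hfS) hN1) (hSN hfS)) hN1,
          D.act_mul (mul_mem (hSN hfS) hN1) (hSN hfS), D.act_mul (hSN hfS) hN1, hact1, hfact, hact1,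
          hfact, mon_comp, mon_comp, mon_comp]
        simp only [pm_one, mul_one]
        rw [show fv0 * fv1 * fv0 * fv1 = fv0 * fv0 * (fv1 * fv1) by ring, cubeL_sq _ h0,
          cubeL_sq _ (fv_facts.2.1), show one3 * one3 = one3 from one_mul one3, mon_one3, pm_one]
    obtain ⟨b, hb⟩ := D.mem_J.1 hc
    have hinv : f1⁻¹ = f1 := inv_eq_of_mul_eq_one_right hf12
    have hinv0 : f0⁻¹ = f0 := inv_eq_of_mul_eq_one_right hf2
    have hci : (f0 * f1 * f0 * f1)⁻¹ = f1 * f0 * f1 * f0 := by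
      refine inv_eq_of_mul_eq_one_right ?_
      calc f0 * f1 * f0 * f1 * (f1 * f0 * f1 * f0) = f0 * f1 * f0 * (f1 * f1) * f0 * f1 * f0 := by group
        _ = f0 * f1 * (f0 * f0) * f1 * f0 := by rw [hf12]; group
        _ = f0 * (f1 * f1) * f0 := by rw [hf2]; group
        _ = 1 := by rw [hf12, mul_one, hf2]
    have hb0 : mon fv0 1 b = -b := by
      rw [← hfact]
      refine D.act_eq ?_
      rw [D.v_neg, hb, hinv0, hci,
        show f0 * (f0 * f1 * f0 * f1) * f0 = f0 * f0 * (f1 * f0 * f1 * f0) by group, hf2, one_mul]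
    have hb1 : mon fv1 1 b = -b := by
      rw [← hact1]
      refine D.act_eq ?_
      rw [D.v_neg, hb, hinv, hci,
        show f1 * (f0 * f1 * f0 * f1) * f1 = f1 * f0 * f1 * f0 * (f1 * f1) by group, hf12, mul_one]
    rw [fv_fixed b hb0 hb1, D.v_zero] at hb
    calc f0 * f1 = f0 * f1 * f0 * f1 * (f1⁻¹ * f0⁻¹) := by group
      _ = f1 * f0 := by rw [← hb, one_mul, hinv, hinv0]
  have h12 : f1 * f2 = f2 * f1 := by
    calc f1 * f2 = m * (f0 * f1) * m⁻¹ := by rw [hf2', hf1]; group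
      _ = f2 * f1 := by rw [h01, hf2', hf1]; group
  have h20 : m * f2 * m⁻¹ = f0 := by
    rw [hf2', hf1, show m * (m * (m * f0 * m⁻¹) * m⁻¹) * m⁻¹ = m * m * m * f0 * (m * m * m)⁻¹ by group,
      hm3]; group
  have h02 : f0 * f2 = f2 * f0 := by
    calc f0 * f2 = m * (f2 * f1) * m⁻¹ := by
          rw [← h20]; nth_rewrite 2 [hf2']; group
      _ = m * (f1 * f2) * m⁻¹ := by rw [h12]
      _ = f2 * f0 := by rw [← h20]; nth_rewrite 2 [hf2']; group
  have htf1 : D.tt * f1 * D.tt = f2 := by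
    have hmm : D.tt * m⁻¹ * D.tt = m := by
      rw [hmi, show D.tt * (m * m) * D.tt = D.tt * m * (D.tt * D.tt) * m * D.tt by
        rw [D.refl_tt.sq]; group, show D.tt * m * (D.tt * D.tt) * m * D.tt =
          D.tt * m * D.tt * (D.tt * m * D.tt) by group, htm,
        show m * m * (m * m) = m * m * m * m by group, hm3, one_mul]
    calc D.tt * f1 * D.tt = D.tt * m * (D.tt * D.tt) * f0 * (D.tt * D.tt) * m⁻¹ * D.tt := by
          rw [D.refl_tt.sq, hf1]; group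
      _ = D.tt * m * D.tt * (D.tt * f0 * D.tt) * (D.tt * m⁻¹ * D.tt) := by group
      _ = m * m * f0 * (m * m)⁻¹ := by
          rw [htm, hmm, ← hft, mul_assoc f0, D.refl_tt.sq, mul_one, mul_inv_rev, hmi,
            show m * m * (m * m) = m * m * m * m by group, hm3, one_mul]
      _ = f2 := by rw [hf2', hf1]; group
  set z := f0 * f1 * f2 with hz
  have hzN : z ∈ D.N := mul_mem (mul_mem (hSN hfS) hN1) hN2
  have hcc : Commute (D.el 0 cyc) z := by
    show m * z = z * m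
    calc m * z = m * f0 * m⁻¹ * (m * f1 * m⁻¹) * (m * f2 * m⁻¹) * m := by rw [hz]; group
      _ = f1 * f2 * f0 * m := by rw [← hf1, ← hf2', h20]
      _ = z * m := by
        rw [hz, mul_assoc f1 f2 f0, ← h02, ← mul_assoc, ← h01]
  have hct : Commute (D.el 0 tr) z := by
    show D.tt * z = z * D.tt
    have htf2 : D.tt * f2 * D.tt = f1 := by
      rw [← htf1, show D.tt * (D.tt * f1 * D.tt) * D.tt = D.tt * D.tt * f1 * (D.tt * D.tt) by group,
        D.refl_tt.sq]; group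
    calc D.tt * z = D.tt * f0 * (D.tt * D.tt) * f1 * (D.tt * D.tt) * f2 * (D.tt * D.tt) := by
          rw [D.refl_tt.sq, hz]; group
      _ = D.tt * f0 * D.tt * (D.tt * f1 * D.tt) * (D.tt * f2 * D.tt) * D.tt := by group
      _ = z * D.tt := by
        rw [htf1, htf2, ← hft, mul_assoc f0, D.refl_tt.sq, mul_one, hz, mul_assoc f0, ← h12, ← mul_assoc]
  refine ⟨z, hzN, ?_, fun a => ?_, fun σ => ?_⟩
  · have hf22 : f2 * f2 = 1 := by
      rw [hf2', show m * f1 * m⁻¹ * (m * f1 * m⁻¹) = m * (f1 * f1) * m⁻¹ by group, hf12, mul_one,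
        mul_inv_cancel]
    calc z * z = f0 * f1 * (f2 * f0) * f1 * f2 := by rw [hz]; group
      _ = f0 * f1 * f0 * (f2 * f1) * f2 := by rw [← h02]; group
      _ = f0 * (f1 * f0) * f1 * (f2 * f2) := by rw [← h12]; group
      _ = f0 * f0 * (f1 * f1) := by rw [← h01, hf22]; group
      _ = 1 := by rw [hf2, hf12, one_mul]
  · rw [hz, D.act_mul (mul_mem (hSN hfS) hN1) hN2, D.act_mul (hSN hfS) hN1, hact2, hact1, hfact,
      mon_comp, mon_comp]
    simp only [pm_one, mul_one]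
    rw [hprod]
    funext i; simp [mon, one3]
  · obtain ⟨k, hk | hk⟩ := s3_gen σ
    · rw [hk, el_zero_v, map_pow]; exact (el_zero_v D cyc ▸ hcc).pow_left _
    · rw [hk, el_zero_v, map_mul, map_pow]
      exact ((el_zero_v D cyc ▸ hcc).pow_left _).mul_left (el_zero_v D tr ▸ hct)

theorem exists_kappa (hm : D.Monomial) (h : D.orbit = cubeL.toFinset) : ∃ κ, Kappa D κ := by
  classical
  obtain ⟨z, hz, hz2, hza, hzc⟩ := exists_central_neg hm h
  obtain ⟨κ, hκ, hmul, hsurj⟩ := hm.exists_complement hz hz2 hza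
  have hmem : ∀ {e : V3}, e ∈ cubeL → e ∈ D.orbit := fun he => h ▸ List.mem_toFinset.2 he
  refine ⟨κ, fun e he σ => (hκ e (hmem he) σ).1, fun e he σ => (hκ e (hmem he) σ).2.2,
    fun e he σ e' he' σ' => hmul e (hmem he) σ e' (hmem he') σ', fun σ => ?_, fun g hg => ?_⟩
  · obtain ⟨e, he, σ', hs⟩ := hsurj _ (D.el_mem_N 0 σ) (hzc σ)
    obtain ⟨h1, h2⟩ := mon_inj one3_cube.1 (σ := σ) (e' := e) (σ' := σ') fun a => by
      rw [mon_one3, ← D.act_el 0 σ, hs, (hκ e he σ').2.2]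
    rw [hs, ← h1, ← h2]
  · obtain ⟨e, he, σ, hga⟩ := hm g hg
    obtain ⟨hkN, -, hka⟩ := hκ e (hmem he) σ
    have hj : g * (κ e σ)⁻¹ ∈ D.J := (D.act_J_iff (mul_mem hg (inv_mem hkN))).2 fun a => by
      rw [D.act_mul hg (inv_mem hkN), hga, ← hka, ← D.act_mul hkN (inv_mem hkN), mul_inv_cancel,
        D.act_one]
    obtain ⟨a, ha⟩ := D.mem_J.1 hj
    exact ⟨a, e, he, σ, by rw [ha, inv_mul_cancel_right]⟩

namespace Kappa

variable {κ : V3 → S3 → G} (K : Kappa D κ)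

include K

theorem one : κ one3 1 = 1 := by rw [K.perm, D.el_zero']

theorem conj_v {e : V3} (he : e ∈ cubeL) (σ : S3) (a : V3) :
    κ e σ * D.v a * (κ e σ)⁻¹ = D.v (mon e σ a) := by
  rw [D.act_spec (K.mem e he σ), K.act e he σ]

theorem mul_pair {e e' : V3} (he : e ∈ cubeL) (he' : e' ∈ cubeL) (σ σ' : S3) (a a' : V3) :
    D.v a * κ e σ * (D.v a' * κ e' σ') = D.v (a + mon e σ a') * κ (e * pm σ e') (σ * σ') := by
  rw [D.v_add, ← K.conj_v he σ a', ← K.mul e he σ e' he' σ']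
  group

theorem pair_mem {e : V3} (he : e ∈ cubeL) (σ : S3) (a : V3) : D.v a * κ e σ ∈ D.N :=
  mul_mem (D.J_le_N (D.v_mem a)) (K.mem e he σ)

theorem pair_act {e : V3} (he : e ∈ cubeL) (σ : S3) (a b : V3) :
    D.act (D.v a * κ e σ) b = mon e σ b := by
  rw [D.act_mul (D.J_le_N (D.v_mem a)) (K.mem e he σ), D.act_J (D.v_mem a), K.act e he σ]

theorem pair_inj {e e' : V3} (he : e ∈ cubeL) (he' : e' ∈ cubeL) {σ σ' : S3} {a a' : V3}
    (h : D.v a * κ e σ = D.v a' * κ e' σ') : a = a' ∧ e = e' ∧ σ = σ' := by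
  obtain ⟨h1, h2⟩ := mon_inj he (σ := σ) (e' := e') (σ' := σ') fun b => by
    rw [← K.pair_act he σ a b, h, K.pair_act he' σ' a' b]
  subst h1 h2
  exact ⟨D.v_inj (mul_right_cancel h), rfl, rfl⟩

theorem act_eq_iff {g : G} (hg : g ∈ D.N) {e : V3} {σ : S3}
    (h : ∀ a, D.act g a = mon e σ a) : ∃ a, g = D.v a * κ e σ := by
  obtain ⟨a, e', he', σ', rfl⟩ := K.surj g hg
  obtain ⟨h1, h2⟩ := mon_inj he' (σ := σ') (e' := e) (σ' := σ) fun b => by
    rw [← h, K.pair_act he' σ' a b]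
  exact ⟨a, by rw [h1, h2]⟩

end Kappa

end Data

open MonoCube

/-- The block permutation of a code. -/
def blkS (w : W) : S3 :=
  ⟨W.P w.p, W.P (W.pinv w.p), W.pinv_P w.p, W.P_pinv w.p⟩

/-- The sign vector of a code. -/
def blkE (w : W) : V3 := fun c => if W.neg w.p w.e (W.P (W.pinv w.p) c) then -1 else 1

/-- The shift vector of a code. -/
def blkA (w : W) : V3 := fun c => w.sh c

/-- The negation of a block on coordinates. -/
def apZ (n : Bool) (i : ZMod 3) : ZMod 3 := W.ap n i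

theorem ap_eq : ∀ (n : Bool) (i : ZMod 3), apZ n i = (if n then -1 else 1) * i := by
  decide +kernel

/-- The action of a code in coordinates. -/
def actZ (w : W) (t : Fin 3 × ZMod 3) : Fin 3 × ZMod 3 := W.act w t

theorem act_blk (w : W) (b : Fin 3) (i : ZMod 3) :
    actZ w (b, i) = (blkS w b, blkE w (blkS w b) * i + blkA w (blkS w b)) := by
  have h1 : blkS w b = W.P w.p b := rfl
  rw [h1]
  show (W.P w.p b, apZ (W.neg w.p w.e b) i + blkA w (W.P w.p b)) = _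
  simp only [blkE, W.pinv_P, ap_eq]

theorem blk_cube (w : W) : blkE w ∈ cubeL := (mem_cubeL _).2 fun i => by
  simp only [blkE]; split_ifs <;> decide

theorem blk_mul (w v : W) : blkS (w * v) = blkS w * blkS v ∧
    blkE (w * v) = blkE w * pm (blkS w) (blkE v) ∧
    blkA (w * v) = blkA w + mon (blkE w) (blkS w) (blkA v) := by
  have h : ∀ (b : Fin 3) (i : ZMod 3), actZ (w * v) (b, i) = (blkS w (blkS v b),
      blkE w (blkS w (blkS v b)) * (blkE v (blkS v b) * i + blkA v (blkS v b)) +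
        blkA w (blkS w (blkS v b))) := fun b i => by
    rw [show actZ (w * v) (b, i) = actZ w (actZ v (b, i)) from W.act_mul w v (b, i), act_blk v,
      act_blk w]
  have hS : blkS (w * v) = blkS w * blkS v := Equiv.ext fun b =>
    congrArg Prod.fst ((act_blk (w * v) b 0).symm.trans (h b 0))
  have hc : ∀ c, ∃ b, blkS (w * v) b = c ∧ blkS w (blkS v b) = c ∧ blkS v b = (blkS w).symm c :=
    fun c => ⟨(blkS (w * v)).symm c, Equiv.apply_symm_apply _ c, by
      rw [← Equiv.Perm.mul_apply, ← hS, Equiv.apply_symm_apply], by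
      rw [Equiv.eq_symm_apply, ← Equiv.Perm.mul_apply, ← hS, Equiv.apply_symm_apply]⟩
  have hA : ∀ c, blkA (w * v) c = blkA w c + blkE w c * blkA v ((blkS w).symm c) := fun c => by
    obtain ⟨b, h1, h2, h3⟩ := hc c
    have h4 := congrArg Prod.snd ((act_blk (w * v) b 0).symm.trans (h b 0))
    simp only [h1, h3, mul_zero, zero_add, Equiv.apply_symm_apply] at h4
    rw [h4, add_comm]
  refine ⟨hS, funext fun c => ?_, funext fun c => by rw [hA c]; rfl⟩
  obtain ⟨b, h1, h2, h3⟩ := hc c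
  have h5 := congrArg Prod.snd ((act_blk (w * v) b 1).symm.trans (h b 1))
  simp only [h1, h3, mul_one, mul_add, hA c, Equiv.apply_symm_apply] at h5
  show blkE (w * v) c = blkE w c * blkE v ((blkS w).symm c)
  linear_combination h5

theorem blk_one : blkS 1 = 1 ∧ blkE 1 = one3 ∧ blkA 1 = 0 := by decide +kernel

theorem blk_inj {w v : W} (h1 : blkS w = blkS v) (h2 : blkE w = blkE v) (h3 : blkA w = blkA v) :
    w = v := W.act_inj fun t => show actZ w (t.1, (show ZMod 3 from t.2)) = actZ v (t.1, (show ZMod 3 from t.2)) by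
  rw [act_blk, act_blk, h1, h2, h3]

theorem blk_codes : ∀ σ : S3, ∀ e ∈ cubeL,
    (Equiv.Perm.sign σ = 1 ↔ e ∈ evens) → ∃ p f, blkS ⟨p, f, 0, 0, 0⟩ = σ ∧ blkE ⟨p, f, 0, 0, 0⟩ = e := by
  decide +kernel

theorem blk_parity : ∀ p f, (Equiv.Perm.sign (blkS ⟨p, f, 0, 0, 0⟩) = 1 ↔ blkE ⟨p, f, 0, 0, 0⟩ ∈ evens) := by
  decide +kernel

theorem blk_data (w : W) : blkS w = blkS ⟨w.p, w.e, 0, 0, 0⟩ ∧ blkE w = blkE ⟨w.p, w.e, 0, 0, 0⟩ :=
  ⟨rfl, rfl⟩

theorem blkA_mk (a : V3) (p : Fin 6) (f : Fin 4) : blkA ⟨p, f, a 0, a 1, a 2⟩ = a := by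
  funext c; fin_cases c <;> rfl

namespace Data

variable {G : Type u} [Group G] [Finite G] {D : Data G} {κ : V3 → S3 → G}

/-- The code group in the group. -/
def Kappa.code (K : Kappa D κ) : W →* G :=
  MonoidHom.mk' (fun w => D.v (blkA w) * κ (blkE w) (blkS w)) fun w v => by
    obtain ⟨h1, h2, h3⟩ := blk_mul w v
    rw [K.mul_pair (blk_cube w) (blk_cube v), h1, h2, h3]

theorem Kappa.code_injective (K : Kappa D κ) : Function.Injective K.code := fun w v h => by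
  obtain ⟨h1, h2, h3⟩ := K.pair_inj (blk_cube w) (blk_cube v) h
  exact blk_inj h3 h2 h1

theorem Kappa.code_act (K : Kappa D κ) (w : W) (b : V3) :
    D.act (K.code w) b = mon (blkE w) (blkS w) b := K.pair_act (blk_cube w) _ _ _

theorem Kappa.code_mem (K : Kappa D κ) (w : W) : K.code w ∈ D.N := K.pair_mem (blk_cube w) _ _

theorem Kappa.mem_code (K : Kappa D κ) {g : G} :
    g ∈ K.code.range ↔ ∃ a, ∃ e ∈ cubeL, ∃ σ, (Equiv.Perm.sign σ = 1 ↔ e ∈ evens) ∧ g = D.v a * κ e σ := by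
  constructor
  · rintro ⟨w, rfl⟩
    refine ⟨blkA w, blkE w, blk_cube w, blkS w, ?_, rfl⟩
    rw [(blk_data w).1, (blk_data w).2]
    exact blk_parity w.p w.e
  · rintro ⟨a, e, he, σ, hpar, rfl⟩
    obtain ⟨p, f, h1, h2⟩ := blk_codes σ e he hpar
    refine ⟨⟨p, f, a 0, a 1, a 2⟩, ?_⟩
    show D.v _ * κ _ _ = _
    rw [blkA_mk, (blk_data ⟨p, f, a 0, a 1, a 2⟩).1, (blk_data ⟨p, f, a 0, a 1, a 2⟩).2, h1, h2]

theorem Kappa.code_J (K : Kappa D κ) {a : V3} :
    K.code ⟨0, 0, a 0, a 1, a 2⟩ = D.v a := by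
  have h : blkS ⟨0, 0, 0, 0, 0⟩ = 1 ∧ blkE ⟨0, 0, 0, 0, 0⟩ = one3 := by decide +kernel
  show D.v _ * κ _ _ = _
  rw [blkA_mk, (blk_data ⟨0, 0, a 0, a 1, a 2⟩).1, (blk_data ⟨0, 0, a 0, a 1, a 2⟩).2, h.1, h.2, K.one,
    mul_one]

end Data

end Cfsg.Agent.Recog.SymNine
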