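import Cfsg.Agent.Lib.Recog.SymNine.Axis

/-!
Products of commuting conjugates of the inversion of one block are not conjugate to it.
-/

set_option autoImplicit false
set_option linter.style.haveILetI false
set_option linter.unusedSectionVars false
set_option maxRecDepth 100000
set_option synthInstance.maxSize 4096

namespace Cfsg.Agent.Recog.SymNine

open Cfsg Subgroup

universe u

theorem light_codes :
    toV (1, 0, 0) = u0 ∧ toV (1, 2, 2) = evP ∧ toV (2, 1, 1) = fv0 ∧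
    toV (0, 1, 1) = u1 + u2 ∧ (((1, 2, 2), 0), (1, 0, 0)) ∈ roList ∧
    (((2, 1, 1), 3), (0, 1, 1)) ∈ roList ∧
    fv1 * fv2 = evP ∧ pm (cyc * cyc) evP = fv0 * fv1 ∧ evP ∈ cubeL := by decide +kernel

theorem axis_singles : ∀ a : V3, (∃ i : Fin 3, a = Pi.single i 1 ∨ a = -Pi.single i 1) →
    a ∈ [(![1, 0, 0] : V3), ![0, 1, 0], ![0, 0, 1], ![-1, 0, 0], ![0, -1, 0], ![0, 0, -1]] := by
  decide +kernel

theorem six_conj_facts :
    (∃ g : S6, g * pR * g⁻¹ = pF) ∧ (∃ g : S6, g * pF * g⁻¹ = pR) ∧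
    (∃ g : S6, g * (pR * pF) * g⁻¹ = pF * pG) ∧ (∃ g : S6, g * (pR * pG) * g⁻¹ = pF * pG) ∧
    (∃ g : S6, g * (pR * (pF * pG)) * g⁻¹ = pT) ∧
    pR * pA * pR ≠ pA ∧ pR * pA * pR ≠ pA⁻¹ ∧ pR⁻¹ = pR := by decide +kernel

theorem sign_u1 : ∀ e ∈ cubeL, mon e 1 u1 = u1 ∨ mon e 1 u1 = -u1 := by decide +kernel

namespace Data

variable {G : Type u} [Group G] [Finite G] {D : Data G}

/-- An involution with a line of fixed points on the core centralizing no further three-element of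
the centralizer of that line. -/
theorem not_nine_dvd_of_cent {s : G} {b : V3} (hb : b ≠ 0) (hbs : Commute (D.v b) s)
    (hQ : ∀ g, Commute g (D.v b) → Commute g s → ∀ k : ℕ, g ^ 3 ^ k = 1 → g ∈ zpowers (D.v b)) :
    ¬ 9 ∣ Nat.card (centralizer ({s} : Set G)) := by
  intro hd
  haveI : Fact (Nat.Prime 3) := ⟨Nat.prime_three⟩
  set X := centralizer ({s} : Set G)
  set B := zpowers (D.v b)
  have hBcard : Nat.card B = 3 := by rw [Nat.card_zpowers, D.orderOf_v hb]
  have hBX : B ≤ X := zpowers_le.2 (mem_centralizer_singleton_iff.2 hbs.eq)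
  obtain ⟨S, hS⟩ := ((IsPGroup.of_card (n := 1) (by rw [hBcard, pow_one]) :
    IsPGroup 3 B).comap_subtype (K := X)).exists_le_sylow
  set R := (S : Subgroup X).map X.subtype with hR
  have hBR : B ≤ R := fun y hy => ⟨⟨y, hBX hy⟩, hS hy, rfl⟩
  have hRp : IsPGroup 3 R := S.isPGroup'.map _
  have hR0 : R ⊓ D.Cv b ≤ B := fun y hy => by
    obtain ⟨k, hk⟩ := hRp ⟨y, hy.1⟩
    exact hQ y (mem_centralizer_singleton_iff.1 hy.2)
      (mem_centralizer_singleton_iff.1 (map_subtype_le _ hy.1)) k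
      (by simpa using congrArg Subtype.val hk)
  have hcardR : Nat.card R = 3 := by
    haveI : Nontrivial R := (Subgroup.nontrivial_iff_ne_bot R).2 fun e => by
      have h0 := Subgroup.card_le_of_le (e ▸ hBR : B ≤ ⊥)
      rw [hBcard, card_bot] at h0
      omega
    have hbR : D.v b ∈ R := hBR (mem_zpowers _)
    haveI := hRp.center_nontrivial
    obtain ⟨⟨c, hc⟩, hc1⟩ := exists_ne (1 : center R)
    have hcb : (c : G) ∈ B := hR0 ⟨c.2, mem_centralizer_singleton_iff.2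
      (congrArg Subtype.val (mem_center_iff.1 hc ⟨_, hbR⟩)).symm⟩
    have hgen : zpowers (c : G) = B := by
      refine Subgroup.eq_of_le_of_card_ge (zpowers_le.2 hcb) ?_
      rw [hBcard, Nat.card_zpowers]
      have h1 : orderOf (c : G) ∣ 3 := hBcard ▸ Subgroup.orderOf_dvd_natCard B hcb
      rcases (Nat.dvd_prime Nat.prime_three).1 h1 with e | e
      · exact absurd (Subtype.ext (Subtype.ext (orderOf_eq_one_iff.1 e))) hc1
      · rw [e]
    have hall : R ≤ D.Cv b := fun y hy => by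
      obtain ⟨n, hn⟩ : D.v b ∈ zpowers (c : G) := hgen.ge (mem_zpowers _)
      rw [mem_centralizer_singleton_iff, ← hn]
      exact (Commute.zpow_right (congrArg Subtype.val (mem_center_iff.1 hc ⟨y, hy⟩)) n).eq
    rw [← hBcard, le_antisymm (le_inf le_rfl hall |>.trans hR0) hBR]
  have h9 : 9 ∣ Nat.card (S : Subgroup X) := S.pow_dvd_card_of_pow_dvd_card (n := 2) hd
  rw [hR, card_map_of_injective X.subtype_injective] at hcardR
  rw [hcardR] at h9
  norm_num at h9

/-- Centralizers of vectors off the axes. -/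
theorem cent_off_axes (hm : D.Monomial) {a : V3} (ha : a ≠ 0)
    (hoff : ¬ ∃ i : Fin 3, a = Pi.single i 1 ∨ a = -Pi.single i 1) : D.Cv a ≤ D.N :=
  (cent_cases hm ha).resolve_right fun ⟨_, i, hi, _⟩ => hoff ⟨i, hi⟩

/-- Not fused to the inversion of one block. -/
def Off (κ : V3 → S3 → G) (x : G) : Prop := ∀ g, g * κ fv0 1 * g⁻¹ ≠ x

theorem Off.conj {κ : V3 → S3 → G} {x : G} (h : Off κ x) (c : G) : Off κ (c * x * c⁻¹) := fun g hg => by
  refine h (c⁻¹ * g) ?_
  calc c⁻¹ * g * κ fv0 1 * (c⁻¹ * g)⁻¹ = c⁻¹ * (g * κ fv0 1 * g⁻¹) * c := by group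
    _ = x := by rw [hg]; group

theorem Off.of_conj {κ : V3 → S3 → G} {x y c : G} (h : Off κ y) (e : c * x * c⁻¹ = y) : Off κ x := by
  have := h.conj c⁻¹
  rwa [← e, inv_inv, show c⁻¹ * (c * x * c⁻¹) * c = x by group] at this

namespace Kappa

variable {κ : V3 → S3 → G} (K : Kappa D κ)

include K

theorem conj_perm {e : V3} (he : e ∈ cubeL) (σ : S3) :
    κ one3 σ * κ e 1 * (κ one3 σ)⁻¹ = κ (pm σ e) 1 := by
  rw [mul_inv_eq_iff_eq_mul, K.mul _ one3_cube.1 _ _ he, K.mul _ (cubeL_pm he σ) _ _ one3_cube.1,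
    mul_one, one_mul, pm_one, mul_comm one3]

theorem mul_one_perm {e e' : V3} (he : e ∈ cubeL) (he' : e' ∈ cubeL) :
    κ e 1 * κ e' 1 = κ (e * e') 1 := by
  rw [K.mul e he 1 e' he', pm_one, one_mul]

end Kappa

namespace Six

variable {κ : V3 → S3 → G} {ι : S6 →* G} (S : Six D κ ι)

include S

theorem off_double : Off κ (ι (pF * pG)) := by
  obtain ⟨hu, hev, -, -, hro, -, h12, -⟩ := light_codes
  obtain ⟨-, hf1, hf2, -⟩ := fv_facts
  intro g hg
  have hd : ι (pF * pG) = κ evP 1 := by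
    rw [map_mul, S.valF, S.valG, S.kappa.mul_one_perm hf1 hf2, h12]
  refine not_nine_dvd_of_cent (D := D) u_facts.2.1 (s := ι (pF * pG)) (S.cen _).symm (fun y hy hys k hk => ?_)
    (by rw [card_cent_conj hg]; exact S.kappa.refl_f0.nine_dvd)
  obtain ⟨c, τ, rfl⟩ := S.decomp y hy
  have hcomm : Commute (D.v (c • u0)) (ι τ) := by
    rcases smul_cases c u0 with e1 | e1 | e1 <;> rw [e1]
    · rw [D.v_zero]; exact Commute.one_left _
    · exact (S.cen τ).symm
    · rw [D.v_neg]; exact (S.cen τ).symm.inv_left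
  have hτd : τ * (pF * pG) = pF * pG * τ := S.inj (by
    rw [map_mul ι τ, map_mul ι _ τ]
    have h1 : Commute (D.v (c • u0)) (ι (pF * pG)) := by
      rcases smul_cases c u0 with e1 | e1 | e1 <;> rw [e1]
      · rw [D.v_zero]; exact Commute.one_left _
      · exact (S.cen _).symm
      · rw [D.v_neg]; exact (S.cen _).symm.inv_left
    have h2 := h1.inv_left.mul_left hys
    rw [inv_mul_cancel_left] at h2
    exact h2.eq)
  have hτ : τ ^ 3 ^ (k + 1) = 1 := S.inj (by
    have h1 : (D.v (c • u0) * ι τ) ^ 3 ^ (k + 1) = 1 := by rw [pow_succ, pow_mul, hk, one_pow]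
    rw [hcomm.mul_pow, pow_succ', pow_mul, pow_three', D.cube, one_pow, one_mul] at h1
    rw [map_pow, map_one, pow_succ', h1])
  have hτ1 : τ = 1 := by
    obtain ⟨j, -, hj⟩ := (Nat.dvd_prime_pow Nat.prime_three).1 (orderOf_dvd_of_pow_eq_one hτ)
    by_contra hne
    obtain ⟨i, rfl⟩ : ∃ i, j = i + 1 := Nat.exists_eq_succ_of_ne_zero fun e => hne
      (orderOf_eq_one_iff.1 (by rw [hj, e, pow_zero]))
    have h3 := six_double (τ ^ 3 ^ i) (by
      rw [← pow_three', ← pow_mul, ← pow_succ, ← hj, pow_orderOf_eq_one])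
      ((Commute.pow_left hτd _).eq)
    have h4 := orderOf_dvd_of_pow_eq_one h3
    rw [hj, Nat.pow_dvd_pow_iff_le_right (by norm_num)] at h4
    omega
  rw [hτ1, map_one, mul_one]
  rcases smul_cases c u0 with e1 | e1 | e1 <;> rw [e1]
  · rw [D.v_zero]; exact one_mem _
  · exact mem_zpowers _
  · rw [D.v_neg]; exact inv_mem (mem_zpowers _)

theorem off_tt : Off κ (ι pT) := fun g hg => by
  rw [S.valT] at hg
  refine S.kappa.not_conj_tt S.hm S.full g⁻¹ ?_
  rw [← hg]; group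

theorem off_neg : Off κ (κ fv0 1 * ι (pF * pG)) := fun g hg => by
  obtain ⟨hf0, hf1, hf2, -, -, -, -, -, -, hprod, -⟩ := fv_facts
  refine S.kappa.not_conj_neg S.hm S.full g⁻¹ ?_
  rw [show κ (-one3) 1 = g * κ fv0 1 * g⁻¹ by
    rw [hg, map_mul, S.valF, S.valG, S.kappa.mul_one_perm hf1 hf2,
      S.kappa.mul_one_perm hf0 (cubeL_mul hf1 hf2), ← mul_assoc fv0, hprod]]
  group

theorem off_flip : Off κ (κ fv0 1 * ι pF) := by
  obtain ⟨-, -, -, -, -, -, h12, hsh, hev⟩ := light_codes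
  obtain ⟨hf0, hf1, hf2, -⟩ := fv_facts
  have h := S.off_double
  rw [map_mul, S.valF, S.valG, S.kappa.mul_one_perm hf1 hf2, h12] at h
  have h2 := h.conj (κ one3 (cyc * cyc))
  rwa [S.kappa.conj_perm hev, hsh, ← S.kappa.mul_one_perm hf0 hf1, ← S.valF] at h2

theorem off_flip_tt : Off κ (κ fv0 1 * ι pT) := by
  obtain ⟨-, -, hfv, h11, -, hro, -⟩ := light_codes
  obtain ⟨hf0, -⟩ := fv_facts
  intro g hg
  refine S.kappa.not_conj_ro S.full S.kappa.refl_f0 hro (cent_off_axes S.hm ?_ ?_) g ?_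
  · exact (by decide +kernel : toV (0, 1, 1) ≠ 0)
  · intro h
    have := axis_singles _ h
    revert this
    decide +kernel
  · rw [hg, hfv, show pc 3 = tr from fv0_code.2.2.1, S.valT, ← S.kappa.tt_eq,
      S.kappa.mul _ hf0 _ _ one3_cube.1, pm_one, one_mul,
      show fv0 * one3 = fv0 from mul_one fv0]

/-- Conjugation by elements centralizing the first block. -/
theorem move {x y : S6} (h : ∃ g : S6, g * x * g⁻¹ = y) :
    (Off κ (ι y) → Off κ (ι x)) ∧ (Off κ (κ fv0 1 * ι y) → Off κ (κ fv0 1 * ι x)) := by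
  obtain ⟨g, rfl⟩ := h
  refine ⟨fun h => h.of_conj (c := ι g) ?_, fun h => h.of_conj (c := ι g) ?_⟩
  · rw [map_mul, map_mul, map_inv]
  · rw [map_mul ι (g * x) g⁻¹, map_mul ι g x, map_inv,
      show ι g * (κ fv0 1 * ι x) * (ι g)⁻¹ = ι g * κ fv0 1 * ι x * (ι g)⁻¹ by group, (S.cen0 g).eq]
    group

/-- A transposition across the blocks times a non-trivial sign change is not fused to the inversion
of one block. -/
theorem off_coset {e : V3} (he : e ∈ cubeL) (he1 : e ≠ one3) : Off κ (ι pR * κ e 1) := by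
  obtain ⟨hf0, hf1, hf2, -⟩ := fv_facts
  obtain ⟨c1, -, c2, c3, c4, -⟩ := six_conj_facts
  have hc : ι pR * κ fv0 1 = κ fv0 1 * ι pR := (S.cen0 pR).eq
  have hm : ∀ {a b : V3}, a ∈ cubeL → b ∈ cubeL → κ (a * b) 1 = κ a 1 * κ b 1 :=
    fun ha hb => (S.kappa.mul_one_perm ha hb).symm
  rcases ti_parity.2.2.2.2.1 e he with rfl | rfl | rfl | rfl | rfl | rfl | rfl | rfl
  · exact absurd rfl he1
  · rw [hc]; exact (S.move c1).2 S.off_flip
  · rw [← S.valF, ← map_mul]; exact (S.move c2).1 S.off_double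
  · rw [← S.valG, ← map_mul]; exact (S.move c3).1 S.off_double
  · rw [hm hf1 hf2, ← S.valF, ← S.valG, ← map_mul, ← map_mul]; exact (S.move c4).1 S.off_tt
  · rw [hm hf0 hf2, ← mul_assoc, hc, mul_assoc, ← S.valG, ← map_mul]
    exact (S.move c3).2 S.off_neg
  · rw [hm hf0 hf1, ← mul_assoc, hc, mul_assoc, ← S.valF, ← map_mul]
    exact (S.move c2).2 S.off_neg
  · rw [mul_assoc fv0, hm hf0 (cubeL_mul hf1 hf2), ← mul_assoc, hc, mul_assoc, hm hf1 hf2,
      ← S.valF, ← S.valG, ← map_mul, ← map_mul]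
    exact (S.move c4).2 S.off_flip_tt

/-- The transposition across the blocks is fused to the inversion of one block. -/
theorem fused_cross : ∃ g, g * κ fv0 1 * g⁻¹ = ι pR := by
  obtain ⟨hf0, -, -, hc0, -⟩ := fv_facts
  obtain ⟨-, ⟨g, hg⟩, -⟩ := six_conj_facts
  refine ⟨ι g * κ one3 cyc, ?_⟩
  calc ι g * κ one3 cyc * κ fv0 1 * (ι g * κ one3 cyc)⁻¹
      = ι g * (κ one3 cyc * κ fv0 1 * (κ one3 cyc)⁻¹) * (ι g)⁻¹ := by group
    _ = _ := by rw [S.kappa.conj_perm hf0, hc0, ← S.valF, ← map_inv, ← map_mul, ← map_mul, hg]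

/-- If a conjugate of the inversion is in a coset of the sign changes, it is the transposition. -/
theorem eq_cross {g x : G} (hx : g * κ fv0 1 * g⁻¹ = x) {e : V3} (he : e ∈ cubeL)
    (h : x = ι pR * κ e 1) : x = ι pR := by
  by_cases he1 : e = one3
  · rw [h, he1, S.kappa.one, mul_one]
  · exact absurd (hx.trans h) (S.off_coset he he1 g)

theorem cross_not_sign {e : V3} (he : e ∈ cubeL) : ι pR ≠ κ e 1 := fun hh => by
  obtain ⟨-, -, -, -, -, n1, n2, hinv⟩ := six_conj_facts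
  have h1 := S.kappa.conj_v he 1 u1
  rw [← hh, ← S.valA, ← map_inv, ← map_mul, ← map_mul, hinv] at h1
  rcases sign_u1 e he with e1 | e1 <;> rw [e1] at h1
  · exact n1 (S.inj (by rw [h1, S.valA]))
  · exact n2 (S.inj (by rw [h1, D.v_neg, ← S.valA, map_inv]))

end Six

end Data

end Cfsg.Agent.Recog.SymNine
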