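import Cfsg.Agent.Lib.Recog.SymNine.Base

/-!
The Sylow three-subgroup and fusion in the core.
-/

set_option autoImplicit false
set_option linter.style.haveILetI false
set_option linter.unusedSectionVars false

namespace Cfsg.Agent.Recog.SymNine

open Subgroup

universe u

theorem three_facts : (∀ σ : S3, Equiv.Perm.sign σ = 1 → σ * σ * σ = 1) ∧
    (Finset.univ.filter fun σ : S3 => Equiv.Perm.sign σ = 1).card = 3 ∧
    (∀ σ : S3, (∀ i, σ i = i) → σ = 1) := by decide +kernel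

theorem pm_faithful {σ : S3} (h : ∀ a, pm σ a = a) : σ = 1 := by
  refine three_facts.2.2 σ fun i => ?_
  have h1 := congrFun (h (Pi.single i 1)) (σ i)
  simp only [pm, Equiv.Perm.inv_def, Equiv.symm_apply_apply, Pi.single_eq_same] at h1
  by_contra hne
  rw [Pi.single_eq_of_ne hne] at h1
  exact one_ne_zero h1

theorem pm_fixed {σ : S3} (hσ : Equiv.Perm.sign σ = 1) (h1 : σ ≠ 1) {a : V3} (h : pm σ a = a) :
    a = a 0 • one3 :=
  (perm_cube σ (three_facts.1 σ hσ)).resolve_left h1 a h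

theorem one3_ne : one3 ≠ 0 := fun h => one_ne_zero (congrFun h 0 : (1 : ZMod 3) = 0)

theorem smul_one3_cases (c : ZMod 3) : c • one3 = 0 ∨ c • one3 = one3 ∨ c • one3 = -one3 := by
  revert c
  decide +kernel

theorem cube_eq_one_of_conj_inv {G : Type u} [Group G] [Finite G] {g y : G} (hy : y * y * y = 1)
    {k : ℕ} (hg : g ^ 3 ^ k = 1) (h : g * y * g⁻¹ = y⁻¹) : y = 1 := by
  have hodd : ∀ m : ℕ, g ^ (2 * m + 1) * y * (g ^ (2 * m + 1))⁻¹ = y⁻¹ := by
    intro m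
    induction m with
    | zero => simpa using h
    | succ m ih =>
      calc g ^ (2 * (m + 1) + 1) * y * (g ^ (2 * (m + 1) + 1))⁻¹ =
          g * (g * (g ^ (2 * m + 1) * y * (g ^ (2 * m + 1))⁻¹) * g⁻¹) * g⁻¹ := by group
        _ = _ := by
          rw [ih, show g * (g * y⁻¹ * g⁻¹) * g⁻¹ = g * (g * y * g⁻¹)⁻¹ * g⁻¹ by group, h, inv_inv, h]
  obtain ⟨m, hm⟩ := ((by decide : Odd 3).pow (n := k))
  have h1 := hodd m
  rw [← hm, hg, one_mul, inv_one, mul_one] at h1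
  have h2 : y * y = 1 := mul_eq_one_iff_eq_inv.2 h1
  rwa [h2, one_mul] at hy

namespace Data

variable {G : Type u} [Group G] [Finite G] (D : Data G)

/-- The element with given coordinates. -/
def el (a : V3) (σ : S3) : G := D.v a * D.τ σ

theorem el_mul' (a b : V3) (σ τ : S3) : D.el a σ * D.el b τ = D.el (a + pm σ b) (σ * τ) :=
  D.mul_el a b σ τ

theorem el_zero' : D.el 0 1 = 1 := by rw [el, D.v_zero, map_one, one_mul]

theorem el_one' (a : V3) : D.el a 1 = D.v a := by rw [el, map_one, mul_one]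

theorem el_inv (a : V3) (σ : S3) : (D.el a σ)⁻¹ = D.el (-pm σ⁻¹ a) σ⁻¹ := by
  refine inv_eq_of_mul_eq_one_right ?_
  rw [D.el_mul', mul_inv_cancel, show pm σ (-pm σ⁻¹ a) = -pm σ (pm σ⁻¹ a) from rfl, ← pm_mul,
    mul_inv_cancel, pm_one, add_neg_cancel, D.el_zero']

theorem el_conj_v (a b : V3) (σ : S3) : D.el a σ * D.v b * (D.el a σ)⁻¹ = D.v (pm σ b) := by
  rw [el, show D.v a * D.τ σ * D.v b * (D.v a * D.τ σ)⁻¹ =
    D.v a * (D.τ σ * D.v b * (D.τ σ)⁻¹) * (D.v a)⁻¹ by group, D.conj_v, (D.v_comm _ _).eq,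
    mul_inv_cancel_right]

/-- The central element of the Sylow subgroup. -/
def x : G := D.v one3

theorem x_ne : D.x ≠ 1 := fun h => one3_ne (D.v_inj (h.trans D.v_zero.symm))

theorem el_comm_x (a : V3) (σ : S3) : D.el a σ * D.x = D.x * D.el a σ := by
  have h := D.el_conj_v a one3 σ
  rw [pm_one3] at h
  exact mul_inv_eq_iff_eq_mul.1 h

theorem mem_cent_x {g : G} : g ∈ centralizer ({D.x} : Set G) ↔ ∃ a σ, D.el a σ = g := by
  rw [mem_centralizer_singleton_iff]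
  refine ⟨fun h => ?_, fun ⟨a, σ, h⟩ => h ▸ D.el_comm_x a σ⟩
  obtain ⟨a, σ, h⟩ := D.cent g h
  exact ⟨a, σ, h.symm⟩

theorem J_comm {y z : G} (hy : y ∈ D.J) (hz : z ∈ D.J) : y * z = z * y := by
  obtain ⟨a, rfl⟩ := D.mem_J.1 hy
  obtain ⟨b, rfl⟩ := D.mem_J.1 hz
  exact (D.v_comm a b).eq

theorem J_le_cent_v (a : V3) : D.J ≤ centralizer ({D.v a} : Set G) := fun _ hy =>
  mem_centralizer_singleton_iff.2 (D.J_comm hy (D.v_mem a))

theorem J_le_cent_x : D.J ≤ centralizer ({D.x} : Set G) := D.J_le_cent_v one3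

/-- The core is the only abelian subgroup of order twenty-seven and exponent three of the
centralizer. -/
theorem eq_J {A : Subgroup G} (hle : A ≤ centralizer ({D.x} : Set G)) (hcard : Nat.card A = 27)
    (hcomm : ∀ y ∈ A, ∀ z ∈ A, y * z = z * y) (hexp : ∀ y ∈ A, y * y * y = 1) : A = D.J := by
  refine Subgroup.eq_of_le_of_card_ge (fun y hy => ?_) (by rw [hcard, D.card_J])
  obtain ⟨a, σ, rfl⟩ := D.mem_cent_x.1 (hle hy)
  obtain rfl := core_perm D.el (fun a b σ τ => D.el_mul' a b σ τ) D.el_zero'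
    (fun a b σ τ h => D.el_inj h) (fun z hz => D.mem_cent_x.1 (hle hz)) hcomm hexp hcard hy
  rw [el_one']
  exact D.v_mem a

/-- The normalizer of the core. -/
def N : Subgroup G := normalizer (D.J : Set G)

theorem J_le_N : D.J ≤ D.N := le_normalizer

theorem cent_x_le : centralizer ({D.x} : Set G) ≤ D.N := by
  intro g hg
  obtain ⟨a, σ, rfl⟩ := D.mem_cent_x.1 hg
  refine mem_normalizer_fintype fun n hn => ?_
  obtain ⟨b, rfl⟩ := D.mem_J.1 hn
  rw [SetLike.mem_coe, D.el_conj_v]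
  exact D.v_mem _

theorem el_mem_N (a : V3) (σ : S3) : D.el a σ ∈ D.N := D.cent_x_le (D.mem_cent_x.2 ⟨a, σ, rfl⟩)

theorem exists_conj {n : G} (hn : n ∈ D.N) (a : V3) : ∃ b, n * D.v a * n⁻¹ = D.v b := by
  obtain ⟨b, hb⟩ := D.mem_J.1 ((mem_normalizer_iff.1 hn _).1 (D.v_mem a))
  exact ⟨b, hb.symm⟩

/-- An element fixing or inverting the central element normalizes the core. -/
theorem mem_N_of_conj_x {g : G} (hg : g * D.x * g⁻¹ = D.x ∨ g * D.x * g⁻¹ = D.x⁻¹) : g ∈ D.N := by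
  have hmap : D.J.map (MulAut.conj g).toMonoidHom = D.J := by
    refine D.eq_J ?_ ?_ ?_ ?_
    · rintro _ ⟨y, hy, rfl⟩
      rw [mem_centralizer_singleton_iff]
      have h : Commute (g * y * g⁻¹) (g * D.x * g⁻¹) := by
        show g * y * g⁻¹ * (g * D.x * g⁻¹) = g * D.x * g⁻¹ * (g * y * g⁻¹)
        calc g * y * g⁻¹ * (g * D.x * g⁻¹) = g * (y * D.x) * g⁻¹ := by group
          _ = g * (D.x * y) * g⁻¹ := by rw [D.J_comm hy (show D.x ∈ D.J from D.v_mem one3)]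
          _ = _ := by group
      rcases hg with e | e <;> rw [e] at h
      exacts [h.eq, (Commute.inv_right_iff.1 h).eq]
    · rw [card_map_of_injective (MulAut.conj g).injective, D.card_J]
    · rintro _ ⟨y, hy, rfl⟩ _ ⟨z, hz, rfl⟩
      rw [← map_mul, ← map_mul, D.J_comm hy hz]
    · rintro _ ⟨y, hy, rfl⟩
      obtain ⟨a, rfl⟩ := D.mem_J.1 hy
      rw [← map_mul, ← map_mul, D.cube, map_one]
  refine mem_normalizer_fintype fun n hn => ?_
  have h : (MulAut.conj g).toMonoidHom n ∈ D.J.map (MulAut.conj g).toMonoidHom := ⟨n, hn, rfl⟩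
  rwa [hmap] at h

/-- The Sylow subgroup. -/
def P : Subgroup G where
  carrier := {g | ∃ a σ, Equiv.Perm.sign σ = 1 ∧ D.el a σ = g}
  one_mem' := ⟨0, 1, map_one _, D.el_zero'⟩
  mul_mem' := by
    rintro _ _ ⟨a, σ, h, rfl⟩ ⟨b, τ, h', rfl⟩
    exact ⟨_, _, by rw [map_mul, h, h', one_mul], (D.el_mul' a b σ τ).symm⟩
  inv_mem' := by
    rintro _ ⟨a, σ, h, rfl⟩
    exact ⟨_, _, by rw [map_inv, h, inv_one], (D.el_inv a σ).symm⟩

theorem J_le_P : D.J ≤ D.P := fun y hy => by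
  obtain ⟨a, rfl⟩ := D.mem_J.1 hy
  exact ⟨a, 1, map_one _, D.el_one' a⟩

theorem P_le_cent : D.P ≤ centralizer ({D.x} : Set G) := by
  rintro _ ⟨a, σ, -, rfl⟩
  exact D.mem_cent_x.2 ⟨a, σ, rfl⟩

theorem P_le_N : D.P ≤ D.N := D.P_le_cent.trans D.cent_x_le

theorem card_P : Nat.card D.P = 81 := by
  let f : V3 × {σ : S3 // Equiv.Perm.sign σ = 1} → D.P := fun q =>
    ⟨D.el q.1 q.2, q.1, q.2, q.2.2, rfl⟩
  have hf : Function.Bijective f := by
    refine ⟨fun q q' h => ?_, ?_⟩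
    · obtain ⟨h1, h2⟩ := D.el_inj (congrArg Subtype.val h)
      exact Prod.ext h1 (Subtype.ext h2)
    · rintro ⟨_, a, σ, hσ, rfl⟩
      exact ⟨(a, ⟨σ, hσ⟩), rfl⟩
  rw [← Nat.card_eq_of_bijective f hf, Nat.card_prod, Nat.card_eq_fintype_card,
    Nat.card_eq_fintype_card, Fintype.card_fun, ZMod.card, Fintype.card_fin, Fintype.card_subtype,
    three_facts.2.1]
  norm_num

theorem card_cent_x : Nat.card (centralizer ({D.x} : Set G)) = 162 := by
  let f : V3 × S3 → centralizer ({D.x} : Set G) := fun q =>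
    ⟨D.el q.1 q.2, D.mem_cent_x.2 ⟨q.1, q.2, rfl⟩⟩
  have hf : Function.Bijective f := by
    refine ⟨fun q q' h => ?_, ?_⟩
    · obtain ⟨h1, h2⟩ := D.el_inj (congrArg Subtype.val h)
      exact Prod.ext h1 h2
    · rintro ⟨g, hg⟩
      obtain ⟨a, σ, h⟩ := D.mem_cent_x.1 hg
      exact ⟨(a, σ), Subtype.ext h⟩
  rw [← Nat.card_eq_of_bijective f hf, Nat.card_prod, Nat.card_eq_fintype_card,
    Nat.card_eq_fintype_card, Fintype.card_fun, ZMod.card, Fintype.card_fin, Fintype.card_perm,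
    Fintype.card_fin]
  rfl

theorem isPGroup_P : IsPGroup 3 D.P := IsPGroup.of_card (n := 4) (by rw [D.card_P]; norm_num)

theorem isPGroup_J : IsPGroup 3 D.J := IsPGroup.of_card (n := 3) (by rw [D.card_J]; norm_num)

theorem center_P {g : G} (hg : g ∈ D.P) (hc : ∀ y ∈ D.P, g * y = y * g) :
    g = 1 ∨ g = D.x ∨ g = D.x⁻¹ := by
  obtain ⟨a, σ, -, rfl⟩ := hg
  obtain rfl : σ = 1 := pm_faithful fun b => D.v_inj (by
    rw [← D.el_conj_v a b σ, hc _ (D.J_le_P (D.v_mem b)), mul_inv_cancel_right])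
  obtain ⟨c, hc1, hc2⟩ : ∃ c : S3, Equiv.Perm.sign c = 1 ∧ c ≠ 1 := by decide
  have h := hc _ (⟨0, c, hc1, rfl⟩ : D.el 0 c ∈ D.P)
  rw [D.el_mul', D.el_mul', pm_one, one_mul, mul_one, add_zero, zero_add] at h
  have hfix := pm_fixed hc1 hc2 (D.el_inj h).1.symm
  rw [D.el_one', hfix]
  rcases smul_one3_cases (a 0) with e | e | e <;> rw [e]
  exacts [Or.inl D.v_zero, Or.inr (Or.inl rfl), Or.inr (Or.inr (D.v_neg one3))]

theorem eq_P_of_le {Q : Subgroup G} (hQ : IsPGroup 3 Q) (hle : D.P ≤ Q) : Q = D.P := by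
  haveI : Fact (Nat.Prime 3) := ⟨Nat.prime_three⟩
  by_contra hne
  haveI : Group.IsNilpotent Q := hQ.isNilpotent
  have hlt : D.P.subgroupOf Q < ⊤ := lt_top_iff_ne_top.2 fun h => hne
    (le_antisymm (Subgroup.subgroupOf_eq_top.1 h) hle)
  obtain ⟨g, hg, hgP⟩ := SetLike.exists_of_lt
    (Group.normalizerCondition_of_isNilpotent (D.P.subgroupOf Q) hlt)
  have hn : ∀ y ∈ D.P, (g : G) * y * (g : G)⁻¹ ∈ D.P := fun y hy =>
    (mem_normalizer_iff.1 hg ⟨y, hle hy⟩).1 hy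
  have hn' : ∀ y ∈ D.P, (g : G)⁻¹ * y * g ∈ D.P := fun y hy => by
    have h := (mem_normalizer_iff.1 (inv_mem hg) ⟨y, hle hy⟩).1 hy
    rw [mem_subgroupOf] at h
    simpa using h
  have hx : (g : G) * D.x * (g : G)⁻¹ = D.x := by
    have hxP : D.x ∈ D.P := D.J_le_P (D.v_mem one3)
    rcases D.center_P (hn _ hxP) (fun y hy => by
      have h := mem_centralizer_singleton_iff.1 (D.P_le_cent (hn' y hy))
      calc (g : G) * D.x * (g : G)⁻¹ * y = g * (D.x * ((g : G)⁻¹ * y * g)) * (g : G)⁻¹ := by group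
        _ = _ := by rw [← h]; group) with e | e | e
    · exact absurd (conj_eq_one_iff.1 e) D.x_ne
    · exact e
    · obtain ⟨k, hk⟩ := hQ g
      exact absurd (cube_eq_one_of_conj_inv (D.cube one3) (k := k)
        (by simpa using congrArg Subtype.val hk) e) D.x_ne
  have hgc : (g : G) ∈ centralizer ({D.x} : Set G) :=
    mem_centralizer_singleton_iff.2 (mul_inv_eq_iff_eq_mul.1 hx)
  obtain ⟨n, hn3⟩ := IsPGroup.iff_card.1 (hQ.to_le (inf_le_left (b := centralizer ({D.x} : Set G))))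
  have hd : 3 ^ n ∣ 162 := hn3 ▸ D.card_cent_x ▸ Subgroup.card_dvd_of_le inf_le_right
  have hn4 : n ≤ 4 := by
    by_contra h
    have h5 : 3 ^ 5 ∣ 162 := (pow_dvd_pow 3 (by omega)).trans hd
    norm_num at h5
  have h81 : 3 ^ n ≤ 81 := (Nat.pow_le_pow_right (by norm_num) hn4).trans (by norm_num)
  have heq := Subgroup.eq_of_le_of_card_ge (le_inf hle D.P_le_cent) (by rw [hn3, D.card_P]; exact h81)
  exact hgP (mem_subgroupOf.2 (heq ▸ ⟨g.2, hgc⟩ : (g : G) ∈ D.P))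

/-- The Sylow subgroup of the normalizer. -/
theorem conj_into_P {Q : Subgroup G} (hQ : IsPGroup 3 Q) (hle : Q ≤ D.N) :
    ∃ n ∈ D.N, ∀ y ∈ Q, n * y * n⁻¹ ∈ D.P := by
  haveI : Fact (Nat.Prime 3) := ⟨Nat.prime_three⟩
  let T : Sylow 3 D.N := ⟨D.P.subgroupOf D.N, D.isPGroup_P.comap_subtype, fun {R} hR hle' => by
    have h1 : D.P ≤ R.map D.N.subtype := fun y hy => ⟨⟨y, D.P_le_N hy⟩, hle' hy, rfl⟩
    refine le_antisymm (fun r hr => ?_) hle'
    show (r : G) ∈ D.P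
    rw [← D.eq_P_of_le (hR.map _) h1]
    exact ⟨r, hr, rfl⟩⟩
  obtain ⟨R, hR⟩ := (show IsPGroup 3 (Q.subgroupOf D.N) from hQ.comap_subtype).exists_le_sylow
  obtain ⟨c, hc⟩ := MulAction.exists_smul_eq D.N R T
  refine ⟨c, c.2, fun y hy => ?_⟩
  have h : c * ⟨y, hle hy⟩ * c⁻¹ ∈ (T : Subgroup D.N) := by
    rw [← hc, Sylow.coe_subgroup_smul]
    exact Subgroup.smul_mem_pointwise_smul _ (MulAut.conj c) _ (hR hy)
  exact h

/-- The orbit of the central element, up to sign. -/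
def Orb (a : V3) : Prop := ∃ n ∈ D.N, n * D.x * n⁻¹ = D.v a ∨ n * D.x * n⁻¹ = (D.v a)⁻¹

/-- Outside the orbit the core is the largest three-subgroup through it in the centralizer. -/
theorem eq_J_of_le {a : V3} (ha : a ≠ 0) (ho : ¬ D.Orb a) {Q : Subgroup G} (hQ : IsPGroup 3 Q)
    (hle : D.J ≤ Q) (hc : Q ≤ centralizer ({D.v a} : Set G)) : Q = D.J := by
  haveI : Fact (Nat.Prime 3) := ⟨Nat.prime_three⟩
  by_contra hne
  haveI : Group.IsNilpotent Q := hQ.isNilpotent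
  have hlt : D.J.subgroupOf Q < ⊤ := lt_top_iff_ne_top.2 fun h => hne
    (le_antisymm (Subgroup.subgroupOf_eq_top.1 h) hle)
  obtain ⟨g, hg, hgJ⟩ := SetLike.exists_of_lt
    (Group.normalizerCondition_of_isNilpotent (D.J.subgroupOf Q) hlt)
  have hgN : (g : G) ∈ D.N := mem_normalizer_fintype fun y hy =>
    (mem_normalizer_iff.1 hg ⟨y, hle hy⟩).1 hy
  obtain ⟨n, hn, hnP⟩ := D.conj_into_P (hQ.to_le (inf_le_left (b := D.N))) inf_le_right
  obtain ⟨b, σ, hσ, he⟩ := hnP g ⟨g.2, hgN⟩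
  obtain ⟨a', ha'⟩ := D.exists_conj hn a
  have hσ1 : σ ≠ 1 := by
    rintro rfl
    rw [D.el_one'] at he
    refine hgJ (?_ : (g : G) ∈ D.J)
    have h := (mem_normalizer_iff.1 hn (g : G)).2 (he ▸ D.v_mem b)
    exact h
  have hfix : pm σ a' = a' := D.v_inj (by
    rw [← D.el_conj_v b a' σ, he, ← ha',
      show n * g * n⁻¹ * (n * D.v a * n⁻¹) * (n * g * n⁻¹)⁻¹ = n * (g * D.v a * (g : G)⁻¹) * n⁻¹ by
        group, mem_centralizer_singleton_iff.1 (hc g.2), mul_inv_cancel_right])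
  have h2 := pm_fixed hσ hσ1 hfix
  refine ho ⟨n⁻¹, inv_mem hn, ?_⟩
  rw [h2] at ha'
  rcases smul_one3_cases (a' 0) with e | e | e <;> rw [e] at ha'
  · rw [D.v_zero, conj_eq_one_iff, ← D.v_zero] at ha'
    exact absurd (D.v_inj ha') ha
  · left; rw [x, ← ha']; group
  · right; rw [D.v_neg] at ha'; rw [x, ← inv_inv (D.v one3), ← ha']; group

/-- Outside the orbit the core is a Sylow subgroup of every group between it and the centralizer. -/
theorem sylow_J {a : V3} (ha : a ≠ 0) (ho : ¬ D.Orb a) {X : Subgroup G} (hJ : D.J ≤ X)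
    (hX : X ≤ centralizer ({D.v a} : Set G)) : ∃ T : Sylow 3 X, (T : Subgroup X) = D.J.subgroupOf X :=
  ⟨⟨D.J.subgroupOf X, D.isPGroup_J.comap_subtype, fun {Q} hQ hle => by
    have h1 : D.J ≤ Q.map X.subtype := fun y hy => ⟨⟨y, hJ hy⟩, hle hy, rfl⟩
    refine le_antisymm (fun q hq => ?_) hle
    show (q : G) ∈ D.J
    rw [← D.eq_J_of_le ha ho (hQ.map _) h1 (by rintro _ ⟨y, -, rfl⟩; exact hX y.2)]
    exact ⟨q, hq, rfl⟩⟩, rfl⟩

/-- The centralizer of a Sylow conjugate: a three-subgroup can be moved into the core. -/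
theorem conj_into_J {a : V3} (ha : a ≠ 0) (ho : ¬ D.Orb a) {X : Subgroup G} (hJ : D.J ≤ X)
    (hX : X ≤ centralizer ({D.v a} : Set G)) {Q : Subgroup G} (hQ : IsPGroup 3 Q) (hle : Q ≤ X) :
    ∃ c ∈ X, ∀ y ∈ Q, c * y * c⁻¹ ∈ D.J := by
  haveI : Fact (Nat.Prime 3) := ⟨Nat.prime_three⟩
  obtain ⟨T, hT⟩ := D.sylow_J ha ho hJ hX
  obtain ⟨R, hR⟩ := (show IsPGroup 3 (Q.subgroupOf X) from hQ.comap_subtype).exists_le_sylow
  obtain ⟨c, hc⟩ := MulAction.exists_smul_eq X R T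
  refine ⟨c, c.2, fun y hy => ?_⟩
  have h : c * ⟨y, hle hy⟩ * c⁻¹ ∈ (T : Subgroup X) := by
    rw [← hc, Sylow.coe_subgroup_smul]
    exact Subgroup.smul_mem_pointwise_smul _ (MulAut.conj c) _ (hR hy)
  rw [hT] at h
  exact h

/-- An element moving the central element into the core normalizes the core. -/
theorem mem_N_of_x_mem {g : G} {b : V3} (hg : g * D.x * g⁻¹ = D.v b) : g ∈ D.N := by
  by_cases ho : D.Orb b
  · obtain ⟨n, hn, h⟩ := ho
    have h1 : n⁻¹ * g ∈ D.N := by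
      refine D.mem_N_of_conj_x ?_
      rw [show n⁻¹ * g * D.x * (n⁻¹ * g)⁻¹ = n⁻¹ * (g * D.x * g⁻¹) * n by group, hg]
      rcases h with e | e
      · left; rw [← e]; group
      · right; rw [← inv_inv (D.v b), ← e]; group
    simpa using mul_mem hn h1
  exfalso
  have hb : b ≠ 0 := by
    rintro rfl
    rw [D.v_zero, conj_eq_one_iff] at hg
    exact D.x_ne hg
  obtain ⟨c, -, hc⟩ := D.conj_into_J hb ho (D.J_le_cent_v b) le_rfl
    (D.isPGroup_P.map (MulAut.conj g).toMonoidHom) (by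
      rintro _ ⟨y, hy, rfl⟩
      rw [mem_centralizer_singleton_iff, ← hg]
      show g * y * g⁻¹ * (g * D.x * g⁻¹) = g * D.x * g⁻¹ * (g * y * g⁻¹)
      calc g * y * g⁻¹ * (g * D.x * g⁻¹) = g * (y * D.x) * g⁻¹ := by group
        _ = _ := by rw [mem_centralizer_singleton_iff.1 (D.P_le_cent hy)]; group)
  have hle : (D.P.map (MulAut.conj g).toMonoidHom).map (MulAut.conj c).toMonoidHom ≤ D.J := by
    rintro _ ⟨y, hy, rfl⟩
    exact hc y hy
  have := Subgroup.card_le_of_le hle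
  rw [card_map_of_injective (MulAut.conj c).injective, card_map_of_injective (MulAut.conj g).injective,
    D.card_P, D.card_J] at this
  omega

/-- Fusion in the core is controlled by its normalizer. -/
theorem fusion {a b : V3} (ha : a ≠ 0) {g : G} (hg : g * D.v a * g⁻¹ = D.v b) :
    ∃ n ∈ D.N, n * D.v a * n⁻¹ = D.v b := by
  by_cases hoa : D.Orb a
  · obtain ⟨n, hn, h⟩ := hoa
    refine ⟨g, ?_, hg⟩
    have h1 : g * n ∈ D.N := by
      rcases h with e | e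
      · refine D.mem_N_of_x_mem (b := b) ?_
        rw [← hg, ← e]; group
      · refine D.mem_N_of_x_mem (b := -b) ?_
        rw [D.v_neg, ← hg, show (g * D.v a * g⁻¹)⁻¹ = g * (D.v a)⁻¹ * g⁻¹ by group, ← e]; group
    simpa using mul_mem h1 (inv_mem hn)
  have hb : b ≠ 0 := by
    rintro rfl
    rw [D.v_zero, conj_eq_one_iff, ← D.v_zero] at hg
    exact ha (D.v_inj hg)
  by_cases hob : D.Orb b
  · obtain ⟨n, hn, h⟩ := hob
    refine ⟨g, ?_, hg⟩
    have h1 : g⁻¹ * n ∈ D.N := by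
      rcases h with e | e
      · refine D.mem_N_of_x_mem (b := a) ?_
        rw [show g⁻¹ * n * D.x * (g⁻¹ * n)⁻¹ = g⁻¹ * (n * D.x * n⁻¹) * g by group, e, ← hg]; group
      · refine D.mem_N_of_x_mem (b := -a) ?_
        rw [show g⁻¹ * n * D.x * (g⁻¹ * n)⁻¹ = g⁻¹ * (n * D.x * n⁻¹) * g by group, e, D.v_neg, ← hg]
        group
    have h2 := mul_mem h1 (inv_mem hn)
    rw [mul_inv_cancel_right] at h2
    simpa using inv_mem h2
  obtain ⟨c, hc, hcJ⟩ := D.conj_into_J hb hob (D.J_le_cent_v b) le_rfl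
    (D.isPGroup_J.map (MulAut.conj g).toMonoidHom) (by
      rintro _ ⟨y, hy, rfl⟩
      rw [mem_centralizer_singleton_iff, ← hg]
      show g * y * g⁻¹ * (g * D.v a * g⁻¹) = g * D.v a * g⁻¹ * (g * y * g⁻¹)
      calc g * y * g⁻¹ * (g * D.v a * g⁻¹) = g * (y * D.v a) * g⁻¹ := by group
        _ = _ := by rw [D.J_comm hy (D.v_mem a)]; group)
  refine ⟨c * g, mem_normalizer_fintype fun y hy => ?_, ?_⟩
  · have h := hcJ _ (⟨y, hy, rfl⟩ : g * y * g⁻¹ ∈ D.J.map (MulAut.conj g).toMonoidHom)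
    simpa [mul_assoc] using h
  · rw [show c * g * D.v a * (c * g)⁻¹ = c * (g * D.v a * g⁻¹) * c⁻¹ by group, hg,
      mem_centralizer_singleton_iff.1 hc, mul_inv_cancel_right]

/-- An element outside the core of the Sylow subgroup is fused at most to the orbit of the centre. -/
theorem outside_orb {y : G} (hy : y ∈ D.P) (hyJ : y ∉ D.J) {g : G} {b : V3}
    (hg : g * y * g⁻¹ = D.v b) : D.Orb b := by
  by_contra ho
  have hb : b ≠ 0 := by
    rintro rfl
    rw [D.v_zero, conj_eq_one_iff] at hg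
    exact hyJ (hg ▸ one_mem _)
  have hxc : g * D.x * g⁻¹ ∈ centralizer ({D.v b} : Set G) := by
    rw [mem_centralizer_singleton_iff, ← hg]
    calc g * D.x * g⁻¹ * (g * y * g⁻¹) = g * (D.x * y) * g⁻¹ := by group
      _ = _ := by rw [← mem_centralizer_singleton_iff.1 (D.P_le_cent hy)]; group
  have ho3 : IsPGroup 3 (zpowers (g * D.x * g⁻¹)) := IsPGroup.of_card (n := 1) (by
    rw [Nat.card_zpowers, show g * D.x * g⁻¹ = MulAut.conj g D.x from rfl, MulEquiv.orderOf_eq, x,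
      D.orderOf_v one3_ne, pow_one])
  obtain ⟨c, hc, hcJ⟩ := D.conj_into_J hb ho (D.J_le_cent_v b) le_rfl ho3 (zpowers_le.2 hxc)
  obtain ⟨b', hb'⟩ := D.mem_J.1 (hcJ _ (mem_zpowers _))
  have hcg : c * g ∈ D.N := D.mem_N_of_x_mem (b := b') (by rw [hb']; group)
  refine hyJ ((mem_normalizer_iff.1 hcg y).2 ?_)
  rw [show c * g * y * (c * g)⁻¹ = c * (g * y * g⁻¹) * c⁻¹ by group, hg,
    mem_centralizer_singleton_iff.1 hc, mul_inv_cancel_right]
  exact D.v_mem b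

end Data

end Cfsg.Agent.Recog.SymNine
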