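import Cfsg.Agent.Lib.Recog.SymNine.Wide

/-!
Monomial coordinates and the four possible sign groups.
-/

set_option autoImplicit false
set_option linter.style.haveILetI false
set_option linter.unusedSectionVars false
set_option synthInstance.maxSize 4096
set_option maxRecDepth 100000

namespace Cfsg.Agent.Recog.SymNine

open Subgroup

universe u

theorem mon_one3 (σ : S3) (a : V3) : mon one3 σ a = pm σ a := funext fun _ => one_mul _

theorem mon_apply_one3 (e : V3) (σ : S3) : mon e σ one3 = e := funext fun _ => mul_one _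

theorem mon_comp (e e' : V3) (σ σ' : S3) (a : V3) :
    mon e σ (mon e' σ' a) = mon (e * pm σ e') (σ * σ') a := funext fun _ => (mul_assoc _ _ _).symm

theorem mon_inj {e e' : V3} {σ σ' : S3} (he : e ∈ cubeL) (h : ∀ a, mon e σ a = mon e' σ' a) :
    e = e' ∧ σ = σ' := by
  have h1 : e = e' := by rw [← mon_apply_one3 e σ, h, mon_apply_one3]
  subst h1
  have h2 : ∀ a, pm σ a = pm σ' a := fun a => funext fun i =>
    mul_left_cancel₀ ((mem_cubeL e).1 he i) (congrFun (h a) i)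
  refine ⟨rfl, (inv_mul_eq_one.1 (pm_faithful (σ := σ'⁻¹ * σ) fun a => ?_)).symm⟩
  rw [pm_mul, h2, ← pm_mul, inv_mul_cancel, pm_one]

theorem cubeL_mul {e e' : V3} (he : e ∈ cubeL) (he' : e' ∈ cubeL) : e * e' ∈ cubeL :=
  (mem_cubeL _).2 fun i => mul_ne_zero ((mem_cubeL e).1 he i) ((mem_cubeL e').1 he' i)

theorem cubeL_pm {e : V3} (he : e ∈ cubeL) (σ : S3) : pm σ e ∈ cubeL :=
  (mem_cubeL _).2 fun _ => (mem_cubeL e).1 he _

theorem cubeL_sq : ∀ e ∈ cubeL, e * e = one3 := by decide +kernel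

theorem one3_cube : one3 ∈ cubeL ∧ -one3 ∈ cubeL := by decide +kernel

/-- The even sign pattern with one plus. -/
def evP : V3 := ![1, -1, -1]

/-- The even sign patterns. -/
def evens : Finset V3 := {one3, ![1, -1, -1], ![-1, 1, -1], ![-1, -1, 1]}

theorem sign_closure :
    (∀ e ∈ cubeL, e = one3 ∨ e = -one3 ∨ ∃ σ τ : S3, pm τ (e * pm σ e) = evP) ∧
    (∀ e ∈ evens, e = one3 ∨ ∃ σ, pm σ evP = e) ∧
    (∀ e ∈ cubeL, e ∈ evens ∨ -e ∈ evens) ∧
    (∀ e ∈ cubeL, e * -e = -one3) ∧ (∀ e : V3, -one3 * e = -e) ∧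
    (∀ σ τ : S3, ∀ e ∈ evens, pm σ e ∈ evens) ∧ one3 ∈ evens ∧ evP ∈ evens ∧
    (∀ e ∈ evens, e ∈ cubeL) ∧ cubeL.toFinset.card = 8 ∧ evens.card = 4 := by decide +kernel

theorem narrow_key : ∀ p : V3, pm tr p = p → p + pm cyc p + pm cyc (pm cyc p) = -one3 →
    (∃ σ : S3, p 0 • p + p 1 • pm cyc p + p 2 • pm cyc (pm cyc p) = pm σ (Pi.single 0 1)) →
    p = -Pi.single 0 1 := by decide +kernel

theorem perm_pairs : ∀ c t : S3, c * c * c = 1 → c ≠ 1 → t * t = 1 → t ≠ 1 →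
    ∃ σ : S3, c = σ * cyc * σ⁻¹ ∧ t = σ * tr * σ⁻¹ := by decide +kernel

theorem cyc_tr_facts : cyc * cyc * cyc = 1 ∧ cyc ≠ 1 ∧ tr * tr = 1 ∧ tr ≠ 1 ∧
    pm cyc (Pi.single 0 1 : V3) = Pi.single 1 1 ∧ pm cyc (Pi.single 1 1 : V3) = Pi.single 2 1 ∧
    pm tr (Pi.single 0 1 : V3) = Pi.single 0 1 ∧
    one3 = Pi.single 0 1 + Pi.single 1 1 + Pi.single 2 1 := by decide +kernel

namespace Data

variable {G : Type u} [Group G] [Finite G] (D : Data G)

/-- All elements of the normalizer act by monomial maps. -/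
def Monomial : Prop := ∀ n ∈ D.N, ∃ e ∈ cubeL, ∃ σ : S3, ∀ a, D.act n a = mon e σ a

theorem act_J_iff {g : G} (hg : g ∈ D.N) : g ∈ D.J ↔ ∀ a, D.act g a = a :=
  ⟨fun h => D.act_J h, fun h => D.mem_J_of_act hg fun i => h _⟩

/-- An element moving the central element to its inverse is monomial. -/
theorem mon_of_neg {n : G} (hn : n ∈ D.N) (h : D.act n one3 = -one3) :
    ∃ σ : S3, ∀ a, D.act n a = mon (-one3) σ a := by
  have hconj : ∀ s : S3, ∃ s' : S3, ∀ a, D.act n (pm s a) = pm s' (D.act n a) := by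
    intro s
    have hm : n * D.el 0 s * n⁻¹ ∈ D.N := mul_mem (mul_mem hn (D.el_mem_N 0 s)) (inv_mem hn)
    have hfix : D.act (n * D.el 0 s * n⁻¹) one3 = one3 := by
      have h1 : D.act n⁻¹ one3 = -one3 := by
        have h2 := D.act_inv_cancel hn (-one3)
        rwa [D.act_neg hn, h, neg_neg] at h2
      rw [D.act_mul (mul_mem hn (D.el_mem_N 0 s)) (inv_mem hn), D.act_mul hn (D.el_mem_N 0 s), h1,
        D.act_el, show pm s (-one3) = -pm s one3 from rfl, pm_one3, D.act_neg hn, h, neg_neg]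
    obtain ⟨b, s', -, hs'⟩ := D.act_stab hm hfix
    refine ⟨s', fun a => ?_⟩
    rw [← hs', D.act_mul (mul_mem hn (D.el_mem_N 0 s)) (inv_mem hn), D.act_inv_cancel hn,
      D.act_mul hn (D.el_mem_N 0 s), D.act_el]
  obtain ⟨c', hc'⟩ := hconj cyc
  obtain ⟨t', ht'⟩ := hconj tr
  obtain ⟨hc3, hc1, ht2, ht1, he1, he2, het, hone⟩ := cyc_tr_facts
  have hsurj : ∀ b, ∃ a, D.act n a = b := fun b => ⟨D.act n⁻¹ b, by
    have h2 := D.act_inv_cancel (inv_mem hn) b
    rwa [inv_inv] at h2⟩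
  have hc3' : c' * c' * c' = 1 := pm_faithful fun b => by
    obtain ⟨a, rfl⟩ := hsurj b
    rw [pm_mul, pm_mul, ← hc', ← hc', ← hc', ← pm_mul, ← pm_mul, hc3, pm_one]
  have ht2' : t' * t' = 1 := pm_faithful fun b => by
    obtain ⟨a, rfl⟩ := hsurj b
    rw [pm_mul, ← ht', ← ht', ← pm_mul, ht2, pm_one]
  have hne : ∀ {s s' : S3}, (∀ a, D.act n (pm s a) = pm s' (D.act n a)) → s ≠ 1 → s' ≠ 1 := by
    intro s s' hs hs1 e
    subst e
    exact hs1 (pm_faithful fun a => D.act_inj hn (by rw [hs, pm_one]))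
  obtain ⟨σ, hσc, hσt⟩ := perm_pairs c' t' hc3' (hne hc' hc1) ht2' (hne ht' ht1)
  set n0 := D.el 0 σ⁻¹ * n with hn0
  have hn0N : n0 ∈ D.N := mul_mem (D.el_mem_N 0 σ⁻¹) hn
  have hact0 : ∀ a, D.act n0 a = pm σ⁻¹ (D.act n a) := fun a => by
    rw [hn0, D.act_mul (D.el_mem_N 0 σ⁻¹) hn, D.act_el]
  have hc0 : ∀ a, D.act n0 (pm cyc a) = pm cyc (D.act n0 a) := fun a => by
    rw [hact0, hact0, hc', hσc, ← pm_mul, ← pm_mul]
    congr 1
    group
  have ht0 : ∀ a, D.act n0 (pm tr a) = pm tr (D.act n0 a) := fun a => by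
    rw [hact0, hact0, ht', hσt, ← pm_mul, ← pm_mul]
    congr 1
    group
  have h0 : D.act n0 one3 = -one3 := by rw [hact0, h]; rfl
  set p := D.act n0 (Pi.single 0 1) with hp
  have hp1 : D.act n0 (Pi.single 1 1) = pm cyc p := by rw [← he1, hc0]
  have hp2 : D.act n0 (Pi.single 2 1) = pm cyc (pm cyc p) := by rw [← he2, hc0, hp1]
  have hlin : ∀ a, D.act n0 a = a 0 • p + a 1 • pm cyc p + a 2 • pm cyc (pm cyc p) := fun a => by
    rw [D.act_lin hn0N, hp1, hp2, hp]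
  have hpe : p = -Pi.single 0 1 := by
    refine narrow_key p ?_ ?_ ?_
    · rw [hp, ← ht0, het]
    · rw [← h0, hone, D.act_add hn0N, D.act_add hn0N, hp1, hp2]
    · have hfix : D.act (n0 * n0) one3 = one3 := by
        rw [D.act_mul hn0N hn0N, h0, D.act_neg hn0N, h0, neg_neg]
      obtain ⟨-, s, -, hs⟩ := D.act_stab (mul_mem hn0N hn0N) hfix
      exact ⟨s, by rw [← hs, D.act_mul hn0N hn0N, ← hlin, hp]⟩
  refine ⟨σ, fun a => ?_⟩
  have hneg : D.act n0 a = -a := by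
    rw [hlin, hpe]
    conv_rhs => rw [← decomp3 a]
    rw [show pm cyc (-Pi.single 0 1 : V3) = -pm cyc (Pi.single 0 1) from rfl, he1,
      show pm cyc (-Pi.single 1 1 : V3) = -pm cyc (Pi.single 1 1) from rfl, he2]
    simp only [smul_neg, neg_add]
  have h1 : D.act n a = pm σ (D.act n0 a) := by rw [hact0, ← pm_mul, mul_inv_cancel, pm_one]
  rw [h1, hneg]
  funext i
  simp [mon, pm, one3]

theorem exists_monomial : ∃ D' : Data G, D'.J = D.J ∧ D'.Monomial := by
  rcases D.narrow_or_wide with h | ⟨D', hJ, hw⟩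
  · refine ⟨D, rfl, fun n hn => ?_⟩
    rcases h n hn with e | e
    · obtain ⟨-, σ, -, hσ⟩ := D.act_stab hn e
      exact ⟨one3, one3_cube.1, σ, fun a => by rw [hσ, mon_one3]⟩
    · obtain ⟨σ, hσ⟩ := D.mon_of_neg hn e
      exact ⟨-one3, one3_cube.2, σ, hσ⟩
  · exact ⟨D', hJ, fun n hn => D'.wide_mon hw hn⟩

variable {D}

namespace Monomial

variable (hm : D.Monomial)

include hm

theorem orbit_cube {e : V3} (he : e ∈ D.orbit) : e ∈ cubeL := by
  obtain ⟨n, hn, rfl⟩ := D.mem_orbit.1 he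
  obtain ⟨e, he, σ, h⟩ := hm n hn
  rwa [h, mon_apply_one3]

/-- The sign pattern of an element lies in the orbit. -/
theorem sign_mem {n : G} (hn : n ∈ D.N) {e : V3} {σ : S3} (h : ∀ a, D.act n a = mon e σ a) :
    e ∈ D.orbit := D.mem_orbit.2 ⟨n, hn, by rw [h, mon_apply_one3]⟩

/-- Every monomial map with sign pattern in the orbit is realised. -/
theorem realise {e : V3} (he : e ∈ D.orbit) (σ : S3) :
    ∃ n ∈ D.N, ∀ a, D.act n a = mon e σ a := by
  obtain ⟨n, hn, hne⟩ := D.mem_orbit.1 he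
  obtain ⟨e', -, s, hs⟩ := hm n hn
  obtain rfl : e' = e := by rw [← hne, hs, mon_apply_one3]
  refine ⟨n * D.el 0 (s⁻¹ * σ), mul_mem hn (D.el_mem_N _ _), fun a => ?_⟩
  rw [D.act_mul hn (D.el_mem_N _ _), D.act_el, hs, ← mon_one3 (s⁻¹ * σ), mon_comp,
    mul_inv_cancel_left, pm_one3]
  exact congrArg (fun z => mon z σ a) (mul_one e')

theorem orbit_mul {e e' : V3} (he : e ∈ D.orbit) (he' : e' ∈ D.orbit) : e * e' ∈ D.orbit := by
  obtain ⟨n, hn, h⟩ := hm.realise he 1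
  obtain ⟨n', hn', h'⟩ := hm.realise he' 1
  refine hm.sign_mem (mul_mem hn hn') (σ := 1) fun a => ?_
  rw [D.act_mul hn hn', h', h, mon_comp, pm_one, one_mul]

/-- The four possible sign groups. -/
theorem orbit_four : D.orbit = {one3} ∨ D.orbit = {one3, -one3} ∨ D.orbit = evens ∨
    D.orbit = cubeL.toFinset := by
  obtain ⟨hgen, hev, hpar, hneg, hnm, -, hone, -, hevc, -⟩ := sign_closure
  by_cases hB : evP ∈ D.orbit
  · have hevs : ∀ e ∈ evens, e ∈ D.orbit := fun e he => by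
      rcases hev e he with rfl | ⟨σ, rfl⟩
      exacts [D.one3_mem, D.pm_orbit σ hB]
    by_cases hA : -one3 ∈ D.orbit
    · refine Or.inr (Or.inr (Or.inr (Finset.ext fun e => ?_)))
      rw [List.mem_toFinset]
      refine ⟨hm.orbit_cube, fun he => ?_⟩
      rcases hpar e he with h | h
      · exact hevs e h
      · have := hm.orbit_mul hA (hevs _ h)
        rwa [hnm, neg_neg] at this
    · refine Or.inr (Or.inr (Or.inl (Finset.ext fun e => ⟨fun he => ?_, hevs e⟩)))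
      rcases hpar e (hm.orbit_cube he) with h | h
      · exact h
      · exact absurd (hneg e (hm.orbit_cube he) ▸ hm.orbit_mul he (hevs _ h)) hA
  · have hsub : ∀ e ∈ D.orbit, e = one3 ∨ e = -one3 := fun e he => by
      rcases hgen e (hm.orbit_cube he) with h | h | ⟨σ, τ, h⟩
      exacts [Or.inl h, Or.inr h, absurd (h ▸ D.pm_orbit τ (hm.orbit_mul he (D.pm_orbit σ he))) hB]
    by_cases hA : -one3 ∈ D.orbit
    · refine Or.inr (Or.inl (Finset.ext fun e => ?_))
      rw [Finset.mem_insert, Finset.mem_singleton]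
      exact ⟨hsub e, fun h => h.elim (fun h => h ▸ D.one3_mem) fun h => h ▸ hA⟩
    · refine Or.inl (Finset.ext fun e => ?_)
      rw [Finset.mem_singleton]
      exact ⟨fun he => (hsub e he).resolve_right fun h => hA (h ▸ he), fun h => h ▸ D.one3_mem⟩

/-- Elements with the same sign pattern and permutation differ by the core. -/
theorem inv_mul_mem_J {n n' : G} (hn : n ∈ D.N) (hn' : n' ∈ D.N)
    (h : ∀ a, D.act n a = D.act n' a) : n⁻¹ * n' ∈ D.J :=
  (D.act_J_iff (mul_mem (inv_mem hn) hn')).2 fun a => by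
    rw [D.act_mul (inv_mem hn) hn', ← h, D.act_inv_cancel hn]

end Monomial

end Data

end Cfsg.Agent.Recog.SymNine
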