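import Cfsg.Agent.Lib.Recog.SymNine.Base

/-!
Finite facts about linear maps of the coordinates.
-/

set_option autoImplicit false
set_option maxRecDepth 100000
set_option synthInstance.maxSize 4096

namespace Cfsg.Agent.Recog.SymNine

/-- The cycle of the three blocks. -/
def cyc : S3 := Equiv.swap 0 1 * Equiv.swap 1 2

/-- The transposition of the last two blocks. -/
def tr : S3 := Equiv.swap 1 2

/-- The vector of the plane. -/
def yW : V3 := ![0, 1, -1]

/-- The linear map fixing `yW` with given images of `one3` and the first unit. -/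
def planeMap (p q : V3) (a : V3) : V3 :=
  (a 0 + (a 1 + a 2)) • q + (-(a 1 + a 2)) • p + (-(a 1 - a 2)) • yW

/-- The commutator of the squared product with the cycle. -/
def word (h h' : V3 → V3) (a : V3) : V3 :=
  let c := pm cyc
  let c' := pm cyc⁻¹
  c (h (c (h (c (h' (c' (h' (c' (c' a)))))))))

theorem plane_witness : ∀ p ∈ [pm cyc yW, pm cyc (pm cyc yW), -pm cyc yW, -pm cyc (pm cyc yW)],
    ∀ q : V3,
    planeMap p q (planeMap p q (planeMap p q (Pi.single 0 1))) = Pi.single 0 1 →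
    planeMap p q (planeMap p q (planeMap p q one3)) = one3 →
    (∀ a : V3, planeMap p q a = a → a = 0 ∨ a = yW ∨ a = -yW) →
    ∃ f : (V3 → V3) × (V3 → V3),
      (f = (planeMap p q, fun a => planeMap p q (planeMap p q a)) ∨
        f = (fun a => planeMap p q (planeMap p q a), planeMap p q)) ∧
      word f.1 f.2 one3 = one3 ∧
      ∀ σ : S3, ∃ i : Fin 3, word f.1 f.2 (Pi.single i 1) ≠ pm σ (Pi.single i 1) := by
  intro p hp q h1 h2 h3
  have key : ∀ p ∈ [pm cyc yW, pm cyc (pm cyc yW), -pm cyc yW, -pm cyc (pm cyc yW)], ∀ q : V3,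
    planeMap p q (planeMap p q (planeMap p q (Pi.single 0 1))) = Pi.single 0 1 →
    planeMap p q (planeMap p q (planeMap p q one3)) = one3 →
    (∀ a : V3, planeMap p q a = a → a = 0 ∨ a = yW ∨ a = -yW) →
    (word (planeMap p q) (fun a => planeMap p q (planeMap p q a)) one3 = one3 ∧
      ∀ σ : S3, ∃ i : Fin 3, word (planeMap p q) (fun a => planeMap p q (planeMap p q a))
        (Pi.single i 1) ≠ pm σ (Pi.single i 1)) ∨
    (word (fun a => planeMap p q (planeMap p q a)) (planeMap p q) one3 = one3 ∧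
      ∀ σ : S3, ∃ i : Fin 3, word (fun a => planeMap p q (planeMap p q a)) (planeMap p q)
        (Pi.single i 1) ≠ pm σ (Pi.single i 1)) := by decide +kernel
  rcases key p hp q h1 h2 h3 with h | h
  · exact ⟨_, Or.inl rfl, h⟩
  · exact ⟨_, Or.inr rfl, h⟩

/-- A change of coordinates commuting with the blocks. -/
def twist (b : ZMod 3) (a : V3) : V3 := a + (b * (a 0 + a 1 + a 2)) • one3

theorem twist_facts : ∀ b : ZMod 3, ∀ a : V3, twist b (twist (-b) a) = a ∧ twist b one3 = one3 ∧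
    ∀ σ : S3, twist b (pm σ a) = pm σ (twist b a) := by decide +kernel

theorem pick_fixed : ∀ y : V3, y ≠ 0 → y ≠ one3 → y ≠ -one3 →
    (pm tr y = y → ∃ b : ZMod 3, twist b ![1, -1, -1] = y ∨ twist b ![1, -1, -1] = -y) ∧
    (pm tr y = -y → y = yW ∨ y = -yW) ∧
    (∀ i : Fin 3, (pm tr y = pm (cyc ^ (i : ℕ)) y ∨ pm tr y = -pm (cyc ^ (i : ℕ)) y) →
      ∃ k : Fin 3, pm tr (pm (cyc ^ (k : ℕ)) y) = pm (cyc ^ (k : ℕ)) y ∨
        pm tr (pm (cyc ^ (k : ℕ)) y) = -pm (cyc ^ (k : ℕ)) y) ∧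
    pm cyc y ≠ y ∧ pm cyc (pm cyc y) ≠ y ∧ pm cyc (pm cyc (pm cyc y)) = y := by decide +kernel

/-- The eight vectors of weight three. -/
def cubeL : List V3 :=
  [![1, 1, 1], ![1, 1, -1], ![1, -1, 1], ![1, -1, -1], ![-1, 1, 1], ![-1, 1, -1], ![-1, -1, 1],
    ![-1, -1, -1]]

theorem mem_cubeL : ∀ a : V3, a ∈ cubeL ↔ ∀ i, a i ≠ 0 := by decide +kernel

/-- The weight one vector on a sign pattern. -/
def unitAt (σ : S3) (e : V3) (i : Fin 3) : V3 := Pi.single (σ i) (e (σ i))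

theorem cube_frame : ∀ a ∈ cubeL, ∀ b ∈ cubeL, ∀ c ∈ cubeL, -(a + b + c) ∈ cubeL → b ≠ a → b ≠ -a →
    c ≠ a → c ≠ -a → c ≠ b → c ≠ -b →
    ∃ σ : S3, ∃ e ∈ cubeL, -(a + b) = unitAt σ e 0 ∧ -(a + c) = unitAt σ e 1 ∧
      -(a + -(a + b + c)) = unitAt σ e 2 := by decide +kernel

end Cfsg.Agent.Recog.SymNine
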