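import Cfsg.Agent.Lib.Recog.SymNine.Local
import Cfsg.Agent.Lib.Recog.SymNine.ShapeData

/-!
The action of the normalizer on the core is monomial or fixes the line of the centre.
-/

set_option autoImplicit false
set_option linter.style.haveILetI false
set_option linter.unusedSectionVars false

namespace Cfsg.Agent.Recog.SymNine

open Subgroup

universe u

theorem decomp3 : ∀ a : V3, a 0 • (Pi.single 0 1 : V3) + a 1 • Pi.single 1 1 + a 2 • Pi.single 2 1 = a := by
  decide +kernel

/-- A monomial map. -/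
def mon (e : V3) (σ : S3) (a : V3) : V3 := fun i => e i * a (σ⁻¹ i)

/-- A neighbour of the all-one vector. -/
def y0 : V3 := ![1, -1, -1]

theorem y0_facts : y0 ≠ 0 ∧ y0 ≠ one3 ∧ y0 ≠ -one3 ∧ -(one3 + y0) = Pi.single 0 1 ∧
    -(one3 + pm cyc y0) = Pi.single 1 1 ∧ -(one3 + pm cyc (pm cyc y0)) = Pi.single 2 1 ∧
    -(one3 + y0 + pm cyc y0) = pm cyc (pm cyc y0) ∧
    (∀ i : Fin 3, ∀ s : Bool, (if s then -pm (cyc ^ (i : ℕ)) y0 else pm (cyc ^ (i : ℕ)) y0) ∈ cubeL) ∧
    pm cyc y0 ≠ y0 ∧ pm cyc y0 ≠ -y0 ∧ pm cyc y0 ≠ one3 ∧ pm cyc y0 ≠ -one3 := by decide +kernel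

theorem cyc_fixed : (∀ a : V3, pm cyc a = a → a = 0 ∨ a = one3 ∨ a = -one3) ∧
    pm cyc one3 = one3 ∧ pm cyc (-one3) = -one3 := by decide +kernel

theorem mon_unit : ∀ e : V3, ∀ σ : S3, ∀ i : Fin 3, mon e σ (Pi.single i 1) = unitAt σ e i := by
  decide +kernel

namespace Data

variable {G : Type u} [Group G] [Finite G] (D : Data G)

open Classical in
/-- The action of an element on the coordinates. -/
noncomputable def act (g : G) (a : V3) : V3 :=
  if h : ∃ b, g * D.v a * g⁻¹ = D.v b then h.choose else a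

theorem act_spec {g : G} (hg : g ∈ D.N) (a : V3) : g * D.v a * g⁻¹ = D.v (D.act g a) := by
  rw [act, dif_pos (D.exists_conj hg a)]
  exact (D.exists_conj hg a).choose_spec

theorem act_eq {g : G} {a b : V3} (h : g * D.v a * g⁻¹ = D.v b) : D.act g a = b := by
  have hex : ∃ b, g * D.v a * g⁻¹ = D.v b := ⟨b, h⟩
  rw [act, dif_pos hex]
  exact D.v_inj (hex.choose_spec.symm.trans h)

theorem act_add {g : G} (hg : g ∈ D.N) (a b : V3) : D.act g (a + b) = D.act g a + D.act g b :=
  D.act_eq (by rw [D.v_add, D.v_add, ← D.act_spec hg, ← D.act_spec hg]; group)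

theorem act_zero {g : G} (hg : g ∈ D.N) : D.act g 0 = 0 := by
  have h := D.act_add hg 0 0
  rwa [add_zero, left_eq_add] at h

theorem act_neg {g : G} (hg : g ∈ D.N) (a : V3) : D.act g (-a) = -D.act g a :=
  eq_neg_of_add_eq_zero_left (by rw [← D.act_add hg, neg_add_cancel, D.act_zero hg])

theorem act_smul {g : G} (hg : g ∈ D.N) (c : ZMod 3) (a : V3) : D.act g (c • a) = c • D.act g a := by
  have hc : c = 0 ∨ c = 1 ∨ c = -1 := by revert c; decide
  rcases hc with rfl | rfl | rfl
  · rw [zero_smul, zero_smul, D.act_zero hg]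
  · rw [one_smul, one_smul]
  · rw [neg_one_smul, neg_one_smul, D.act_neg hg]

theorem act_lin {g : G} (hg : g ∈ D.N) (a : V3) : D.act g a =
    a 0 • D.act g (Pi.single 0 1) + a 1 • D.act g (Pi.single 1 1) + a 2 • D.act g (Pi.single 2 1) := by
  conv_lhs => rw [← decomp3 a]
  rw [D.act_add hg, D.act_add hg, D.act_smul hg, D.act_smul hg, D.act_smul hg]

theorem act_mul {g h : G} (hg : g ∈ D.N) (hh : h ∈ D.N) (a : V3) :
    D.act (g * h) a = D.act g (D.act h a) :=
  D.act_eq (by rw [← D.act_spec hg, ← D.act_spec hh]; group)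

theorem act_el (b : V3) (σ : S3) (a : V3) : D.act (D.el b σ) a = pm σ a := D.act_eq (D.el_conj_v b a σ)

theorem act_one (a : V3) : D.act 1 a = a := D.act_eq (by group)

theorem act_inv_cancel {g : G} (hg : g ∈ D.N) (a : V3) : D.act g⁻¹ (D.act g a) = a := by
  rw [← D.act_mul (inv_mem hg) hg, inv_mul_cancel, D.act_one]

theorem act_inj {g : G} (hg : g ∈ D.N) : Function.Injective (D.act g) := fun a b h => by
  rw [← D.act_inv_cancel hg a, h, D.act_inv_cancel hg]

theorem act_ne_zero {g : G} (hg : g ∈ D.N) {a : V3} (ha : a ≠ 0) : D.act g a ≠ 0 := fun h =>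
  ha (D.act_inj hg (h.trans (D.act_zero hg).symm))

/-- The stabilizer of the centre consists of permutations. -/
theorem act_stab {g : G} (hg : g ∈ D.N) (h : D.act g one3 = one3) :
    ∃ a σ, D.el a σ = g ∧ ∀ b, D.act g b = pm σ b := by
  have hc : g ∈ centralizer ({D.x} : Set G) := mem_centralizer_singleton_iff.2
    (mul_inv_eq_iff_eq_mul.1 (by rw [x, D.act_spec hg, h]))
  obtain ⟨a, σ, he⟩ := D.mem_cent_x.1 hc
  exact ⟨a, σ, he, fun b => by rw [← he, D.act_el]⟩

theorem mem_J_of_act {g : G} (hg : g ∈ D.N) (h : ∀ i, D.act g (Pi.single i 1) = Pi.single i 1) :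
    g ∈ D.J := by
  have hall : ∀ b, D.act g b = b := fun b => by rw [D.act_lin hg, h, h, h, decomp3]
  obtain ⟨a, σ, he, hσ⟩ := D.act_stab hg (hall one3)
  obtain rfl : σ = 1 := pm_faithful fun b => (hσ b).symm.trans (hall b)
  rw [← he, D.el_one']
  exact D.v_mem a

theorem act_J {g : G} (hg : g ∈ D.J) (a : V3) : D.act g a = a := by
  obtain ⟨b, rfl⟩ := D.mem_J.1 hg
  exact D.act_eq (by rw [(D.v_comm b a).eq, mul_inv_cancel_right])

/-- The action as permutations. -/
noncomputable def perm : D.N →* Equiv.Perm V3 where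
  toFun g := ⟨D.act g, D.act (g : G)⁻¹, D.act_inv_cancel g.2, fun a => by
    have h := D.act_inv_cancel (inv_mem g.2) a
    rwa [inv_inv] at h⟩
  map_one' := Equiv.ext fun a => D.act_one a
  map_mul' g h := Equiv.ext fun a => D.act_mul g.2 h.2 a

theorem perm_apply (g : D.N) (a : V3) : D.perm g a = D.act g a := rfl

/-- The action as matrices. -/
noncomputable def mat : D.N →* Matrix (Fin 3) (Fin 3) (ZMod 3) where
  toFun g := Matrix.of fun i j => D.act (g : G) (Pi.single j 1) i
  map_one' := by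
    ext i j
    simp [D.act_one, Matrix.one_apply, Pi.single_apply]
  map_mul' g h := by
    ext i j
    simp only [Matrix.of_apply, Subgroup.coe_mul, Matrix.mul_apply, Fin.sum_univ_three]
    rw [D.act_mul g.2 h.2, D.act_lin g.2 (D.act h (Pi.single j 1))]
    simp only [Pi.add_apply, Pi.smul_apply, smul_eq_mul]
    ring

theorem card_N_dvd : Nat.card D.N ∣ 27 * 11232 := by
  set ψ := D.mat.toHomUnits
  have hker : ψ.ker ≤ D.J.subgroupOf D.N := fun g hg => by
    refine D.mem_J_of_act g.2 fun j => funext fun i => ?_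
    have h := congrArg (fun M : (Matrix (Fin 3) (Fin 3) (ZMod 3))ˣ =>
      (M : Matrix (Fin 3) (Fin 3) (ZMod 3)) i j) hg
    simpa [ψ, mat, Matrix.one_apply, Pi.single_apply] using h
  have h1 : Nat.card ψ.ker ∣ 27 := by
    refine (Subgroup.card_dvd_of_le hker).trans ?_
    rw [Nat.card_congr (subgroupOfEquivOfLe D.J_le_N).toEquiv, D.card_J]
  have h2 : Nat.card ψ.range ∣ 11232 := by
    have h := Subgroup.card_subgroup_dvd_card ψ.range
    rwa [show Nat.card (Matrix (Fin 3) (Fin 3) (ZMod 3))ˣ = 11232 by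
      haveI : Fact (Nat.Prime 3) := ⟨Nat.prime_three⟩
      have h := Matrix.card_GL_field (𝔽 := ZMod 3) 3
      rw [ZMod.card] at h
      rw [show Nat.card (Matrix (Fin 3) (Fin 3) (ZMod 3))ˣ = _ from h, Fin.prod_univ_three]
      rfl] at h
  rw [ψ.ker.card_eq_card_quotient_mul_card_subgroup,
    Nat.card_congr (QuotientGroup.quotientKerEquivRange ψ).toEquiv, mul_comm 27]
  exact Nat.mul_dvd_mul h2 h1

theorem not_243 : ¬ 243 ∣ Nat.card D.N := fun hd => by
  haveI : Fact (Nat.Prime 3) := ⟨Nat.prime_three⟩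
  obtain ⟨Q, hQ⟩ := Sylow.exists_subgroup_card_pow_prime (G := D.N) 3 (n := 5) (by simpa using hd)
  obtain ⟨n, -, hn⟩ := D.conj_into_P ((IsPGroup.of_card hQ).map D.N.subtype) (map_subtype_le Q)
  have h := Subgroup.card_le_of_le (show (Q.map D.N.subtype).map (MulAut.conj n).toMonoidHom ≤ D.P by
    rintro _ ⟨y, hy, rfl⟩
    exact hn y hy)
  rw [card_map_of_injective (MulAut.conj n).injective, card_map_of_injective D.N.subtype_injective,
    hQ, D.card_P] at h
  norm_num at h

open Classical in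
/-- The orbit of the centre. -/
noncomputable def orbit : Finset V3 := Finset.univ.filter fun a => ∃ n ∈ D.N, D.act n one3 = a

theorem mem_orbit {a : V3} : a ∈ D.orbit ↔ ∃ n ∈ D.N, D.act n one3 = a := by simp [orbit]

theorem one3_mem : one3 ∈ D.orbit := D.mem_orbit.2 ⟨1, one_mem _, D.act_one one3⟩

theorem orbit_map {g : G} (hg : g ∈ D.N) {a : V3} (ha : a ∈ D.orbit) : D.act g a ∈ D.orbit := by
  obtain ⟨n, hn, rfl⟩ := D.mem_orbit.1 ha
  exact D.mem_orbit.2 ⟨g * n, mul_mem hg hn, D.act_mul hg hn one3⟩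

theorem pm_orbit (σ : S3) {a : V3} (ha : a ∈ D.orbit) : pm σ a ∈ D.orbit :=
  D.act_el 0 σ a ▸ D.orbit_map (D.el_mem_N 0 σ) ha

theorem orbit_ne {a : V3} (ha : a ∈ D.orbit) : a ≠ 0 := by
  obtain ⟨n, hn, rfl⟩ := D.mem_orbit.1 ha
  exact D.act_ne_zero hn one3_ne

theorem orbit_neg (h : -one3 ∈ D.orbit) {a : V3} (ha : a ∈ D.orbit) : -a ∈ D.orbit := by
  obtain ⟨n, hn, rfl⟩ := D.mem_orbit.1 ha
  exact D.act_neg hn one3 ▸ D.orbit_map hn h

theorem neg_one3_of_pair {a : V3} (ha : a ∈ D.orbit) (ha' : -a ∈ D.orbit) : -one3 ∈ D.orbit := by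
  obtain ⟨n, hn, rfl⟩ := D.mem_orbit.1 ha
  have h := D.orbit_map (inv_mem hn) ha'
  rwa [D.act_neg (inv_mem hn), D.act_inv_cancel hn] at h

theorem card_N : Nat.card D.N = D.orbit.card * 162 := by
  letI := MulAction.compHom V3 D.perm
  have h1 : Nat.card (MulAction.orbit D.N one3) = D.orbit.card := by
    rw [← Nat.card_eq_finsetCard]
    refine Nat.card_congr (Equiv.subtypeEquivRight fun a => ?_)
    rw [D.mem_orbit]
    exact ⟨fun ⟨n, hn⟩ => ⟨n, n.2, hn⟩, fun ⟨n, hn, h⟩ => ⟨⟨n, hn⟩, h⟩⟩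
  have h2 : MulAction.stabilizer D.N one3 = (centralizer ({D.x} : Set G)).subgroupOf D.N := by
    ext g
    rw [MulAction.mem_stabilizer_iff, mem_subgroupOf, mem_centralizer_singleton_iff,
      ← mul_inv_eq_iff_eq_mul, x, D.act_spec g.2]
    exact ⟨fun h => congrArg D.v h, fun h => D.v_inj h⟩
  rw [← h1, ← Nat.card_congr (MulAction.orbitProdStabilizerEquivGroup D.N one3), Nat.card_prod, h2,
    Nat.card_congr (subgroupOfEquivOfLe D.cent_x_le).toEquiv, D.card_cent_x]

theorem orbit_mod : D.orbit.card % 3 = ({one3, -one3} ∩ D.orbit).card % 3 := by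
  classical
  haveI : Fact (Nat.Prime 3) := ⟨Nat.prime_three⟩
  have hc3 : ∀ a : V3, pm cyc (pm cyc (pm cyc a)) = a := by decide +kernel
  let f : Equiv.Perm {a // a ∈ D.orbit} :=
    ⟨fun a => ⟨pm cyc a, D.pm_orbit cyc a.2⟩, fun a => ⟨pm cyc (pm cyc a), D.pm_orbit _ (D.pm_orbit _ a.2)⟩,
      fun a => Subtype.ext (hc3 a), fun a => Subtype.ext (hc3 a)⟩
  have hf : f ^ 3 ^ 1 = 1 := Equiv.ext fun a => Subtype.ext (hc3 a)
  have h := Equiv.Perm.card_fixedPoints_modEq (f := ⇑f) (p := 3) (n := 1) (funext fun a => Subtype.ext (hc3 a))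
  rw [Nat.ModEq, Fintype.card_coe] at h
  rw [h, ← Finset.card_attach (s := _)]
  congr 1
  have hfix := cyc_fixed.1
  have hf1 : ∀ a ∈ ({one3, -one3} : Finset V3), pm cyc a = a := fun a ha => by
    rcases Finset.mem_insert.1 ha with rfl | h
    · exact cyc_fixed.2.1
    · rw [Finset.mem_singleton.1 h]; exact cyc_fixed.2.2
  rw [← Fintype.card_coe]
  refine (Fintype.card_congr ?_).trans Finset.card_attach.symm
  exact
    { toFun := fun a => ⟨a.1.1, Finset.mem_inter.2 ⟨by
        rcases hfix _ (congrArg Subtype.val a.2) with e | e | e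
        · exact absurd e (D.orbit_ne a.1.2)
        all_goals simp [e], a.1.2⟩⟩
      invFun := fun a => ⟨⟨a.1, (Finset.mem_inter.1 a.2).2⟩,
        Subtype.ext (hf1 _ (Finset.mem_inter.1 a.2).1)⟩
      left_inv := fun _ => rfl
      right_inv := fun _ => rfl }

theorem not_thirteen : ¬ 13 ∣ D.orbit.card := fun hd => by
  classical
  haveI : Fact (Nat.Prime 13) := ⟨by norm_num⟩
  set R := D.perm.range
  have hker : D.perm.ker = D.J.subgroupOf D.N := by
    ext g
    refine ⟨fun h => D.mem_J_of_act g.2 fun i => ?_, fun h => Equiv.ext fun a => D.act_J h a⟩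
    exact congrArg (fun f : Equiv.Perm V3 => f (Pi.single i 1)) h
  have hR : Nat.card R = D.orbit.card * 6 := by
    show Nat.card D.perm.range = _
    have h := D.perm.ker.card_eq_card_quotient_mul_card_subgroup
    rw [Nat.card_congr (QuotientGroup.quotientKerEquivRange D.perm).toEquiv, hker,
      Nat.card_congr (subgroupOfEquivOfLe D.J_le_N).toEquiv, D.card_J, D.card_N] at h
    omega
  obtain ⟨S⟩ := (inferInstance : Nonempty (Sylow 13 R))
  have hle : D.orbit.card ≤ 26 := by
    refine (Finset.card_le_card (t := Finset.univ.erase (0 : V3)) fun a ha => ?_).trans (by simp)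
    simpa using D.orbit_ne ha
  have hpos : 0 < D.orbit.card := Finset.card_pos.2 ⟨_, D.one3_mem⟩
  have hS13 : 13 ∣ Nat.card (S : Subgroup R) := by
    have := S.dvd_card_of_dvd_card (hR ▸ hd.mul_right 6)
    exact this
  have hn1 : Nat.card (Sylow 13 R) = 1 := by
    have h1 := card_sylow_modEq_one 13 R
    have h2 := S.card_dvd_index
    have h3 := (S : Subgroup R).card_mul_index
    rw [hR] at h3
    have h4 : (S : Subgroup R).index ≤ 12 := by
      by_contra hc
      have h5 : 13 * 13 ≤ Nat.card (S : Subgroup R) * (S : Subgroup R).index :=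
        Nat.mul_le_mul (Nat.le_of_dvd Nat.card_pos hS13) (by omega)
      omega
    have h6 := Nat.le_of_dvd (Nat.pos_of_ne_zero (fun h => by rw [h, mul_zero] at h3; omega)) h2
    have h7 : Nat.card (Sylow 13 R) % 13 = 1 := h1
    omega
  haveI : Subsingleton (Sylow 13 R) := (Nat.card_eq_one_iff_unique.1 hn1).1
  haveI : (S : Subgroup R).Normal := Sylow.normal_of_subsingleton S
  obtain ⟨h, hh⟩ := exists_prime_orderOf_dvd_card' 13 hS13
  set h' : R := (h : R)
  have ho : orderOf h' = 13 := by rw [Subgroup.orderOf_coe]; exact hh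
  have hScard : Nat.card (S : Subgroup R) = 13 := by
    obtain ⟨k, hk⟩ := IsPGroup.iff_card.1 S.isPGroup'
    have hd2 : 13 ^ k ∣ D.orbit.card * 6 := hk ▸ hR ▸ Subgroup.card_subgroup_dvd_card _
    rcases k with _ | _ | k
    · rw [hk] at hS13; norm_num at hS13
    · rw [hk]; norm_num
    · exfalso
      have := Nat.le_of_dvd (by omega) ((pow_dvd_pow 13 (show 2 ≤ k + 1 + 1 by omega)).trans hd2)
      omega
  have hconj : ∀ r : R, ∃ i : ℕ, r * h' * r⁻¹ = h' ^ i := fun r => by
    have hm : r * h' * r⁻¹ ∈ (S : Subgroup R) := Subgroup.Normal.conj_mem inferInstance _ h.2 r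
    have heq : zpowers h' = (S : Subgroup R) := Subgroup.eq_of_le_of_card_ge (zpowers_le.2 h.2)
      (by rw [Nat.card_zpowers, ho, hScard])
    rw [← heq, ← mem_powers_iff_mem_zpowers] at hm
    obtain ⟨i, hi⟩ := hm
    exact ⟨i, hi.symm⟩
  let c : R := ⟨D.perm ⟨D.el 0 cyc, D.el_mem_N _ _⟩, ⟨_, rfl⟩⟩
  let t : R := ⟨D.perm ⟨D.el 0 tr, D.el_mem_N _ _⟩, ⟨_, rfl⟩⟩
  have hct : t * c * t⁻¹ = c⁻¹ ∧ c * c * c = 1 := by
    have key : (∀ a : V3, pm tr (pm cyc a) = pm cyc (pm cyc (pm tr a))) ∧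
        ∀ a : V3, pm cyc (pm cyc (pm cyc a)) = a := by decide +kernel
    have h3 : c * c * c = 1 := Subtype.ext (Equiv.ext fun a => by
      simp only [c, Subgroup.coe_mul, Equiv.Perm.mul_apply, perm_apply, act_el]
      exact key.2 a)
    refine ⟨?_, h3⟩
    rw [mul_inv_eq_iff_eq_mul, inv_eq_of_mul_eq_one_left h3]
    refine Subtype.ext (Equiv.ext fun a => ?_)
    simp only [c, t, Subgroup.coe_mul, Equiv.Perm.mul_apply, perm_apply, act_el]
    exact key.1 a
  obtain ⟨i, hi⟩ := hconj c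
  obtain ⟨k, hk⟩ := hconj t⁻¹
  rw [inv_inv] at hk
  have hci : c⁻¹ * h' * c = h' ^ i := by
    have hk' : t * h' ^ k * t⁻¹ = h' := by rw [← hk]; group
    calc c⁻¹ * h' * c = (t * c * t⁻¹) * h' * (t * c * t⁻¹)⁻¹ := by rw [hct.1, inv_inv]
      _ = t * c * (t⁻¹ * h' * t) * c⁻¹ * t⁻¹ := by group
      _ = t * (c * h' * c⁻¹) ^ k * t⁻¹ := by rw [hk, conj_pow]; group
      _ = (t * h' ^ k * t⁻¹) ^ i := by rw [hi, conj_pow, ← pow_mul, ← pow_mul, mul_comm i k]
      _ = h' ^ i := by rw [hk']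
  have hcomm : c * h' = h' * c := by
    have hc2 : c⁻¹ = c * c := inv_eq_of_mul_eq_one_right (by rw [← mul_assoc, hct.2])
    have e : c⁻¹ * h' * c = c * h' * c⁻¹ := hci.trans hi.symm
    have e2 : c * c * h' = h' * (c * c) := by
      calc c * c * h' = c * (c * h' * c⁻¹) * c := by group
        _ = c * (c⁻¹ * h' * c) * c := by rw [e]
        _ = _ := by group
    calc c * h' = c * (c * c * c) * h' := by rw [hct.2, mul_one]
      _ = c * c * (c * c * h') := by group
      _ = c * c * (h' * (c * c)) := by rw [e2]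
      _ = c * c * h' * (c * c) := by group
      _ = h' * (c * c * c * c) := by rw [e2]; group
      _ = h' * c := by rw [hct.2, one_mul]
  obtain ⟨g, hg⟩ := h'.2
  have hfix : pm cyc (D.act g one3) = D.act g one3 := by
    have h := congrArg (fun f : R => (f : Equiv.Perm V3) one3) hcomm
    simp only [c, Subgroup.coe_mul, Equiv.Perm.mul_apply, perm_apply, act_el, ← hg] at h
    rwa [pm_one3] at h
  have hx : D.act g one3 = one3 ∨ D.act g one3 = -one3 :=
    ((show ∀ a : V3, pm cyc a = a → a = 0 ∨ a = one3 ∨ a = -one3 by decide +kernel) _ hfix).resolve_left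
      (D.act_ne_zero g.2 one3_ne)
  have hg2 : D.act (g * g : D.N) one3 = one3 := by
    rw [Subgroup.coe_mul, D.act_mul g.2 g.2]
    rcases hx with e | e
    · rw [e, e]
    · rw [e, D.act_neg g.2, e, neg_neg]
  obtain ⟨a, σ, -, hσ⟩ := D.act_stab (g * g : D.N).2 hg2
  have h6 : h' ^ 12 = 1 := by
    refine Subtype.ext ?_
    rw [SubgroupClass.coe_pow, ← hg, show 12 = 2 * 6 from rfl, pow_mul, pow_two, ← map_mul]
    refine Equiv.ext fun b => ?_
    simp only [pow_succ, pow_zero, one_mul, Equiv.Perm.mul_apply, perm_apply, hσ, ← pm_mul]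
    rw [(show ∀ σ : S3, σ * (σ * (σ * (σ * (σ * σ)))) = 1 by decide +kernel) σ, pm_one]
    rfl
  have := orderOf_dvd_of_pow_eq_one h6
  rw [ho] at this
  norm_num at this

theorem orbit_card : D.orbit.card ≤ 2 ∨ (D.orbit.card = 4 ∧ -one3 ∉ D.orbit) ∨
    (D.orbit.card = 8 ∧ -one3 ∈ D.orbit) := by
  classical
  have hd : D.orbit.card ∣ 1872 := by
    have := D.card_N ▸ D.card_N_dvd
    exact Nat.dvd_of_mul_dvd_mul_right (show 0 < 162 by norm_num) (by simpa using this)
  have h3 : ¬ 3 ∣ D.orbit.card := fun h => D.not_243 (by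
    rw [D.card_N]
    exact dvd_trans (by norm_num) (Nat.mul_dvd_mul h (dvd_refl 162)))
  have h13 := D.not_thirteen
  have hmod := D.orbit_mod
  by_cases hn : -one3 ∈ D.orbit
  · rw [Finset.inter_eq_left.2 (by simp [Finset.insert_subset_iff, hn, D.one3_mem]),
      Finset.card_pair (by decide)] at hmod
    have heven : 2 ∣ D.orbit.card := by
      rw [← Fintype.card_coe]
      let f : Equiv.Perm {a // a ∈ D.orbit} := ⟨fun a => ⟨-a.1, D.orbit_neg hn a.2⟩,
        fun a => ⟨-a.1, D.orbit_neg hn a.2⟩, fun a => Subtype.ext (neg_neg _),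
        fun a => Subtype.ext (neg_neg _)⟩
      haveI : Fact (Nat.Prime 2) := ⟨Nat.prime_two⟩
      have h := Equiv.Perm.card_fixedPoints_modEq (f := ⇑f) (p := 2) (n := 1)
        (funext fun a => Subtype.ext (neg_neg _))
      have h0 : Fintype.card (Function.fixedPoints ⇑f) = 0 := Fintype.card_eq_zero_iff.2 ⟨fun a =>
        D.orbit_ne a.1.2 ((show ∀ a : V3, -a = a → a = 0 by decide +kernel) _
          (congrArg Subtype.val a.2))⟩
      rw [h0] at h
      exact Nat.modEq_zero_iff_dvd.1 h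
    have hle : D.orbit.card ≤ 26 := by
      refine (Finset.card_le_card (t := Finset.univ.erase (0 : V3)) fun a ha => ?_).trans (by simp)
      simpa using D.orbit_ne ha
    generalize D.orbit.card = m at *
    interval_cases m <;> norm_num at * <;> tauto
  · rw [show ({one3, -one3} : Finset V3) ∩ D.orbit = {one3} by
      ext a
      simp only [Finset.mem_inter, Finset.mem_insert, Finset.mem_singleton]
      exact ⟨fun ⟨h, h'⟩ => h.resolve_right fun e => hn (e ▸ h'), fun h => ⟨Or.inl h, h ▸ D.one3_mem⟩⟩,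
      Finset.card_singleton] at hmod
    have hle : 2 * D.orbit.card ≤ 26 := by
      have hdis : Disjoint D.orbit (D.orbit.image Neg.neg) := Finset.disjoint_left.2 fun a ha hb => by
        obtain ⟨b, hb', he⟩ := Finset.mem_image.1 hb
        subst he
        exact hn (D.neg_one3_of_pair hb' ha)
      have h := Finset.card_le_card (t := Finset.univ.erase (0 : V3)) (s := D.orbit ∪ D.orbit.image Neg.neg)
        fun a ha => by
          rcases Finset.mem_union.1 ha with h | h
          · simpa using D.orbit_ne h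
          · obtain ⟨b, hb, rfl⟩ := Finset.mem_image.1 h
            simpa using D.orbit_ne hb
      rw [Finset.card_union_of_disjoint hdis, Finset.card_image_of_injective _ neg_injective] at h
      simp at h
      omega
    have hle' : D.orbit.card ≤ 13 := by omega
    generalize D.orbit.card = m at *
    interval_cases m <;> norm_num at * <;> tauto

end Data

end Cfsg.Agent.Recog.SymNine
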