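import Cfsg.Agent.Lib.Recog.SymNine.CentT
import Cfsg.Agent.Lib.Recog.SymNine.Ending

/-!
The Sylow two-subgroup of the normalizer and tools for the endings.
-/

set_option autoImplicit false
set_option linter.style.haveILetI false
set_option linter.unusedSectionVars false
set_option maxRecDepth 100000
set_option synthInstance.maxSize 4096

namespace Cfsg.Agent.Recog.SymNine

open Cfsg Subgroup

universe u

theorem two_perms : ∀ σ : S3, (σ * σ = 1 ∧ σ * tr * (σ * tr) = 1) → σ = 1 ∨ σ = tr := by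
  decide +kernel

theorem invol_perm : ∀ σ : S3, ∀ k : Fin 3, (σ * σ * (σ * σ) = 1 → σ * σ = 1) ∧
    (σ * σ * σ = 1 → σ * σ = 1 → σ = 1) ∧ Equiv.Perm.sign cyc = 1 ∧
    (cyc ^ (k : ℕ)) * (cyc ^ (k : ℕ))⁻¹ = 1 := by
  decide +kernel

theorem pow_two_perm : ∀ σ : S3, ∀ k : Fin 7, (σ ^ 2 ^ (k : ℕ) = 1 → σ * σ = 1) := by decide +kernel

theorem pow_six_perm : ∀ σ : S3, σ ^ 6 = 1 := by decide +kernel

/-- A two-subgroup whose normalizer has no further two-element is a Sylow subgroup. -/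
theorem sylow_two_of {G : Type u} [Group G] [Finite G] (S : Subgroup G) (hS : IsPGroup 2 S)
    (h : ∀ n : G, (∃ k : ℕ, n ^ 2 ^ k = 1) → (∀ y ∈ S, n * y * n⁻¹ ∈ S) → n ∈ S) :
    ∃ T : Sylow 2 G, (T : Subgroup G) = S := by
  haveI : Fact (Nat.Prime 2) := ⟨Nat.prime_two⟩
  refine ⟨⟨S, hS, fun {Q} hQ hle => ?_⟩, rfl⟩
  by_contra hne
  haveI : Group.IsNilpotent Q := hQ.isNilpotent
  have hlt : S.subgroupOf Q < ⊤ := lt_top_iff_ne_top.2 fun e => hne
    (le_antisymm (Subgroup.subgroupOf_eq_top.1 e) hle)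
  obtain ⟨g, hg, hgS⟩ := SetLike.exists_of_lt
    (Group.normalizerCondition_of_isNilpotent (S.subgroupOf Q) hlt)
  obtain ⟨k, hk⟩ := hQ g
  exact hgS (mem_subgroupOf.2 (h g ⟨k, by simpa using congrArg Subtype.val hk⟩
    fun y hy => (mem_normalizer_iff.1 hg ⟨y, hle hy⟩).1 hy))

theorem eq_one_of_two_three {G : Type u} [Group G] {g : G} {k m : ℕ} (h2 : g ^ 2 ^ k = 1)
    (h3 : g ^ 3 ^ m = 1) : g = 1 :=
  orderOf_eq_one_iff.1 (Nat.eq_one_of_dvd_coprimes (Nat.Coprime.pow k m (by norm_num))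
    (orderOf_dvd_of_pow_eq_one h2) (orderOf_dvd_of_pow_eq_one h3))

namespace Data

variable {G : Type u} [Group G] [Finite G] (D : Data G)

theorem pow_three_J {g : G} (hg : g ∈ D.J) : g ^ 3 ^ 1 = 1 := by
  obtain ⟨b, rfl⟩ := D.mem_J.1 hg
  rw [pow_one, pow_three', D.cube]

theorem act_pow {g : G} (hg : g ∈ D.N) {e : V3} {σ : S3} (h : ∀ a, D.act g a = mon e σ a)
    (n : ℕ) : ∃ e', ∀ a, D.act (g ^ n) a = mon e' (σ ^ n) a := by
  induction n with
  | zero => exact ⟨one3, fun a => by rw [pow_zero, pow_zero, D.act_one, mon_one3, pm_one]⟩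
  | succ n ih =>
    obtain ⟨e', he'⟩ := ih
    exact ⟨e' * pm (σ ^ n) e, fun a => by
      rw [pow_succ, pow_succ, D.act_mul (pow_mem hg n) hg, h, he', mon_comp]⟩

variable {D}

theorem TI_of_not_full (hm : D.Monomial) (h : D.orbit ≠ cubeL.toFinset) : D.TI := fun a ha =>
  (cent_cases hm ha).resolve_right fun h' => h h'.1

theorem two_elt_perm (hm : D.Monomial) {g : G} (hg : g ∈ D.N) {k : ℕ} (hk : g ^ 2 ^ k = 1)
    {e : V3} {σ : S3} (h : ∀ a, D.act g a = mon e σ a) : σ * σ = 1 := by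
  obtain ⟨e', he'⟩ := D.act_pow hg h (2 ^ k)
  rw [hk] at he'
  have h1 : σ ^ 2 ^ k = 1 := ((mon_inj one3_cube.1 fun a => by
    rw [mon_one3, pm_one, ← he', D.act_one]).2).symm
  have h2 : orderOf σ ∣ 2 ^ k := orderOf_dvd_of_pow_eq_one h1
  have h3 : orderOf σ ∣ 6 := orderOf_dvd_of_pow_eq_one (pow_six_perm σ)
  have h4 : orderOf σ ∣ 2 := by
    have h5 : (orderOf σ).Coprime 3 :=
      (Nat.Coprime.pow_left k (by norm_num : Nat.Coprime 2 3)).coprime_dvd_left h2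
    exact h5.dvd_of_dvd_mul_left (show orderOf σ ∣ 3 * 2 from h3)
  rw [← pow_two]
  exact orderOf_dvd_iff_pow_eq_one.1 h4

/-- A Sylow two-subgroup of the normalizer through the transposition, with coordinates. -/
theorem exists_two (hm : D.Monomial) :
    ∃ (S : Subgroup G) (ℓ : V3 → S3 → G), S ≤ D.N ∧ IsPGroup 2 S ∧ D.tt ∈ S ∧
      (∀ e ∈ D.orbit, ∀ σ, (σ = 1 ∨ σ = tr) → ℓ e σ ∈ S ∧ ∀ a, D.act (ℓ e σ) a = mon e σ a) ∧
      (∀ g ∈ S, ∃ e ∈ D.orbit, ∃ σ, (σ = 1 ∨ σ = tr) ∧ g = ℓ e σ) ∧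
      (∀ g ∈ S, ∀ g' ∈ S, (∀ a, D.act g a = D.act g' a) → g = g') ∧
      (∀ R : Subgroup G, IsPGroup 2 R → S ≤ R → R ≤ D.N → R = S) := by
  classical
  haveI : Fact (Nat.Prime 2) := ⟨Nat.prime_two⟩
  have htp : IsPGroup 2 ((zpowers D.tt).subgroupOf D.N) :=
    (IsPGroup.of_card (n := 1) (by rw [Nat.card_zpowers, D.orderOf_tt, pow_one]) :
      IsPGroup 2 (zpowers D.tt)).comap_subtype
  obtain ⟨S0, hS0⟩ := htp.exists_le_sylow
  set S := (S0 : Subgroup D.N).map D.N.subtype with hS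
  have hSN : S ≤ D.N := map_subtype_le _
  have hSp : IsPGroup 2 S := S0.isPGroup'.map _
  have htS : D.tt ∈ S := ⟨⟨D.tt, D.refl_tt.mem⟩, hS0 (mem_zpowers D.tt), rfl⟩
  have hmax : ∀ R : Subgroup G, IsPGroup 2 R → S ≤ R → R ≤ D.N → R = S := by
    intro R hR hle hRN
    have h1 := S0.is_maximal' (hR.comap_subtype (K := D.N)) (fun y hy => hle ⟨y, hy, rfl⟩)
    rw [hS, ← h1, comap_subtype, subgroupOf_map_subtype, inf_eq_left.2 hRN]
  have huniq : ∀ g ∈ S, ∀ g' ∈ S, (∀ a, D.act g a = D.act g' a) → g = g' := by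
    intro g hg g' hg' hact
    obtain ⟨k, hk⟩ := hSp ⟨g⁻¹ * g', mul_mem (inv_mem hg) hg'⟩
    exact inv_mul_eq_one.1 (eq_one_of_two_three (by simpa using congrArg Subtype.val hk)
      (D.pow_three_J (hm.inv_mul_mem_J (hSN hg) (hSN hg') hact)))
  obtain ⟨n, hn⟩ : ∃ n : ℕ, D.orbit.card = 2 ^ n := by
    rcases hm.orbit_four with e | e | e | e <;> rw [e]
    exacts [⟨0, by decide +kernel⟩, ⟨1, by decide +kernel⟩, ⟨2, sign_closure.2.2.2.2.2.2.2.2.2.2⟩,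
      ⟨3, sign_closure.2.2.2.2.2.2.2.2.2.1⟩]
  have hcard : Nat.card S = D.orbit.card * 2 := by
    rw [hS, card_map_of_injective D.N.subtype_injective, S0.card_eq_multiplicity, D.card_N, hn,
      show 2 ^ n * 162 = 2 ^ (n + 1) * 81 by rw [pow_succ]; ring,
      Nat.factorization_mul (by positivity) (by norm_num), Nat.Prime.factorization_pow Nat.prime_two]
    simp [Nat.factorization_eq_zero_of_not_dvd, pow_succ]
  have hcode : ∀ g : S, ∃ p : {p : V3 × S3 // p ∈ D.orbit ×ˢ ({1, tr} : Finset S3)},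
      ∀ a, D.act g a = mon p.1.1 p.1.2 a := by
    rintro ⟨g, hg⟩
    obtain ⟨e, -, σ, h⟩ := hm g (hSN hg)
    obtain ⟨k, hk⟩ := hSp ⟨g, hg⟩
    obtain ⟨k', hk'⟩ := hSp ⟨g * D.tt, mul_mem hg htS⟩
    have h1 := two_elt_perm hm (hSN hg) (by simpa using congrArg Subtype.val hk) h
    have h2 := two_elt_perm hm (hSN (mul_mem hg htS)) (k := k')
      (by simpa using congrArg Subtype.val hk') (e := e * pm σ one3) (σ := σ * tr) fun a => by
        rw [D.act_mul (hSN hg) D.refl_tt.mem, h, tt, D.act_el, ← mon_one3, mon_comp]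
    refine ⟨⟨(e, σ), Finset.mem_product.2 ⟨hm.sign_mem (hSN hg) h, ?_⟩⟩, h⟩
    rw [Finset.mem_insert, Finset.mem_singleton]
    exact two_perms σ ⟨h1, h2⟩
  choose c hc using hcode
  have hbij : Function.Bijective c := by
    refine (Nat.bijective_iff_injective_and_card c).2 ⟨fun g g' h => ?_, ?_⟩
    · exact Subtype.ext (huniq g g.2 g' g'.2 fun a => by rw [hc, hc, h])
    · rw [hcard, Nat.card_eq_finsetCard, Finset.card_product,
        show ({1, tr} : Finset S3).card = 2 by decide +kernel]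
  let ℓ : V3 → S3 → G := fun e σ =>
    if h : (e, σ) ∈ D.orbit ×ˢ ({1, tr} : Finset S3) then ((hbij.2 ⟨(e, σ), h⟩).choose : G) else 1
  have hmem : ∀ {e : V3} {σ : S3}, e ∈ D.orbit → (σ = 1 ∨ σ = tr) →
      (e, σ) ∈ D.orbit ×ˢ ({1, tr} : Finset S3) := fun he hσ => Finset.mem_product.2 ⟨he, by
    rw [Finset.mem_insert, Finset.mem_singleton]; exact hσ⟩
  have hl : ∀ e ∈ D.orbit, ∀ σ, (σ = 1 ∨ σ = tr) →
      ℓ e σ ∈ S ∧ ∀ a, D.act (ℓ e σ) a = mon e σ a := by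
    intro e he σ hσ
    have h := (hbij.2 ⟨(e, σ), hmem he hσ⟩).choose_spec
    simp only [ℓ, dif_pos (hmem he hσ)]
    refine ⟨Subtype.coe_prop _, fun a => ?_⟩
    rw [hc, h]
  refine ⟨S, ℓ, hSN, hSp, htS, hl, fun g hg => ?_, huniq, hmax⟩
  obtain ⟨he, hσ⟩ := Finset.mem_product.1 (c ⟨g, hg⟩).2
  rw [Finset.mem_insert, Finset.mem_singleton] at hσ
  exact ⟨_, he, _, hσ, huniq g hg _ (hl _ he _ hσ).1 fun a => by rw [(hl _ he _ hσ).2, hc ⟨g, hg⟩]⟩

/-- A two-element normalizing the Sylow subgroup and centralizing the transposition lies in it. -/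
theorem two_mem_of_N {S : Subgroup G} (hSN : S ≤ D.N) (hSp : IsPGroup 2 S)
    (hmax : ∀ R : Subgroup G, IsPGroup 2 R → S ≤ R → R ≤ D.N → R = S) {n : G} (hn : n ∈ D.N)
    (h2 : ∃ k : ℕ, n ^ 2 ^ k = 1) (hnorm : ∀ y ∈ S, n * y * n⁻¹ ∈ S) : n ∈ S := by
  haveI : Fact (Nat.Prime 2) := ⟨Nat.prime_two⟩
  obtain ⟨k, hk⟩ := h2
  obtain ⟨i, -, hi⟩ := (Nat.dvd_prime_pow Nat.prime_two).1 (orderOf_dvd_of_pow_eq_one hk)
  have hp : IsPGroup 2 (zpowers n) := IsPGroup.of_card (n := i) (by rw [Nat.card_zpowers, hi])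
  have h := hmax _ (hSp.to_sup_of_normal_left' hp (zpowers_le.2 (mem_normalizer_fintype hnorm)))
    le_sup_left (sup_le hSN (zpowers_le.2 hn))
  exact h.le ((le_sup_right : zpowers n ≤ S ⊔ zpowers n) (mem_zpowers n))

theorem P_pow {y : G} (hy : y ∈ D.P) : ∃ k : ℕ, y ^ 3 ^ k = 1 := by
  obtain ⟨k, hk⟩ := D.isPGroup_P ⟨y, hy⟩
  exact ⟨k, by simpa using congrArg Subtype.val hk⟩

/-- A homomorphism onto signs kills the Sylow three-subgroup. -/
theorem P_le_ker (φ : G →* ℤˣ) : D.P ≤ φ.ker := fun y hy => by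
  obtain ⟨k, hk⟩ := P_pow hy
  have h1 : φ y ^ 3 ^ k = 1 := by rw [← map_pow, hk, map_one]
  rcases Int.units_eq_one_or (φ y) with e | e
  · exact e
  · rw [e, (Odd.pow (by decide)).neg_one_pow] at h1
    exact absurd h1 (by decide)

/-- The normalizer inside a subgroup meeting it in odd order. -/
theorem meet_le_P {M : Subgroup G} (hP : D.P ≤ M) (hodd : ∀ g ∈ M ⊓ D.N, ¬ 2 ∣ orderOf g) :
    M ⊓ D.N ≤ D.P := by
  have h3 : IsPGroup 3 (M ⊓ D.N : Subgroup G) := by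
    rintro ⟨g, hg⟩
    have hd : orderOf g ∣ Nat.card D.N := Subgroup.orderOf_dvd_natCard _ hg.2
    have hd' : Nat.card D.N ∣ 2 ^ 4 * 3 ^ 4 := by
      rw [D.card_N]
      rcases D.orbit_card with h | ⟨h, -⟩ | ⟨h, -⟩
      · have h0 := Finset.card_pos.2 ⟨_, D.one3_mem⟩
        interval_cases D.orbit.card <;> norm_num
      all_goals rw [h]; norm_num
    have hco : (orderOf g).Coprime (2 ^ 4) :=
      Nat.Coprime.pow_right _ ((Nat.Prime.coprime_iff_not_dvd Nat.prime_two).2 (hodd g hg)).symm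
    exact ⟨4, Subtype.ext (orderOf_dvd_iff_pow_eq_one.1 (hco.dvd_of_dvd_mul_left (hd.trans hd')))⟩
  exact (D.eq_P_of_le h3 (le_inf hP D.P_le_N)).le

/-- The element of order three of the centralizer of minus one. -/
theorem exists_cyc (hm : D.Monomial) {z : G} (hz : z ∈ D.N) (hz2 : z * z = 1)
    (hza : ∀ a, D.act z a = -a) : ∃ c ∈ D.P, c ∉ D.J ∧ Commute c z := by
  obtain ⟨κ, hκ, -, -⟩ := hm.exists_complement hz hz2 hza
  obtain ⟨hc, hcz, hca⟩ := hκ one3 D.one3_mem cyc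
  obtain ⟨a, σ, he, hσ⟩ := D.act_stab hc (by rw [hca, mon_apply_one3])
  obtain rfl : σ = cyc := ((mon_inj one3_cube.1 (σ := σ) (σ' := cyc) (e' := one3) fun b => by
    rw [mon_one3, ← hσ, hca]).2)
  refine ⟨_, ⟨a, cyc, (invol_perm cyc 0).2.2.1, he⟩, fun h => cyc_tr_facts.2.1 ?_, hcz⟩
  refine pm_faithful fun b => ?_
  rw [← hσ, D.act_J h]

/-- Elements of order three move into a centralized line. -/
theorem conj_into_line {s : G} {b : V3} (hb : b ≠ 0) (ho : ¬ D.Orb b) (hle : D.Cv b ≤ D.N)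
    (hbs : D.v b ∈ D.fixJ s) (h3 : Nat.card (D.fixJ s) = 3) {y : G}
    (hy : y ∈ centralizer ({s} : Set G)) (hy3 : orderOf y = 3) :
    ∃ g, ∃ d, g * y * g⁻¹ = D.v d ∧ D.v d ∈ D.fixJ s := by
  haveI : Fact (Nat.Prime 3) := ⟨Nat.prime_three⟩
  set X := centralizer ({s} : Set G)
  have hB : ∀ {w : X}, orderOf (w : G) = 3 → ∃ S : Sylow 3 X, (S : Subgroup X) = zpowers w := by
    intro w hw
    obtain ⟨S, hS⟩ := (IsPGroup.of_card (n := 1) (by
      rw [Nat.card_zpowers, ← Subgroup.orderOf_coe, hw, pow_one]) : IsPGroup 3 (zpowers w)).exists_le_sylow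
    refine ⟨S, (Subgroup.eq_of_le_of_card_ge hS ?_).symm⟩
    obtain ⟨k, hk⟩ := IsPGroup.iff_card.1 S.isPGroup'
    rw [Nat.card_zpowers, ← Subgroup.orderOf_coe, hw, hk]
    have hk1 : k ≤ 1 := by
      by_contra hlt
      refine not_nine_dvd hb ho hle hbs h3 (dvd_trans ?_ (Subgroup.card_subgroup_dvd_card (S : Subgroup X)))
      rw [hk, show 9 = 3 ^ 2 by norm_num]
      exact pow_dvd_pow 3 (by omega)
    calc 3 ^ k ≤ 3 ^ 1 := Nat.pow_le_pow_right (by norm_num) hk1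
      _ = 3 := by norm_num
  obtain ⟨S, hS⟩ := hB (w := ⟨y, hy⟩) hy3
  obtain ⟨T, hT⟩ := hB (w := ⟨D.v b, hbs.2⟩) (D.orderOf_v hb)
  obtain ⟨c, hc⟩ := MulAction.exists_smul_eq X S T
  have h1 : c * ⟨y, hy⟩ * c⁻¹ ∈ (T : Subgroup X) := by
    rw [← hc, Sylow.coe_subgroup_smul]
    exact Subgroup.smul_mem_pointwise_smul _ (MulAut.conj c) _ (hS ▸ mem_zpowers _)
  rw [hT] at h1
  obtain ⟨i, hi⟩ := h1
  have h2 : (c : G) * y * (c : G)⁻¹ ∈ D.fixJ s := by
    have h := congrArg Subtype.val hi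
    rw [show (c : G) * y * (c : G)⁻¹ = D.v b ^ i by
      exact (h.symm.trans (by rw [SubgroupClass.coe_zpow]))]
    exact zpow_mem hbs i
  obtain ⟨d, hd⟩ := D.mem_J.1 h2.1
  exact ⟨c, d, hd.symm, hd ▸ h2⟩

end Data

end Cfsg.Agent.Recog.SymNine
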