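import Cfsg.Agent.Lib.Recog.SymNine.Shape

/-!
Either the line of the centre is fixed, or in suitable coordinates the normalizer is monomial.
-/

set_option autoImplicit false
set_option linter.style.haveILetI false
set_option linter.unusedSectionVars false
set_option synthInstance.maxSize 4096
set_option maxRecDepth 100000

namespace Cfsg.Agent.Recog.SymNine

open Subgroup

universe u

theorem plane_coords : ∀ a : V3, (a 0 + (a 1 + a 2)) • (Pi.single 0 1 : V3) + (-(a 1 + a 2)) • one3 +
    (-(a 1 - a 2)) • yW = a := by decide +kernel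

theorem yW_facts : yW ≠ 0 ∧ yW ≠ one3 ∧ yW ≠ -one3 ∧ (∀ a : V3, -a = a → a = 0) ∧
    (∀ i : Fin 3, (cyc ^ (i : ℕ) = 1 ∨ cyc ^ (i : ℕ) = cyc ∨ cyc ^ (i : ℕ) = cyc * cyc)) ∧
    cyc⁻¹ = cyc * cyc := by decide +kernel

/-- The seven or nine points forced by two orbits of the cycle. -/
def nine (y z : V3) : List V3 :=
  [one3, y, pm cyc y, pm cyc (pm cyc y), z, pm cyc z, pm cyc (pm cyc z), -one3, -y]

theorem nine_nodup : ∀ y z : V3, y ≠ 0 → y ≠ one3 → y ≠ -one3 → z ≠ 0 → z ≠ one3 → z ≠ -one3 →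
    (∀ i : Fin 3, z ≠ pm (cyc ^ (i : ℕ)) y ∧ z ≠ -pm (cyc ^ (i : ℕ)) y) → (nine y z).Nodup := by
  decide +kernel

namespace Data

variable {G : Type u} [Group G] [Finite G] (D : Data G)

/-- A vector outside the line of the centre lies in few orbits of the cycle. -/
theorem orbit_sub (hc : (D.orbit.card = 4 ∧ -one3 ∉ D.orbit) ∨ (D.orbit.card = 8 ∧ -one3 ∈ D.orbit))
    {y z : V3} (hy : y ∈ D.orbit) (hy1 : y ≠ one3) (hy2 : y ≠ -one3) (hz : z ∈ D.orbit) :
    z = one3 ∨ z = -one3 ∨ ∃ i : Fin 3, z = pm (cyc ^ (i : ℕ)) y ∨ z = -pm (cyc ^ (i : ℕ)) y := by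
  classical
  by_contra hcon
  push Not at hcon
  have hnd := nine_nodup y z (D.orbit_ne hy) hy1 hy2 (D.orbit_ne hz) hcon.1 hcon.2.1 hcon.2.2
  have hmem : ∀ a ∈ (nine y z).take 7, a ∈ D.orbit := by
    intro a ha
    simp only [nine, List.take_succ_cons, List.take_zero, List.mem_cons, List.not_mem_nil, or_false] at ha
    rcases ha with rfl | rfl | rfl | rfl | rfl | rfl | rfl
    exacts [D.one3_mem, hy, D.pm_orbit _ hy, D.pm_orbit _ (D.pm_orbit _ hy), hz, D.pm_orbit _ hz,
      D.pm_orbit _ (D.pm_orbit _ hz)]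
  rcases hc with ⟨h4, -⟩ | ⟨h8, hneg⟩
  · have h := Finset.card_le_card (s := ((nine y z).take 7).toFinset) (t := D.orbit)
      fun a ha => hmem a (List.mem_toFinset.1 ha)
    rw [List.toFinset_card_of_nodup (hnd.take), h4] at h
    simp [nine] at h
  · have h := Finset.card_le_card (s := (nine y z).toFinset) (t := D.orbit) fun a ha => by
      have ha' := List.mem_toFinset.1 ha
      simp only [nine, List.mem_cons, List.not_mem_nil, or_false] at ha'
      rcases ha' with rfl | rfl | rfl | rfl | rfl | rfl | rfl | rfl | rfl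
      exacts [D.one3_mem, hy, D.pm_orbit _ hy, D.pm_orbit _ (D.pm_orbit _ hy), hz, D.pm_orbit _ hz,
        D.pm_orbit _ (D.pm_orbit _ hz), hneg, D.orbit_neg hneg hy]
    rw [List.toFinset_card_of_nodup hnd, h8] at h
    simp [nine] at h

theorem act_list {l : List G} (hl : ∀ z ∈ l, z ∈ D.N) :
    l.prod ∈ D.N ∧ ∀ a, D.act l.prod a = l.foldr D.act a := by
  induction l with
  | nil => exact ⟨one_mem _, fun a => by rw [List.prod_nil, D.act_one]; rfl⟩
  | cons z l ih =>
    obtain ⟨h1, h2⟩ := ih fun z' hz' => hl z' (List.mem_cons_of_mem _ hz')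
    have hz := hl z List.mem_cons_self
    rw [List.prod_cons]
    exact ⟨mul_mem hz h1, fun a => by rw [D.act_mul hz h1, h2]; rfl⟩

/-- The plane configuration does not occur. -/
theorem no_plane (hc : (D.orbit.card = 4 ∧ -one3 ∉ D.orbit) ∨ (D.orbit.card = 8 ∧ -one3 ∈ D.orbit))
    {y : V3} (hy : y ∈ D.orbit) (hyW : y = yW ∨ y = -yW) : False := by
  obtain ⟨hW0, hW1, hW2, hneg, hpow, hcinv⟩ := yW_facts
  obtain ⟨g, hg, hgy⟩ := D.mem_orbit.1 hy
  set c := D.el 0 cyc
  have hc' : c ∈ D.N := D.el_mem_N 0 cyc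
  set h := g * c * g⁻¹ with hhdef
  have hh : h ∈ D.N := mul_mem (mul_mem hg hc') (inv_mem hg)
  have hh_act : ∀ a, D.act h a = D.act g (pm cyc (D.act g⁻¹ a)) := fun a => by
    rw [hhdef, D.act_mul (mul_mem hg hc') (inv_mem hg), D.act_mul hg hc', D.act_el]
  have hfix : ∀ a, D.act h a = a → a = 0 ∨ a = y ∨ a = -y := by
    intro a ha
    rw [hh_act] at ha
    have h1 : pm cyc (D.act g⁻¹ a) = D.act g⁻¹ a := by
      rw [← D.act_inv_cancel hg (pm cyc _), ha]
    have h2 := D.act_inv_cancel (inv_mem hg) a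
    rw [inv_inv] at h2
    rcases cyc_fixed.1 _ h1 with e | e | e <;> rw [e] at h2
    · rw [D.act_zero hg] at h2; exact Or.inl h2.symm
    · rw [hgy] at h2; exact Or.inr (Or.inl h2.symm)
    · rw [D.act_neg hg, hgy] at h2; exact Or.inr (Or.inr h2.symm)
  have hhy : D.act h y = y := by rw [hh_act, ← hgy, D.act_inv_cancel hg, pm_one3]
  have hhW : D.act h yW = yW := by
    rcases hyW with e | e
    · rw [← e, hhy]
    · have := congrArg Neg.neg hhy
      rw [← D.act_neg hh] at this
      rwa [e, neg_neg] at this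
  have hfix' : ∀ a, D.act h a = a → a = 0 ∨ a = yW ∨ a = -yW := fun a ha => by
    rcases hfix a ha with e | e | e <;> rcases hyW with f | f <;> simp [e, f]
  have hh3 : ∀ a, D.act h (D.act h (D.act h a)) = a := fun a => by
    rw [hh_act, hh_act, hh_act, D.act_inv_cancel hg, D.act_inv_cancel hg,
      (show ∀ b : V3, pm cyc (pm cyc (pm cyc b)) = b by decide +kernel)]
    have h2 := D.act_inv_cancel (inv_mem hg) a
    rwa [inv_inv] at h2
  have hne : ∀ a, D.act h one3 = a → (a = one3 ∨ a = -one3 ∨ a = yW ∨ a = -yW) → False := by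
    rintro a ha (rfl | rfl | rfl | rfl)
    · rcases hfix' _ ha with e | e | e
      exacts [one3_ne e, hW1 e.symm, hW2 (by rw [e, neg_neg])]
    · have h2 := hh3 one3
      rw [ha, D.act_neg hh, ha, neg_neg, ha] at h2
      exact one3_ne (hneg _ h2)
    · exact hW1 (D.act_inj hh (ha.trans hhW.symm)).symm
    · exact hW2 (by rw [D.act_inj hh (ha.trans (by rw [D.act_neg hh, hhW])), neg_neg])
  have hp : D.act h one3 ∈ [pm cyc yW, pm cyc (pm cyc yW), -pm cyc yW, -pm cyc (pm cyc yW)] := by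
    have hy1 : y ≠ one3 ∧ y ≠ -one3 := by
      rcases hyW with rfl | rfl
      exacts [⟨hW1, hW2⟩, ⟨fun e => hW2 (by rw [← e, neg_neg]), fun e => hW1 (neg_injective e)⟩]
    rcases D.orbit_sub hc hy hy1.1 hy1.2 (D.orbit_map hh D.one3_mem) with e | e | ⟨i, e⟩
    · exact (hne _ e (Or.inl rfl)).elim
    · exact (hne _ e (Or.inr (Or.inl rfl))).elim
    · have hn : ∀ σ : S3, pm σ (-yW) = -pm σ yW := fun σ => rfl
      rcases hpow i with f | f | f <;> rw [f] at e <;> rcases hyW with rfl | rfl <;>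
        (try simp only [hn, neg_neg, pm_one, pm_mul] at e)
      all_goals rcases e with e | e
      all_goals first
        | exact (hne _ e (Or.inr (Or.inr (Or.inl rfl)))).elim
        | exact (hne _ e (Or.inr (Or.inr (Or.inr rfl)))).elim
        | simp [e]
  have hlin : D.act h = planeMap (D.act h one3) (D.act h (Pi.single 0 1)) := funext fun a => by
    conv_lhs => rw [← plane_coords a]
    rw [D.act_add hh, D.act_add hh, D.act_smul hh, D.act_smul hh, D.act_smul hh, hhW]
    rfl
  obtain ⟨f, hf, hf1, hf2⟩ := plane_witness _ hp _ (by rw [← hlin]; exact hh3 _)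
    (by rw [← hlin]; exact hh3 _) (by rw [← hlin]; exact hfix')
  have hh' : (fun a => D.act h (D.act h a)) = D.act (h * h) := funext fun a => (D.act_mul hh hh a).symm
  rw [← hlin, hh'] at hf
  obtain ⟨k, k', hk, hk', rfl⟩ : ∃ k k', k ∈ D.N ∧ k' ∈ D.N ∧ f = (D.act k, D.act k') := by
    rcases hf with e | e
    exacts [⟨h, h * h, hh, mul_mem hh hh, e⟩, ⟨h * h, h, mul_mem hh hh, hh, e⟩]
  set d := D.el 0 cyc⁻¹
  have hd : d ∈ D.N := D.el_mem_N 0 _
  set l := [c, k, c, k, c, k', d, k', d, d] with hl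
  have hlN : ∀ z ∈ l, z ∈ D.N := by
    simp only [hl, List.mem_cons, List.not_mem_nil, or_false]
    rintro z (rfl | rfl | rfl | rfl | rfl | rfl | rfl | rfl | rfl | rfl) <;> assumption
  obtain ⟨hw, hwact'⟩ := D.act_list hlN
  set w := l.prod with hwdef
  have hwact : ∀ a, D.act w a = word (D.act k) (D.act k') a := fun a => by
    rw [hwact']
    simp only [hl, word, List.foldr_cons, List.foldr_nil, c, d, D.act_el]
  obtain ⟨a, σ, -, hσ⟩ := D.act_stab hw ((hwact one3).trans hf1)
  obtain ⟨i, hi⟩ := hf2 σ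
  exact hi ((hwact _).symm.trans (hσ _))

/-- The coordinates changed by a map commuting with the blocks. -/
def twistData (b : ZMod 3) : Data G where
  j :=
    { toFun := fun a => D.v (twist b a.toAdd)
      map_one' := by simp [twist, D.v_zero]
      map_mul' := fun a a' => by
        rw [← D.v_add]
        refine congrArg D.v ?_
        funext i
        simp only [twist, toAdd_mul, Pi.add_apply, Pi.smul_apply, smul_eq_mul, one3]
        ring }
  τ := D.τ
  conj σ a := by
    show D.τ σ * D.v (twist b a) * (D.τ σ)⁻¹ = D.v (twist b (pm σ a))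
    rw [D.conj_v, (twist_facts b a).2.2 σ]
  inj a σ h := by
    obtain ⟨h1, h2⟩ := D.inj _ σ h
    refine ⟨?_, h2⟩
    have h3 := (twist_facts (-b) a).1
    rw [neg_neg, show twist b a = 0 from h1] at h3
    simpa [twist] using h3.symm
  cent g hg := by
    have e : twist b one3 = one3 := (twist_facts b 0).2.1
    obtain ⟨a, σ, h⟩ := D.cent g (by
      change g * D.v (twist b one3) = D.v (twist b one3) * g at hg
      rwa [e] at hg)
    exact ⟨twist (-b) a, σ, by
      show g = D.v (twist b (twist (-b) a)) * D.τ σ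
      rw [(twist_facts b a).1]; exact h⟩
  sig K hK hn := D.sig K hK fun a => by
    have h := hn (Multiplicative.ofAdd (twist (-b) a.toAdd))
    change K.map (MulAut.conj (D.v (twist b (twist (-b) a.toAdd)))).toMonoidHom = K at h
    rwa [(twist_facts b a.toAdd).1] at h

theorem twist_J (b : ZMod 3) : (D.twistData b).J = D.J := by
  ext g
  rw [(D.twistData b).mem_J, D.mem_J]
  refine ⟨fun ⟨a, ha⟩ => ⟨twist b a, ha⟩, fun ⟨a, ha⟩ => ⟨twist (-b) a, ?_⟩⟩
  show D.v (twist b (twist (-b) a)) = g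
  rw [(twist_facts b a).1, ha]

theorem twist_N (b : ZMod 3) : (D.twistData b).N = D.N := by rw [N, N, D.twist_J]

theorem twist_orbit (b : ZMod 3) (a : V3) : a ∈ (D.twistData b).orbit ↔ twist b a ∈ D.orbit := by
  rw [(D.twistData b).mem_orbit, D.mem_orbit, D.twist_N]
  refine exists_congr fun n => and_congr_right fun hn => ?_
  have hs := (D.twistData b).act_spec (D.twist_N b ▸ hn) one3
  change n * D.v (twist b one3) * n⁻¹ = D.v (twist b ((D.twistData b).act n one3)) at hs
  rw [(twist_facts b 0).2.1, D.act_spec hn] at hs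
  constructor
  · rintro rfl; exact D.v_inj hs
  · intro h
    have h' := D.v_inj hs
    rw [h] at h'
    have := congrArg (twist (-b)) h'
    have h1 := (twist_facts (-b) a).1
    have h2 := (twist_facts (-b) ((D.twistData b).act n one3)).1
    rw [neg_neg] at h1 h2
    rw [h1, h2] at this
    exact this.symm

/-- The monomial case. -/
def Wide : Prop := (∀ a ∈ D.orbit, a ∈ cubeL) ∧ (y0 ∈ D.orbit ∨ -y0 ∈ D.orbit)

/-- The case with the line of the centre fixed. -/
def Narrow : Prop := ∀ n ∈ D.N, D.act n one3 = one3 ∨ D.act n one3 = -one3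

theorem narrow_or_wide : D.Narrow ∨ ∃ D' : Data G, D'.J = D.J ∧ D'.Wide := by
  classical
  rcases D.orbit_card with h2 | hc
  · left
    intro n hn
    by_contra hcon
    push Not at hcon
    have hz := D.orbit_map hn D.one3_mem
    have h := Finset.card_le_card (s := ({one3, D.act n one3, pm cyc (D.act n one3)} : Finset V3))
      (t := D.orbit) fun a ha => by
        simp only [Finset.mem_insert, Finset.mem_singleton] at ha
        rcases ha with rfl | rfl | rfl
        exacts [D.one3_mem, hz, D.pm_orbit _ hz]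
    obtain ⟨-, -, -, hA, -, -⟩ := pick_fixed _ (D.orbit_ne hz) hcon.1 hcon.2
    have hx : pm cyc (D.act n one3) ≠ one3 := fun e => hcon.1 (by
      rcases cyc_fixed.1 one3 (pm_one3 _) with _ | _ | _ <;>
      exact (show ∀ a : V3, pm cyc a = one3 → a = one3 by decide +kernel) _ e)
    rw [Finset.card_insert_of_notMem (by simp [Ne.symm hcon.1, Ne.symm hx]),
      Finset.card_insert_of_notMem (by simp [Ne.symm hA]), Finset.card_singleton] at h
    omega
  right
  obtain ⟨y₁, hy₁, hy₁1, hy₁2⟩ : ∃ y ∈ D.orbit, y ≠ one3 ∧ y ≠ -one3 := by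
    by_contra hcon
    push Not at hcon
    have h := Finset.card_le_card (s := D.orbit) (t := {one3, -one3}) fun a ha => by
      rw [Finset.mem_insert, Finset.mem_singleton]
      by_cases he : a = one3
      exacts [Or.inl he, Or.inr (hcon a ha he)]
    have := Finset.card_le_two (a := one3) (b := -one3)
    omega
  obtain ⟨-, -, hk, -⟩ := pick_fixed y₁ (D.orbit_ne hy₁) hy₁1 hy₁2
  have htr : ∀ a, pm tr a = one3 → a = one3 := by decide +kernel
  have htr' : ∀ a, pm tr a = -one3 → a = -one3 := by decide +kernel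
  obtain ⟨i, hi⟩ : ∃ i : Fin 3, pm tr y₁ = pm (cyc ^ (i : ℕ)) y₁ ∨ pm tr y₁ = -pm (cyc ^ (i : ℕ)) y₁ := by
    rcases D.orbit_sub hc hy₁ hy₁1 hy₁2 (D.pm_orbit tr hy₁) with e | e | e
    exacts [absurd (htr _ e) hy₁1, absurd (htr' _ e) hy₁2, e]
  obtain ⟨k, hky⟩ := hk i hi
  set y := pm (cyc ^ (k : ℕ)) y₁ with hydef
  have hy : y ∈ D.orbit := D.pm_orbit _ hy₁
  have hy1 : y ≠ one3 ∧ y ≠ -one3 :=
    (show ∀ k : Fin 3, ∀ a : V3, a ≠ one3 → a ≠ -one3 → pm (cyc ^ (k : ℕ)) a ≠ one3 ∧
      pm (cyc ^ (k : ℕ)) a ≠ -one3 by decide +kernel) k y₁ hy₁1 hy₁2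
  obtain ⟨hB, hW, -⟩ := pick_fixed y (D.orbit_ne hy) hy1.1 hy1.2
  rcases hky with e | e
  swap
  · exact (D.no_plane hc hy (hW e)).elim
  obtain ⟨b, hb⟩ := hB e
  set D' := D.twistData b
  refine ⟨D', D.twist_J b, fun a ha => ?_, ?_⟩
  · have ha' := (D.twist_orbit b a).1 ha
    have hpm : ∀ σ : S3, twist b (pm σ y0) = pm σ (twist b y0) := (twist_facts b y0).2.2
    have hinj : ∀ p q, twist b p = twist b q → p = q := fun p q h => by
      have h1 := (twist_facts (-b) p).1
      have h2 := (twist_facts (-b) q).1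
      rw [neg_neg] at h1 h2
      rw [← h1, h, h2]
    have hneg' : ∀ p, twist b (-p) = -twist b p := fun p => by
      funext i
      simp only [twist, Pi.add_apply, Pi.neg_apply, Pi.smul_apply, smul_eq_mul, one3]
      ring
    have h1b : twist b one3 = one3 := (twist_facts b 0).2.1
    rcases D.orbit_sub hc hy hy1.1 hy1.2 ha' with f | f | ⟨j, f⟩
    · rw [hinj a one3 (f.trans h1b.symm)]
      exact (mem_cubeL _).2 fun i => one_ne_zero
    · rw [hinj a (-one3) (by rw [f, hneg', h1b])]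
      exact (mem_cubeL _).2 fun i => neg_ne_zero.2 one_ne_zero
    · have hc1 := y0_facts.2.2.2.2.2.2.2.1 j false
      have hc2 := y0_facts.2.2.2.2.2.2.2.1 j true
      simp only [Bool.false_eq_true, if_false, if_true] at hc1 hc2
      have hn : ∀ σ : S3, ∀ p : V3, pm σ (-p) = -pm σ p := fun σ p => rfl
      rcases hb with g | g <;> change twist b y0 = _ at g
      · rcases f with f | f <;> rw [← g, ← hpm] at f
        · rw [hinj _ _ f]; exact hc1
        · rw [← hneg'] at f; rw [hinj _ _ f]; exact hc2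
      · have g' : y = -twist b y0 := by rw [g, neg_neg]
        rcases f with f | f <;> rw [g', hn, ← hpm] at f
        · rw [← hneg'] at f; rw [hinj _ _ f]; exact hc2
        · rw [neg_neg] at f; rw [hinj _ _ f]; exact hc1
  · rcases hb with g | g
    · exact Or.inl ((D.twist_orbit b _).2 (by rw [show twist b y0 = y from g]; exact hy))
    · refine Or.inr ((D.twist_orbit b _).2 ?_)
      have h : twist b (-y0) = y := by
        rw [← neg_neg y, ← show twist b y0 = -y from g]
        funext i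
        simp only [twist, Pi.add_apply, Pi.neg_apply, Pi.smul_apply, smul_eq_mul, one3]
        ring
      rwa [h]

/-- In the wide case the action is monomial. -/
theorem wide_mon (hw : D.Wide) {g : G} (hg : g ∈ D.N) :
    ∃ e ∈ cubeL, ∃ σ : S3, ∀ a, D.act g a = mon e σ a := by
  obtain ⟨hcube, hy⟩ := hw
  obtain ⟨-, h1, h1', hu0, hu1, hu2, hsum, -, hd1, hd2, hd3, hd4⟩ := y0_facts
  have hsym : ∀ a ∈ cubeL, -a ∈ cubeL := by decide +kernel
  have hmem : ∀ a, a ∈ D.orbit ∨ -a ∈ D.orbit → D.act g a ∈ cubeL := fun a ha => by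
    rcases ha with h | h
    · exact hcube _ (D.orbit_map hg h)
    · have := hsym _ (hcube _ (D.orbit_map hg h))
      rwa [D.act_neg hg, neg_neg] at this
  have hy1 : pm cyc y0 ∈ D.orbit ∨ -pm cyc y0 ∈ D.orbit :=
    hy.imp (D.pm_orbit cyc) fun h => D.pm_orbit cyc (a := -y0) h
  have hy2 : pm cyc (pm cyc y0) ∈ D.orbit ∨ -pm cyc (pm cyc y0) ∈ D.orbit :=
    hy1.imp (D.pm_orbit cyc) fun h => D.pm_orbit cyc (a := -pm cyc y0) h
  have hinj := D.act_inj hg
  have hn := fun a => D.act_neg hg a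
  have hd : -(D.act g one3 + D.act g y0 + D.act g (pm cyc y0)) = D.act g (pm cyc (pm cyc y0)) := by
    rw [← D.act_add hg, ← D.act_add hg, ← hn, hsum]
  obtain ⟨σ, e, he, e0, e1, e2⟩ := cube_frame _ (hmem _ (Or.inl D.one3_mem)) _ (hmem _ hy) _ (hmem _ hy1)
    (by rw [hd]; exact hmem _ hy2) (fun h => h1 (hinj h)) (fun h => h1' (hinj (h.trans (hn _).symm)))
    (fun h => hd3 (hinj h)) (fun h => hd4 (hinj (h.trans (hn _).symm)))
    (fun h => hd1 (hinj h)) (fun h => hd2 (hinj (h.trans (hn _).symm)))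
  rw [← D.act_add hg, ← hn, hu0] at e0
  rw [← D.act_add hg, ← hn, hu1] at e1
  rw [hd, ← D.act_add hg, ← hn, hu2] at e2
  refine ⟨e, he, σ, fun a => ?_⟩
  rw [D.act_lin hg, e0, e1, e2, ← mon_unit, ← mon_unit, ← mon_unit]
  conv_rhs => rw [← decomp3 a]
  funext i
  simp only [mon, Pi.add_apply, Pi.smul_apply, smul_eq_mul]
  ring

end Data

end Cfsg.Agent.Recog.SymNine
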